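import Cfsg.Agent.Lib.TransGL.Defs

/-!
# Transitive linear groups over `F₂`: orbits on vectors and functionals (S4179)
-/

set_option autoImplicit false
set_option linter.style.haveILetI false
set_option linter.unusedSectionVars false

namespace CfsgLib.TransGL

open Module MulAction

variable {V : Type*} [AddCommGroup V] [Module (ZMod 2) V]

theorem zmod_two_cases (c : ZMod 2) : c = 0 ∨ c = 1 := by
  revert c; decide

theorem add_self_v (x : V) : x + x = 0 := ZModModule.add_self x

theorem sub_eq_add_v (x y : V) : x - y = x + y := ZModModule.sub_eq_add x y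

theorem neg_eq_v (x : V) : -x = x := ZModModule.neg_eq_self x

theorem add_eq_zero_v {x y : V} (h : x + y = 0) : x = y := by
  rw [← sub_eq_zero, sub_eq_add_v, h]

theorem mem_span_one {v x : V} : x ∈ Submodule.span (ZMod 2) {v} ↔ x = 0 ∨ x = v := by
  rw [Submodule.mem_span_singleton]
  constructor
  · rintro ⟨c, rfl⟩
    rcases zmod_two_cases c with rfl | rfl <;> simp
  · rintro (rfl | rfl)
    exacts [⟨0, zero_smul _ _⟩, ⟨1, one_smul _ _⟩]

theorem map_eq_zero_iff' (g : LAut V) {x : V} : g x = 0 ↔ x = 0 := LinearEquiv.map_eq_zero_iff g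

theorem Indep2.map (g : LAut V) {a b : V} (h : Indep2 a b) : Indep2 (g a) (g b) :=
  ⟨fun e => h.1 (g.map_eq_zero_iff.1 e), fun e => h.2.1 (g.map_eq_zero_iff.1 e),
    fun e => h.2.2 (g.injective e)⟩

theorem Indep2.swap {a b : V} (h : Indep2 a b) : Indep2 b a := ⟨h.2.1, h.1, h.2.2.symm⟩

theorem Indep2.add_right {a b : V} (h : Indep2 a b) : Indep2 a (a + b) :=
  ⟨h.1, fun e => h.2.2 (add_eq_zero_v e), fun e => h.2.1 (left_eq_add.1 e)⟩

theorem Indep2.add_left {a b : V} (h : Indep2 a b) : Indep2 (a + b) b :=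
  ⟨h.add_right.2.1, h.2.1, fun e => h.1 (add_eq_right.1 e)⟩

theorem mem_pstab {H : Subgroup (LAut V)} {a b : V} {g : LAut V} :
    g ∈ pstab H a b ↔ g ∈ H ∧ g a = a ∧ g b = b := Iff.rfl

theorem mem_fixSub {R : Subgroup (LAut V)} {x : V} : x ∈ fixSub R ↔ ∀ r ∈ R, r x = x := Iff.rfl

theorem symm_apply_mul (g h : LAut V) (x : V) : (g * h) x = g (h x) := rfl

theorem inv_apply' (g : LAut V) (x : V) : g⁻¹ x = g.symm x := rfl

variable [Finite V] {H : Subgroup (LAut V)}

instance : Finite (LAut V) := Finite.of_injective (fun g : LAut V => (g : V → V)) DFunLike.coe_injective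

theorem card_submodule (S : Submodule (ZMod 2) V) :
    Nat.card S = 2 ^ finrank (ZMod 2) S := by
  rw [Module.natCard_eq_pow_finrank (K := ZMod 2), Nat.card_eq_fintype_card, ZMod.card]

theorem card_space : Nat.card V = 2 ^ finrank (ZMod 2) V := by
  rw [Module.natCard_eq_pow_finrank (K := ZMod 2), Nat.card_eq_fintype_card, ZMod.card]

theorem exists_indep (hn : 2 ≤ finrank (ZMod 2) V) {a : V} (ha : a ≠ 0) : ∃ b : V, Indep2 a b := by
  have hlt : Submodule.span (ZMod 2) {a} ≠ ⊤ := by
    intro e
    have h1 := congrArg (fun S : Submodule (ZMod 2) V => finrank (ZMod 2) S) e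
    simp only [finrank_span_singleton ha, finrank_top] at h1
    omega
  obtain ⟨b, -, hb⟩ := SetLike.exists_of_lt (lt_top_iff_ne_top.2 hlt)
  rw [mem_span_one, not_or] at hb
  exact ⟨b, ha, hb.1, Ne.symm hb.2⟩

theorem Pair2.trans (h2 : Pair2 H) (hn : 2 ≤ finrank (ZMod 2) V) {a b : V} (ha : a ≠ 0) (hb : b ≠ 0) :
    ∃ h ∈ H, h a = b := by
  obtain ⟨a', ha'⟩ := exists_indep hn ha
  obtain ⟨b', hb'⟩ := exists_indep hn hb
  obtain ⟨h, hh, h1, -⟩ := h2 a a' b b' ha' hb'
  exact ⟨h, hh, h1⟩

/-- A `2`-group fixes a nonzero vector of an invariant nonzero subspace. -/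
theorem exists_fixed {T : Subgroup (LAut V)} (hT : IsPGroup 2 T) (S : Submodule (ZMod 2) V)
    (hinv : ∀ t ∈ T, ∀ x ∈ S, t x ∈ S) (hS : S ≠ ⊥) : ∃ v ∈ S, v ≠ 0 ∧ ∀ t ∈ T, t v = v := by
  letI : MulAction T S :=
    { smul := fun t x => ⟨(t : LAut V) x, hinv t t.2 x x.2⟩
      one_smul := fun x => rfl
      mul_smul := fun s t x => rfl }
  haveI := Fact.mk Nat.prime_two
  have hd : 2 ∣ Nat.card S := by
    rw [card_submodule]
    exact dvd_pow_self 2 fun e => hS (Submodule.finrank_eq_zero.1 e)
  have h0 : (0 : S) ∈ fixedPoints T S := fun t => Subtype.ext (map_zero (t : LAut V))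
  obtain ⟨b, hb, hne⟩ := hT.exists_fixed_point_of_prime_dvd_card_of_fixed_point S hd h0
  exact ⟨b, b.2, fun e => hne (Subtype.ext e.symm),
    fun t ht => congrArg Subtype.val (hb ⟨t, ht⟩)⟩

/-- A `2`-group fixes a nonzero coset of an invariant proper subspace. -/
theorem exists_fixed_quot {T : Subgroup (LAut V)} (hT : IsPGroup 2 T) (S : Submodule (ZMod 2) V)
    (hinv : ∀ t ∈ T, ∀ x ∈ S, t x ∈ S) (hS : S ≠ ⊤) : ∃ u ∉ S, ∀ t ∈ T, t u + u ∈ S := by
  let Q : Type _ := V ⧸ S
  letI : MulAction T Q :=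
    { smul := fun t => S.mapQ S ((t : LAut V) : V →ₗ[ZMod 2] V) fun x hx => hinv t t.2 x hx
      one_smul := fun q => by
        induction q using Submodule.Quotient.induction_on with
        | H x => rfl
      mul_smul := fun s t q => by
        induction q using Submodule.Quotient.induction_on with
        | H x => rfl }
  haveI := Fact.mk Nat.prime_two
  haveI : Finite Q := Finite.of_surjective _ (Submodule.mkQ_surjective S)
  have hd : 2 ∣ Nat.card Q := by
    rw [Module.natCard_eq_pow_finrank (K := ZMod 2) (V := Q), Nat.card_eq_fintype_card, ZMod.card]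
    refine dvd_pow_self 2 fun e => hS ?_
    have h1 := S.finrank_quotient_add_finrank
    exact Submodule.eq_top_of_finrank_eq (by simp only [Q] at e; omega)
  have h0 : (Submodule.Quotient.mk 0 : Q) ∈ fixedPoints T Q := fun t => by
    show Submodule.Quotient.mk ((t : LAut V) 0) = _
    rw [map_zero]
  obtain ⟨b, hb, hne⟩ := hT.exists_fixed_point_of_prime_dvd_card_of_fixed_point Q hd h0
  induction b using Submodule.Quotient.induction_on with
  | H u =>
    refine ⟨u, fun hu => hne ((Submodule.Quotient.eq S).2 (by rw [zero_sub, neg_eq_v]; exact hu)),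
      fun t ht => ?_⟩
    have h1 := hb ⟨t, ht⟩
    rw [← sub_eq_add_v]
    exact (Submodule.Quotient.eq S).1 h1

/-- The action on functionals. -/
@[reducible] def dualAct : MulAction (LAut V) (Dual (ZMod 2) V) where
  smul g f := f ∘ₗ (g.symm : V →ₗ[ZMod 2] V)
  one_smul f := rfl
  mul_smul g h f := rfl

theorem exists_apply_eq_one {f : Dual (ZMod 2) V} (hf : f ≠ 0) : ∃ x : V, f x = 1 := by
  by_contra h
  push Not at h
  exact hf (LinearMap.ext fun x => (zmod_two_cases (f x)).resolve_right (h x))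

theorem exists_dual_eq_one {v : V} (hv : v ≠ 0) : ∃ f : Dual (ZMod 2) V, f v = 1 := by
  obtain ⟨f, hf⟩ := Module.Projective.exists_dual_ne_zero (ZMod 2) hv
  exact ⟨f, (zmod_two_cases _).resolve_left hf⟩

theorem card_fixed_dual (g : LAut V) :
    Nat.card {x : V // g x = x} = Nat.card {f : Dual (ZMod 2) V // f ∘ₗ (g.symm : V →ₗ[ZMod 2] V) = f} := by
  let a : V →ₗ[ZMod 2] V := (g : V →ₗ[ZMod 2] V) - LinearMap.id
  have h1 : Nat.card {x : V // g x = x} = Nat.card (LinearMap.ker a) :=
    Nat.card_congr (Equiv.subtypeEquivRight fun x => by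
      simp only [LinearMap.mem_ker, a, LinearMap.sub_apply, LinearMap.id_apply, LinearEquiv.coe_coe,
        sub_eq_zero])
  have h2 : Nat.card {f : Dual (ZMod 2) V // f ∘ₗ (g.symm : V →ₗ[ZMod 2] V) = f} =
      Nat.card (LinearMap.ker a.dualMap) :=
    Nat.card_congr (Equiv.subtypeEquivRight fun f => by
      rw [LinearMap.mem_ker]
      constructor
      · intro h
        ext x
        have h3 := LinearMap.congr_fun h (g x)
        simp only [LinearMap.comp_apply, LinearEquiv.coe_coe, LinearEquiv.symm_apply_apply] at h3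
        simp only [a, LinearMap.dualMap_apply, LinearMap.sub_apply, LinearMap.id_apply, map_sub,
          LinearEquiv.coe_coe, LinearMap.zero_apply]
        rw [h3, sub_self]
      · intro h
        ext x
        have h3 := LinearMap.congr_fun h (g.symm x)
        simp only [a, LinearMap.dualMap_apply, LinearMap.sub_apply, LinearMap.id_apply, map_sub,
          LinearEquiv.coe_coe, LinearEquiv.apply_symm_apply, LinearMap.zero_apply, sub_eq_zero] at h3
        exact h3.symm)
  rw [h1, h2, Module.natCard_eq_pow_finrank (K := ZMod 2) (V := LinearMap.ker a),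
    Module.natCard_eq_pow_finrank (K := ZMod 2) (V := LinearMap.ker a.dualMap)]
  congr 1
  have h3 := a.finrank_range_add_finrank_ker
  have h4 := a.dualMap.finrank_range_add_finrank_ker
  rw [LinearMap.finrank_range_dualMap_eq_finrank_range, Subspace.dual_finrank_eq] at h4
  omega

/-- The stabilizer of `v` is transitive on the functionals not killing `v`. -/
theorem exists_stab_map_functional (h2 : Pair2 H) (hn : 2 ≤ finrank (ZMod 2) V) {v : V} (hv : v ≠ 0)
    {f f' : Dual (ZMod 2) V} (hf : f v = 1) (hf' : f' v = 1) :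
    ∃ h ∈ H, h v = v ∧ ∀ x, f' (h x) = f x := by
  classical
  haveI : Finite (Dual (ZMod 2) V) := Finite.of_injective _ DFunLike.coe_injective
  let S : Subgroup (LAut V) :=
    { carrier := {g | g ∈ H ∧ g v = v}
      one_mem' := ⟨one_mem H, rfl⟩
      mul_mem' := fun {g k} hg hk => ⟨mul_mem hg.1 hk.1, by rw [symm_apply_mul, hk.2, hg.2]⟩
      inv_mem' := fun {g} hg => ⟨inv_mem hg.1, by
        show g.symm v = v
        rw [LinearEquiv.symm_apply_eq, hg.2]⟩ }
  letI : MulAction (LAut V) (Dual (ZMod 2) V) := dualAct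
  haveI := Fintype.ofFinite S
  haveI := Fintype.ofFinite V
  haveI := Fintype.ofFinite (Dual (ZMod 2) V)
  haveI := Fintype.ofFinite (Quotient (orbitRel S V))
  haveI := Fintype.ofFinite (Quotient (orbitRel S (Dual (ZMod 2) V)))
  -- equal numbers of orbits
  have hb1 := sum_card_fixedBy_eq_card_orbits_mul_card_group S V
  have hb2 := sum_card_fixedBy_eq_card_orbits_mul_card_group S (Dual (ZMod 2) V)
  have hsum : (∑ a : S, Fintype.card (fixedBy V a)) =
      ∑ a : S, Fintype.card (fixedBy (Dual (ZMod 2) V) a) :=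
    Finset.sum_congr rfl fun a _ => by
      rw [← Nat.card_eq_fintype_card, ← Nat.card_eq_fintype_card]
      exact card_fixed_dual (a : LAut V)
  have horb : Nat.card (Quotient (orbitRel S V)) = Nat.card (Quotient (orbitRel S (Dual (ZMod 2) V))) := by
    rw [hb1, hb2] at hsum
    rw [Nat.card_eq_fintype_card, Nat.card_eq_fintype_card]
    exact Nat.eq_of_mul_eq_mul_right Fintype.card_pos hsum
  -- three orbits on vectors
  obtain ⟨u, hu⟩ := exists_indep hn hv
  have h3 : Nat.card (Quotient (orbitRel S V)) ≤ 3 := by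
    have hs : Function.Surjective fun i : Fin 3 => (Quotient.mk (orbitRel S V) (![0, v, u] i)) := by
      intro q
      induction q using Quotient.inductionOn with
      | h x =>
        by_cases hx0 : x = 0
        · exact ⟨0, by rw [hx0]; rfl⟩
        by_cases hxv : x = v
        · exact ⟨1, by rw [hxv]; rfl⟩
        obtain ⟨h, hh, h1, h2'⟩ := h2 v x v u ⟨hv, hx0, Ne.symm hxv⟩ hu
        exact ⟨2, Quotient.sound (orbitRel_apply.2 ⟨⟨h, hh, h1⟩, h2'⟩)⟩
    have := Nat.card_le_card_of_surjective _ hs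
    rwa [Nat.card_fin] at this
  -- the three kinds of functionals
  let kind : Dual (ZMod 2) V → Fin 3 := fun φ => if φ v = 1 then 2 else if φ = 0 then 0 else 1
  have hinv : ∀ (φ ψ : Dual (ZMod 2) V), (orbitRel S (Dual (ZMod 2) V)).r φ ψ → kind φ = kind ψ := by
    intro φ ψ hr
    obtain ⟨s, hs⟩ := orbitRel_apply.1 hr
    have hval : φ v = ψ v := by
      rw [← hs]
      show ψ ((s : LAut V).symm v) = ψ v
      rw [show (s : LAut V).symm v = v from (LinearEquiv.symm_apply_eq _).2 s.2.2.symm]
    have hzero : φ = 0 ↔ ψ = 0 := by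
      rw [← hs]
      show ψ ∘ₗ ((s : LAut V).symm : V →ₗ[ZMod 2] V) = 0 ↔ ψ = 0
      refine ⟨fun h => LinearMap.ext fun x => ?_, fun h => by rw [h, LinearMap.zero_comp]⟩
      have := LinearMap.congr_fun h ((s : LAut V) x)
      simpa using this
    simp only [kind, hval, hzero]
  have hsur : Function.Surjective (Quotient.lift kind hinv) := by
    intro i
    fin_cases i
    · exact ⟨Quotient.mk _ 0, by simp [kind]⟩
    · obtain ⟨ψ, hψ⟩ := exists_dual_eq_one hu.2.1
      by_cases hψv : ψ v = 1
      · obtain ⟨χ, hχ⟩ := exists_dual_eq_one (hu.add_right.2.1)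
        rw [map_add] at hχ
        rcases zmod_two_cases (χ v) with e | e
        · refine ⟨Quotient.mk _ χ, ?_⟩
          have : χ ≠ 0 := fun e1 => by simp [e1] at hχ
          simp [kind, e, this]
        · refine ⟨Quotient.mk _ (ψ + χ), ?_⟩
          have hu0 : χ u = 0 := by simpa [e] using hχ
          have h1 : (ψ + χ) v = 0 := by rw [LinearMap.add_apply, hψv, e]; decide
          have : ψ + χ ≠ 0 := fun e1 => by
            have := LinearMap.congr_fun e1 u
            simp [hψ, hu0] at this
          simp only [Quotient.lift_mk, kind, h1]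
          simp [this]
      · refine ⟨Quotient.mk _ ψ, ?_⟩
        have : ψ ≠ 0 := fun e1 => by simp [e1] at hψ
        simp [kind, hψv, this]
    · exact ⟨Quotient.mk _ f, by simp [kind, hf]⟩
  have hinj : Function.Injective (Quotient.lift kind hinv) := by
    refine (Function.Surjective.bijective_of_nat_card_le hsur ?_).1
    rw [Nat.card_fin, ← horb]
    exact h3
  have hq : Quotient.mk (orbitRel S (Dual (ZMod 2) V)) f' = Quotient.mk _ f :=
    hinj (by simp [kind, hf, hf'])
  obtain ⟨s, hs⟩ := orbitRel_apply.1 (Quotient.exact hq)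
  refine ⟨s, s.2.1, s.2.2, fun x => ?_⟩
  rw [← hs]
  show f ((s : LAut V).symm ((s : LAut V) x)) = f x
  rw [LinearEquiv.symm_apply_apply]

/-- The stabilizer of a functional is transitive where it is one. -/
theorem exists_map_of_apply_one (h2 : Pair2 H) (hn : 2 ≤ finrank (ZMod 2) V) {f : Dual (ZMod 2) V}
    {x y : V} (hx : f x = 1) (hy : f y = 1) : ∃ h ∈ H, (∀ z, f (h z) = f z) ∧ h x = y := by
  have hx0 : x ≠ 0 := fun e => by simp [e] at hx
  have hy0 : y ≠ 0 := fun e => by simp [e] at hy
  obtain ⟨h, hh, hxy⟩ := h2.trans hn hx0 hy0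
  have hf' : (f ∘ₗ (h.symm : V →ₗ[ZMod 2] V)) y = 1 := by
    rw [← hxy, LinearMap.comp_apply, LinearEquiv.coe_coe, LinearEquiv.symm_apply_apply, hx]
  obtain ⟨k, hk, hky, hkf⟩ := exists_stab_map_functional h2 hn hy0 hf' hy
  refine ⟨k * h, mul_mem hk hh, fun z => ?_, by rw [symm_apply_mul, hxy, hky]⟩
  rw [symm_apply_mul, hkf]
  simp

end CfsgLib.TransGL
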