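import Cfsg.Agent.Lib.TransGL.Defs
import Cfsg.Agent.Lib.Recog.TransLinearSolvable

/-!
# Transvections and pair transitive linear groups over the field with two elements (S4179)

A pair transitive group containing a transvection is the full general linear group, this group is
perfect in dimension at least three, and pair transitive groups are not solvable.
-/

set_option autoImplicit false

open scoped commutatorElement

namespace CfsgLib.TransGL

variable {V : Type*} [AddCommGroup V] [Module (ZMod 2) V]

private theorem vadd_self (x : V) : x + x = 0 := by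
  rw [← two_smul (ZMod 2) x, show (2 : ZMod 2) = 0 from rfl, zero_smul]

private theorem vadd_cancel (x y : V) : x + (x + y) = y := by
  rw [← add_assoc, vadd_self, zero_add]

private theorem eq_of_vadd {x y : V} (h : x + y = 0) : x = y :=
  calc x = x + y + y := by rw [add_assoc, vadd_self, add_zero]
    _ = y := by rw [h, zero_add]

private theorem zmod_cases (a : ZMod 2) : a = 0 ∨ a = 1 := by
  revert a; decide

/-- A subgroup containing all transvections contains everything. -/
theorem eq_top_of_forall_tv [Finite V] {S : Subgroup (LAut V)}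
    (hS : ∀ (f : Module.Dual (ZMod 2) V) (v : V) (h : f v = 0),
      LinearEquiv.transvection h ∈ S) : S = ⊤ := by
  classical
  rw [eq_top_iff]
  intro g _
  induction hk : Nat.card {x : V // g x ≠ x} using Nat.strong_induction_on generalizing g with
  | h k ih =>
    subst hk
    by_cases hg : ∀ x, g x = x
    · rw [show g = 1 from LinearEquiv.ext hg]
      exact one_mem S
    push Not at hg
    obtain ⟨v, hv⟩ := hg
    let F : Submodule (ZMod 2) V :=
      { carrier := {x | g x = x}
        zero_mem' := map_zero g
        add_mem' := fun {a b} (ha : g a = a) (hb : g b = b) => by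
          show g (a + b) = a + b
          rw [map_add, ha, hb]
        smul_mem' := fun c {x} (hx : g x = x) => by
          show g (c • x) = c • x
          rw [map_smul, hx] }
    set w := g v with hw
    set z := v + w with hz
    have hwn : w ∉ F ⊔ Submodule.span (ZMod 2) {z} := by
      intro hmem
      obtain ⟨x, hx, y, hy, hxy⟩ := Submodule.mem_sup.1 hmem
      obtain ⟨c, rfl⟩ := Submodule.mem_span_singleton.1 hy
      rcases zmod_cases c with rfl | rfl
      · rw [zero_smul, add_zero] at hxy
        have h1 : g x = x := hx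
        rw [hxy] at h1
        exact hv (g.injective h1)
      · rw [one_smul, hz] at hxy
        have h2 : x + v = 0 := by
          have h3 := congrArg (· + w) hxy
          simpa [add_assoc, vadd_self] using h3
        exact hv ((eq_of_vadd h2).symm ▸ hx : g v = v)
    obtain ⟨f, hfw, hfbot⟩ := Submodule.exists_dual_map_eq_bot_of_notMem hwn inferInstance
    have hf0 : ∀ x ∈ F ⊔ Submodule.span (ZMod 2) {z}, f x = 0 := fun x hx => by
      have := Submodule.mem_map_of_mem (f := f) hx
      rwa [hfbot, Submodule.mem_bot] at this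
    have hfz : f z = 0 :=
      hf0 z (Submodule.mem_sup_right (Submodule.mem_span_singleton_self z))
    have hfw1 : f w = 1 := (zmod_cases (f w)).resolve_left hfw
    set t : LAut V := LinearEquiv.transvection hfz with ht
    have hta : ∀ x, t x = x + f x • z := fun x => rfl
    have htw : t w = v := by
      rw [hta, hfw1, one_smul, hz, add_left_comm, vadd_self, add_zero]
    have htF : ∀ x, g x = x → t (g x) = x := fun x hx => by
      rw [hx, hta, hf0 x (Submodule.mem_sup_left hx), zero_smul, add_zero]
    have hlt : Nat.card {x : V // (t * g) x ≠ x} < Nat.card {x : V // g x ≠ x} := by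
      rw [← Set.coe_ofPred, ← Set.coe_ofPred, Nat.card_coe_set_eq, Nat.card_coe_set_eq]
      refine Set.ncard_lt_ncard ⟨fun x hx hgx => hx ?_, fun hsub => ?_⟩ (Set.toFinite _)
      · exact htF x hgx
      · exact hsub (show v ∈ {x : V | g x ≠ x} from hv) htw
    have h2 : t * g ∈ S := ih _ hlt (Subgroup.mem_top (t * g)) rfl
    have h3 := mul_mem (inv_mem (hS f z hfz)) h2
    rwa [← ht, inv_mul_cancel_left] at h3

/-- A transvection is given by a functional and a vector in its kernel. -/
theorem IsTv.exists_eq {g : LAut V} (hg : IsTv g) :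
    ∃ (f : Module.Dual (ZMod 2) V) (z : V) (h : f z = 0),
      f ≠ 0 ∧ z ≠ 0 ∧ g = LinearEquiv.transvection h := by
  classical
  obtain ⟨hne, z, hz⟩ := hg
  have hz0 : z ≠ 0 := fun h => hne (LinearEquiv.ext fun x => by
    rcases hz x with h1 | h1
    · exact h1
    · rwa [h, add_zero] at h1)
  let c : V → ZMod 2 := fun x => if g x = x then 0 else 1
  have hc : ∀ x, g x = x + c x • z := fun x => by
    simp only [c]
    split
    · next h => rw [zero_smul, add_zero, h]
    · next h => rw [one_smul]; exact (hz x).resolve_left h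
  have hcinj : ∀ a b : ZMod 2, a • z = b • z → a = b := fun a b h => by
    rcases zmod_cases a with rfl | rfl <;> rcases zmod_cases b with rfl | rfl
    · rfl
    · simp [eq_comm, hz0] at h
    · simp [hz0] at h
    · rfl
  have hadd : ∀ x y, c (x + y) = c x + c y := fun x y => hcinj _ _ (by
    refine add_left_cancel (a := x + y) ?_
    rw [← hc, map_add, hc, hc, add_smul]
    abel)
  let f : Module.Dual (ZMod 2) V := (AddMonoidHom.mk' c hadd).toZModLinearMap 2
  have hfc : ∀ x, f x = c x := fun x => rfl
  have hfz : f z = 0 := (zmod_cases (f z)).resolve_right fun h => hz0 (g.injective (by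
    rw [hc z, ← hfc, h, one_smul, vadd_self, map_zero]))
  refine ⟨f, z, hfz, fun h => hne (LinearEquiv.ext fun x => ?_), hz0,
    LinearEquiv.ext fun x => hc x⟩
  rw [hc x, ← hfc, h]
  simp

/-- A pair transitive group is transitive. -/
theorem Pair2.exists_map [Finite V] {H : Subgroup (LAut V)} (h2 : Pair2 H)
    (hn : 2 ≤ Module.finrank (ZMod 2) V) {v w : V} (hv : v ≠ 0) (hw : w ≠ 0) :
    ∃ h ∈ H, h v = w := by
  have key : ∀ a : V, ∃ b : V, b ≠ 0 ∧ a ≠ b := fun a => by
    by_contra hcon
    push Not at hcon
    have hle : Submodule.span (ZMod 2) {a} = ⊤ := by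
      refine eq_top_iff.2 fun x _ => ?_
      by_cases hx : x = 0
      · rw [hx]; exact zero_mem _
      · rw [← hcon x hx]; exact Submodule.mem_span_singleton_self a
    have h1 : Module.finrank (ZMod 2) (Submodule.span (ZMod 2) {a}) ≤ 1 := by
      simpa using finrank_span_le_card (R := ZMod 2) ({a} : Set V)
    rw [hle, finrank_top] at h1
    omega
  obtain ⟨b, hb, hvb⟩ := key v
  obtain ⟨e, he, hwe⟩ := key w
  obtain ⟨h, hh, h1, -⟩ := h2 v b w e ⟨hv, hb, hvb⟩ ⟨hw, he, hwe⟩
  exact ⟨h, hh, h1⟩

/-- A pair transitive group containing a transvection is the general linear group. -/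
theorem eq_top_of_isTv [Finite V] {H : Subgroup (LAut V)} (h2 : Pair2 H)
    (hn : 3 ≤ Module.finrank (ZMod 2) V) {t : LAut V} (ht : t ∈ H) (htv : IsTv t) : H = ⊤ := by
  classical
  obtain ⟨f₀, z, hf₀, hf₀0, hz0, rfl⟩ := htv.exists_eq
  refine eq_top_of_forall_tv fun f v hfv => ?_
  by_cases hv0 : v = 0
  · subst hv0
    have h1 : LinearEquiv.transvection hfv = (1 : LAut V) := LinearEquiv.ext fun x => by
      show x + f x • (0 : V) = x
      simp
    rw [h1]
    exact one_mem H
  have hadd : ∀ (a b : Module.Dual (ZMod 2) V) (ha : a v = 0) (hb : b v = 0) (hab : (a + b) v = 0),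
      LinearEquiv.transvection hab =
        (LinearEquiv.transvection ha * LinearEquiv.transvection hb : LAut V) :=
    fun a b ha hb hab => LinearEquiv.ext fun x =>
      (LinearMap.transvection.comp_of_right_eq_apply (g := b) (x := x) ha).symm
  let W₀ : AddSubgroup (Module.Dual (ZMod 2) V) :=
    { carrier := {a | ∃ ha : a v = 0, LinearEquiv.transvection ha ∈ H}
      zero_mem' := ⟨rfl, by
        have h1 : (LinearEquiv.transvection (f := (0 : Module.Dual (ZMod 2) V)) (v := v) rfl) =
            (1 : LAut V) := LinearEquiv.ext fun x => by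
          show x + (0 : ZMod 2) • v = x
          simp
        rw [h1]
        exact one_mem H⟩
      add_mem' := by
        rintro a b ⟨ha, ha'⟩ ⟨hb, hb'⟩
        have hab : (a + b) v = 0 := by simp [ha, hb]
        exact ⟨hab, hadd a b ha hb hab ▸ mul_mem ha' hb'⟩
      neg_mem' := by
        intro a ha
        have : -a = a := LinearMap.ext fun x => by
          rcases zmod_cases (a x) with h | h <;> simp [h]
        rwa [this] }
  let W : Submodule (ZMod 2) (Module.Dual (ZMod 2) V) := AddSubgroup.toZModSubmodule 2 W₀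
  have hW : ∀ a, a ∈ W ↔ ∃ ha : a v = 0, LinearEquiv.transvection ha ∈ H := fun a => Iff.rfl
  -- conjugation moves the centre
  have hconj : ∀ (a : Module.Dual (ZMod 2) V) (u : V) (ha : a u = 0) (h : LAut V)
      (_hh : h ∈ H) (_hm : LinearEquiv.transvection ha ∈ H) (b : Module.Dual (ZMod 2) V)
      (_hbd : ∀ x, b x = a (h.symm x)) (u' : V) (_hu : h u = u') (hb : b u' = 0),
      LinearEquiv.transvection hb ∈ H := by
    intro a u ha h hh hm b hbd u' hu hb
    have h1 : LinearEquiv.transvection hb = h * LinearEquiv.transvection ha * h⁻¹ := by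
      refine LinearEquiv.ext fun x => ?_
      show x + b x • u' = h (h.symm x + a (h.symm x) • u)
      rw [map_add, map_smul, h.apply_symm_apply, hbd, hu]
    rw [h1]
    exact mul_mem (mul_mem hh hm) (inv_mem hh)
  obtain ⟨h₁, hh₁, hh₁v⟩ := h2.exists_map (by omega) hz0 hv0
  let f₁ : Module.Dual (ZMod 2) V := f₀ ∘ₗ h₁.symm.toLinearMap
  have hf₁v : f₁ v = 0 := by
    show f₀ (h₁.symm v) = 0
    rw [← hh₁v, h₁.symm_apply_apply, hf₀]
  have hf₁ : f₁ ∈ W :=
    (hW _).2 ⟨hf₁v, hconj f₀ z hf₀ h₁ hh₁ ht f₁ (fun _ => rfl) v hh₁v hf₁v⟩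
  have hf₁0 : f₁ ≠ 0 := fun h => hf₀0 (LinearMap.ext fun x => by
    have := LinearMap.congr_fun h (h₁ x)
    simpa [f₁] using this)
  have hU : W.dualCoannihilator ≤ Submodule.span (ZMod 2) {v} := by
    intro u hu
    by_contra hunot
    have hu0 : u ≠ 0 := fun h => hunot (h ▸ zero_mem _)
    have huv : v ≠ u := fun h => hunot (h ▸ Submodule.mem_span_singleton_self v)
    refine hf₁0 (LinearMap.ext fun x => ?_)
    by_cases hx : x = 0
    · simp [hx]
    by_cases hxv : v = x
    · rw [← hxv, hf₁v, LinearMap.zero_apply]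
    obtain ⟨h, hh, hhv, hhu⟩ := h2 v u v x ⟨hv0, hu0, huv⟩ ⟨hv0, hx, hxv⟩
    let a : Module.Dual (ZMod 2) V := f₁ ∘ₗ h.toLinearMap
    have hav : a v = 0 := by
      show f₁ (h v) = 0
      rw [hhv, hf₁v]
    obtain ⟨hm', hm⟩ := (hW _).1 hf₁
    have ha : a ∈ W := (hW _).2 ⟨hav,
      hconj f₁ v hm' h⁻¹ (inv_mem hh) hm a (fun _ => rfl) v
        (show h.symm v = v by rw [LinearEquiv.symm_apply_eq, hhv]) hav⟩
    have := (Submodule.mem_dualCoannihilator u).1 hu a ha
    show f₁ x = 0
    rw [← hhu]
    exact this
  have hfW : f ∈ W := by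
    rw [← Subspace.dualCoannihilator_dualAnnihilator_eq (W := W), Submodule.mem_dualAnnihilator]
    intro u hu
    obtain ⟨c, rfl⟩ := Submodule.mem_span_singleton.1 (hU hu)
    rw [map_smul, hfv, smul_zero]
  obtain ⟨_, hm⟩ := (hW _).1 hfW
  exact hm

/-- The general linear group over the field with two elements is perfect in dimension at least three. -/
theorem commutator_top [Finite V] (hn : 3 ≤ Module.finrank (ZMod 2) V) :
    ⁅(⊤ : Subgroup (LAut V)), (⊤ : Subgroup (LAut V))⁆ = ⊤ := by
  classical
  refine eq_top_of_forall_tv fun f v hfv => ?_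
  by_cases hf : f = 0
  · have h1 : LinearEquiv.transvection hfv = (1 : LAut V) := LinearEquiv.ext fun x => by
      show x + f x • v = x
      simp [hf]
    rw [h1]
    exact one_mem _
  have hker : ¬ (LinearMap.ker f ≤ Submodule.span (ZMod 2) {v}) := fun h => by
    have h1 := Submodule.finrank_mono h
    have h2 := LinearMap.finrank_range_add_finrank_ker f
    have h3 : Module.finrank (ZMod 2) (LinearMap.range f) ≤ 1 :=
      (Submodule.finrank_le _).trans (Module.finrank_self (ZMod 2)).le
    have h4 : Module.finrank (ZMod 2) (Submodule.span (ZMod 2) {v}) ≤ 1 := by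
      simpa using finrank_span_le_card (R := ZMod 2) ({v} : Set V)
    omega
  obtain ⟨u, hu, huv⟩ := SetLike.not_le_iff_exists.1 hker
  obtain ⟨g, hgu, hgbot⟩ := Submodule.exists_dual_map_eq_bot_of_notMem huv inferInstance
  have hgv : g v = 0 := by
    have := Submodule.mem_map_of_mem (f := g) (Submodule.mem_span_singleton_self (R := ZMod 2) v)
    rwa [hgbot, Submodule.mem_bot] at this
  have hgu1 : g u = 1 := (zmod_cases (g u)).resolve_left hgu
  have hfu : f u = 0 := LinearMap.mem_ker.1 hu
  set A : LAut V := LinearEquiv.transvection hgv with hA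
  set B : LAut V := LinearEquiv.transvection hfu with hB
  have hinv : ∀ (a : Module.Dual (ZMod 2) V) (w : V) (ha : a w = 0),
      ((LinearEquiv.transvection ha : LAut V))⁻¹ = LinearEquiv.transvection ha := by
    intro a w ha
    refine inv_eq_of_mul_eq_one_right (LinearEquiv.ext fun x => ?_)
    show x + a x • w + a (x + a x • w) • w = x
    rw [map_add, map_smul, ha, smul_zero, add_zero, add_assoc, vadd_self, add_zero]
  have key : ⁅A, B⁆ = LinearEquiv.transvection hfv := by
    rw [commutatorElement_def, hA, hB, hinv, hinv]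
    refine LinearEquiv.ext fun x => ?_
    simp only [LinearEquiv.mul_apply, LinearEquiv.transvection.coe_apply,
      LinearMap.transvection.apply]
    simp only [map_add, map_smul, hgv, hgu1, hfu, hfv, add_zero, smul_eq_mul, mul_zero,
      mul_one]
    rcases zmod_cases (f x) with h | h <;> rcases zmod_cases (g x) with h' | h' <;>
      simp [h, h', vadd_self, vadd_cancel, add_left_comm, add_comm]
  rw [← key]
  exact Subgroup.commutator_mem_commutator (Subgroup.mem_top A) (Subgroup.mem_top B)

/-- A pair transitive group in dimension at least three is not solvable. -/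
theorem not_isSolvable_of_pair2 [Finite V] {H : Subgroup (LAut V)} (h2 : Pair2 H)
    (hn : 3 ≤ Module.finrank (ZMod 2) V) : ¬ Group.IsSolvable ↥H := by
  classical
  intro hsol
  have : Finite (LAut V) := DFunLike.finite _
  have : Nontrivial V := Module.nontrivial_of_finrank_pos (R := ZMod 2) (by omega)
  have : Fact (Nat.Prime 2) := ⟨Nat.prime_two⟩
  let R : ↥H →* Module.End (ZMod 2) V :=
    LinearEquiv.automorphismGroup.toLinearMapMonoidHom.comp H.subtype
  have hR : Function.Injective R := fun g h hgh => Subtype.ext (LinearEquiv.ext fun v =>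
    LinearMap.congr_fun hgh v)
  have htr : ∀ v w : V, v ≠ 0 → w ≠ 0 → ∃ g : ↥H, R g v = w := fun v w hv hw => by
    obtain ⟨h, hh, hvw⟩ := h2.exists_map (by omega) hv hw
    exact ⟨⟨h, hh⟩, hvw⟩
  have hcardV : Nat.card V = 2 ^ Module.finrank (ZMod 2) V := by
    rw [Module.natCard_eq_pow_finrank (K := ZMod 2) (V := V), Nat.card_zmod]
  obtain ⟨F, _, _, e, he⟩ :=
    (CfsgLib.Recog.TransLinear.semilinear_or_small hR hsol htr).resolve_right fun h => by
      have h2' : 2 ∣ Nat.card V := by rw [hcardV]; exact dvd_pow_self 2 (by omega)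
      simp only [Set.mem_insert_iff, Set.mem_singleton_iff] at h
      omega
  have : CharP F 2 := CharTwo.of_one_ne_zero_of_two_eq_zero one_ne_zero (by
    have h1 : e.symm (1 : F) + e.symm 1 = 0 := vadd_self _
    rw [← map_add] at h1
    rw [← one_add_one_eq_two, ← e.apply_symm_apply (1 + 1 : F), h1, map_zero])
  letI : Algebra (ZMod 2) F := ZMod.algebra F 2
  have hcardF : Fintype.card F = 2 ^ Module.finrank (ZMod 2) V := by
    rw [← Nat.card_eq_fintype_card, ← Nat.card_congr e.toEquiv, hcardV]
  have hrank : Module.finrank (ZMod 2) F = Module.finrank (ZMod 2) V := by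
    have h1 := Module.card_eq_pow_finrank (K := ZMod 2) (V := F)
    rw [hcardF, ZMod.card] at h1
    exact (Nat.pow_right_injective le_rfl h1).symm
  set n := Module.finrank (ZMod 2) V
  have h8 : 2 ^ 3 ≤ 2 ^ n := Nat.pow_le_pow_right two_pos hn
  obtain ⟨u, hu⟩ : ∃ u : F, u ∉ ({0, 1} : Finset F) := by
    by_contra hcon
    push Not at hcon
    have h1 := Finset.card_le_card (s := (Finset.univ : Finset F)) (fun x _ => hcon x)
    rw [Finset.card_univ, hcardF] at h1
    have := Finset.card_le_two (a := (0 : F)) (b := 1)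
    omega
  simp only [Finset.mem_insert, Finset.mem_singleton, not_or] at hu
  have hsub : (Finset.univ \ ({0, 1} : Finset F)) ⊆ ((minpoly (ZMod 2) u).aroots F).toFinset := by
    intro w hw
    simp only [Finset.mem_sdiff, Finset.mem_insert, Finset.mem_singleton, not_or] at hw
    have hne : ∀ x : F, x ≠ 0 → e.symm x ≠ 0 := fun x hx h => hx (by
      rw [← e.apply_symm_apply x, h, map_zero])
    obtain ⟨h, hh, h1, hmap⟩ := h2 (e.symm 1) (e.symm u) (e.symm 1) (e.symm w)
      ⟨hne 1 one_ne_zero, hne u hu.1, fun h => hu.2 (e.symm.injective h).symm⟩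
      ⟨hne 1 one_ne_zero, hne w hw.2.1, fun h => hw.2.2 (e.symm.injective h).symm⟩
    obtain ⟨a, σ, hσ⟩ := he ⟨h, hh⟩
    have ha : a = 1 := by
      have h3 := hσ (e.symm 1)
      rw [show R ⟨h, hh⟩ (e.symm 1) = e.symm 1 from h1, e.apply_symm_apply, map_one, mul_one] at h3
      exact h3.symm
    have hσu : σ u = w := by
      have h3 := hσ (e.symm u)
      rw [show R ⟨h, hh⟩ (e.symm u) = e.symm w from hmap, e.apply_symm_apply,
        e.apply_symm_apply, ha, one_mul] at h3
      exact h3.symm
    let φ : F →ₐ[ZMod 2] F :=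
      { σ.toRingHom with
        commutes' := fun r => RingHom.congr_fun
          (RingHom.ext_zmod (σ.toRingHom.comp (algebraMap (ZMod 2) F)) (algebraMap (ZMod 2) F)) r }
    rw [Multiset.mem_toFinset, Polynomial.mem_aroots]
    refine ⟨minpoly.ne_zero (Algebra.IsIntegral.isIntegral u), ?_⟩
    rw [← hσu, show σ u = φ u from rfl, Polynomial.aeval_algHom_apply, minpoly.aeval, map_zero]
  have h1 := Finset.card_le_card hsub
  rw [Finset.card_sdiff_of_subset (Finset.subset_univ _), Finset.card_univ, hcardF] at h1
  have h2' := (Multiset.toFinset_card_le _).trans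
    (Polynomial.card_roots' ((minpoly (ZMod 2) u).map (algebraMap (ZMod 2) F)))
  rw [Polynomial.natDegree_map] at h2'
  have h3 := minpoly.natDegree_le (A := ZMod 2) u
  have h4 := Finset.card_le_two (a := (0 : F)) (b := 1)
  have h5 : ∀ m : ℕ, 3 ≤ m → m + 3 ≤ 2 ^ m := by
    intro m hm
    induction m, hm using Nat.le_induction with
    | base => norm_num
    | succ m hm ihm => rw [pow_succ]; omega
  have h6 := h5 n hn
  rw [Polynomial.aroots_def] at h1
  rw [hrank] at h3
  omega

end CfsgLib.TransGL
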