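import Cfsg.Agent.Lib.TransGL.XLemmas
import Cfsg.Agent.Lib.TransGL.Linear

/-!
# The subspace is the same for all lines of the fixed vectors (S4179)

`Descended` is the situation after Witt descent: `F` the fixed vectors of a Sylow subgroup `R` of the
stabilizer of two vectors, `U` its complement, `N` the normalizer of `R`.
-/

set_option autoImplicit false
set_option linter.style.haveILetI false
set_option linter.unusedSectionVars false

namespace CfsgLib.TransGL

open Module MulAction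
open scoped commutatorElement

variable {V : Type*} [AddCommGroup V] [Module (ZMod 2) V] [Finite V]
  {H : Subgroup (LAut V)} {X : V → V → Submodule (ZMod 2) V} {k : ℕ}

theorem le_setStab {K : Subgroup (LAut V)} (hK : K ≤ H) {S : Submodule (ZMod 2) V}
    (h : ∀ g ∈ K, ∀ x ∈ S, g x ∈ S) : K ≤ setStab H S := fun g hg =>
  ⟨hK hg, fun x => ⟨fun hx => by
    simpa [inv_apply'] using h g⁻¹ (inv_mem hg) _ hx, h g hg x⟩⟩

/-- The situation after Witt descent. -/
structure Descended (H : Subgroup (LAut V)) (X : V → V → Submodule (ZMod 2) V) (k r d : ℕ)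
    (R : Subgroup (LAut V)) (U : Submodule (ZMod 2) V) : Prop where
  ord : orderOf (2 : ZMod r) = d
  dim : k + d = finrank (ZMod 2) V
  le_grp : R ≤ H
  pgroup : IsPGroup r R
  compl : IsCompl (fixSub R) U
  invU : ∀ g ∈ normIn H R, ∀ x ∈ U, g x ∈ U
  fpf : ∀ x ∈ U, (∀ g ∈ R, g x = x) → x = 0
  split : ∀ S : Submodule (ZMod 2) V, (∀ g ∈ R, ∀ x ∈ S, g x ∈ S) →
    finrank (ZMod 2) S = finrank (ZMod 2) ↥(S ⊓ fixSub R) + finrank (ZMod 2) ↥(S ⊓ U)
  two_le : 2 ≤ finrank (ZMod 2) (fixSub R)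
  sub : ∀ a b : V, a ∈ fixSub R → b ∈ fixSub R → Indep2 a b → fixSub R ≤ X a b
  hmax : ∀ a b : V, Indep2 a b → ¬ r * Nat.card R ∣ Nat.card (pstab H a b)
  trans : ∀ a b c e : V, a ∈ fixSub R → b ∈ fixSub R → c ∈ fixSub R → e ∈ fixSub R → Indep2 a b →
    Indep2 c e → ∃ g ∈ normIn H R, g a = c ∧ g b = e

variable {r d : ℕ} [Fact r.Prime] {R : Subgroup (LAut V)} {U : Submodule (ZMod 2) V}

theorem XData.exists_descended (hX : XData H X k) (hd : orderOf (2 : ZMod r) = finrank (ZMod 2) V - k)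
    (hr2 : r ≠ 2) : ∃ R U, Descended H X k r (finrank (ZMod 2) V - k) R U := by
  have hr : (2 : ZMod r) ^ (finrank (ZMod 2) V - k) = 1 := by rw [← hd, pow_orderOf_eq_one]
  obtain ⟨v, u, R, hvu, hv, hu, hRle, hRp, hmax, hsub, htr⟩ := hX.exists_witt hr2 hr
  obtain ⟨U, hc, hinv, hfpf, hsplit⟩ := exists_compl hr2 hRp
  have h2 : 2 ≤ finrank (ZMod 2) (fixSub R) := by
    have hle := Submodule.finrank_mono (show Submodule.span (ZMod 2) {v} ≤ fixSub R from
      (Submodule.span_singleton_le_iff_mem _ _).2 hv)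
    rw [finrank_span_singleton hvu.1] at hle
    by_contra hlt
    have e : Submodule.span (ZMod 2) {v} = fixSub R :=
      Submodule.eq_of_le_of_finrank_le ((Submodule.span_singleton_le_iff_mem _ _).2 hv)
        (by rw [finrank_span_singleton hvu.1]; omega)
    rw [← e, mem_span_one] at hu
    rcases hu with e' | e'
    exacts [hvu.2.1 e', hvu.2.2 e'.symm]
  refine ⟨R, U, hd, ?_, fun g hg => (hRle hg).1, hRp, hc, fun g hg => hinv g hg.2, hfpf, hsplit, h2, hsub,
    fun a b hab => ?_, htr⟩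
  · have := hX.add_two_le
    omega
  · rwa [card_pstab_eq hX.pair2 hvu hab]

namespace Descended

theorem hd0 (D : Descended H X k r d R U) (hX : XData H X k) : 2 ≤ d := by
  have := D.dim
  have := hX.add_two_le
  omega

theorem le_normIn (D : Descended H X k r d R U) : R ≤ normIn H R := fun g hg =>
  ⟨D.le_grp hg, fun x => ⟨fun hx => by
    have := mul_mem (mul_mem (inv_mem hg) hx) hg
    rwa [show g⁻¹ * (g * x * g⁻¹) * g = x by group] at this,
    fun hx => mul_mem (mul_mem hg hx) (inv_mem hg)⟩⟩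

theorem norm_le (H R : Subgroup (LAut V)) : normIn H R ≤ H := fun _ hg => hg.1

theorem le_stabF (_ : Descended H X k r d R U) : normIn H R ≤ setStab H (fixSub R) :=
  le_setStab (norm_le H R) fun _ hg _ hx => normIn_apply_mem hg hx

theorem le_stabU (D : Descended H X k r d R U) : normIn H R ≤ setStab H U :=
  le_setStab (norm_le H R) D.invU

/-- The action of the normalizer on the fixed vectors. -/
def actF (D : Descended H X k r d R U) : normIn H R →* LAut (fixSub R) :=
  (restr H (fixSub R)).comp (Subgroup.inclusion D.le_stabF)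

/-- The action of the normalizer on the complement. -/
def actU (D : Descended H X k r d R U) : normIn H R →* LAut U :=
  (restr H U).comp (Subgroup.inclusion D.le_stabU)

theorem actF_apply (D : Descended H X k r d R U) (g : normIn H R) (x : fixSub R) :
    (D.actF g x : V) = (g : LAut V) x := rfl

theorem actU_apply (D : Descended H X k r d R U) (g : normIn H R) (x : U) :
    (D.actU g x : V) = (g : LAut V) x := rfl

theorem pair2_range (D : Descended H X k r d R U) : Pair2 D.actF.range := by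
  rintro ⟨a, ha⟩ ⟨b, hb⟩ ⟨c, hc⟩ ⟨e, he⟩ hab hce
  have hi : Indep2 a b := ⟨fun h => hab.1 (Subtype.ext h), fun h => hab.2.1 (Subtype.ext h),
    fun h => hab.2.2 (Subtype.ext h)⟩
  have hi' : Indep2 c e := ⟨fun h => hce.1 (Subtype.ext h), fun h => hce.2.1 (Subtype.ext h),
    fun h => hce.2.2 (Subtype.ext h)⟩
  obtain ⟨g, hg, hga, hgb⟩ := D.trans a b c e ha hb hc he hi hi'
  exact ⟨D.actF ⟨g, hg⟩, ⟨_, rfl⟩, Subtype.ext hga, Subtype.ext hgb⟩

theorem X_inv (D : Descended H X k r d R U) (hX : XData H X k) {a b : V} (ha : a ∈ fixSub R)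
    (hb : b ∈ fixSub R) (hab : Indep2 a b) : ∀ g ∈ R, ∀ x ∈ X a b, g x ∈ X a b := by
  intro g hg x hx
  have := (hX.map_mem_iff (D.le_grp hg) hab).2 hx
  rwa [ha g hg, hb g hg] at this

theorem cls_inv (D : Descended H X k r d R U) (hX : XData H X k) {a b : V} (ha : a ∈ fixSub R)
    (hb : b ∈ fixSub R) (hab : Indep2 a b) : ∀ g ∈ R, ∀ x ∈ cls X a b, g x ∈ cls X a b := by
  intro g hg x hx
  have := Submodule.mem_map_of_mem (f := (g : V →ₗ[ZMod 2] V)) hx
  rwa [hX.cls_map (D.le_grp hg) hab, ha g hg, hb g hg] at this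

theorem dvd_part (D : Descended H X k r d R U) (S : Submodule (ZMod 2) V)
    (hS : ∀ g ∈ R, ∀ x ∈ S, g x ∈ S) : d ∣ finrank (ZMod 2) ↥(S ⊓ U) :=
  dvd_finrank D.ord D.pgroup (S ⊓ U)
    (fun g hg x hx => ⟨hS g hg x hx.1, D.invU g (D.le_normIn hg) x hx.2⟩) fun x hx h => D.fpf x hx.2 h

theorem finrank_part (D : Descended H X k r d R U) (hX : XData H X k) {a b : V} (ha : a ∈ fixSub R)
    (hb : b ∈ fixSub R) (hab : Indep2 a b) :
    k = finrank (ZMod 2) (fixSub R) + finrank (ZMod 2) ↥(X a b ⊓ U) := by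
  have := D.split (X a b) (D.X_inv hX ha hb hab)
  rwa [inf_eq_right.2 (D.sub a b ha hb hab), hX.finrank_eq a b hab] at this

theorem finrank_add (D : Descended H X k r d R U) :
    finrank (ZMod 2) (fixSub R) + finrank (ZMod 2) U = finrank (ZMod 2) V :=
  Submodule.finrank_add_eq_of_isCompl D.compl

theorem exists_pair (D : Descended H X k r d R U) :
    ∃ a b : V, a ∈ fixSub R ∧ b ∈ fixSub R ∧ Indep2 a b := by
  obtain ⟨a, ha, ha0⟩ := Submodule.exists_mem_ne_zero_of_ne_bot (p := fixSub R) fun e => by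
    have := D.two_le
    rw [e, finrank_bot] at this
    omega
  obtain ⟨⟨b, hb⟩, hab⟩ := exists_indep (V := fixSub R) D.two_le (a := ⟨a, ha⟩)
    fun e => ha0 (congrArg Subtype.val e)
  exact ⟨a, b, ha, hb, ha0, fun e => hab.2.1 (Subtype.ext e), fun e => hab.2.2 (Subtype.ext e)⟩

/-- Either the complement is irreducible, or it is twice as large and the fixed vectors have odd
dimension at least three. -/
theorem cases_dim (D : Descended H X k r d R U) (hX : XData H X k)
    (h3 : finrank (ZMod 2) V ≤ 3 * d) (hodd : Odd (finrank (ZMod 2) V)) :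
    (finrank (ZMod 2) (fixSub R) = k ∧ finrank (ZMod 2) U = d) ∨
      (finrank (ZMod 2) (fixSub R) + d = k ∧ finrank (ZMod 2) U = 2 * d ∧
        Odd (finrank (ZMod 2) (fixSub R)) ∧ 3 ≤ finrank (ZMod 2) (fixSub R)) := by
  obtain ⟨a, b, ha, hb, hab⟩ := D.exists_pair
  obtain ⟨j, hj⟩ := D.dvd_part _ (D.X_inv hX ha hb hab)
  have h1 := D.finrank_part hX ha hb hab
  have h2 := D.finrank_add
  have h4 := D.dim
  have h5 := D.two_le
  have hd := D.hd0 hX
  rw [hj] at h1
  have hj2 : j ≤ 1 := by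
    by_contra h
    have : d * 2 ≤ d * j := Nat.mul_le_mul_left d (by omega)
    omega
  interval_cases j
  · left; omega
  · right
    have hf : finrank (ZMod 2) V = finrank (ZMod 2) (fixSub R) + 2 * d := by omega
    rw [hf] at hodd
    have ho : Odd (finrank (ZMod 2) (fixSub R)) := by
      rcases Nat.even_or_odd (finrank (ZMod 2) (fixSub R)) with he | ho
      · exact absurd (he.add (even_two_mul d)) (Nat.not_even_iff_odd.2 hodd)
      · exact ho
    refine ⟨by omega, by omega, ho, ?_⟩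
    obtain ⟨i, hi⟩ := ho
    omega

/-- The subspaces are determined by their part in `U`. -/
theorem X_eq_sup (D : Descended H X k r d R U) (hX : XData H X k) {a b : V} (ha : a ∈ fixSub R)
    (hb : b ∈ fixSub R) (hab : Indep2 a b) : X a b = fixSub R ⊔ (X a b ⊓ U) := by
  refine (Submodule.eq_of_le_of_finrank_le (sup_le (D.sub a b ha hb hab) inf_le_left) ?_).symm
  have h := Submodule.finrank_sup_add_finrank_inf_eq (fixSub R) (X a b ⊓ U)
  rw [(D.compl.disjoint.mono_right inf_le_right).eq_bot, finrank_bot, add_zero,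
    ← D.finrank_part hX ha hb hab, ← hX.finrank_eq a b hab] at h
  exact h.ge

end Descended

theorem comm_centralizes {G : Type*} [Group G] {γ a b : G} {i j : ℤ} (ha : a * γ * a⁻¹ = γ ^ i)
    (hb : b * γ * b⁻¹ = γ ^ j) : Commute ⁅a⁻¹, b⁻¹⁆ γ := by
  have h1 : (a * b) * γ * (a * b)⁻¹ = γ ^ (i * j) := by
    rw [show (a * b) * γ * (a * b)⁻¹ = a * (b * γ * b⁻¹) * a⁻¹ by group, hb, ← conj_zpow, ha, zpow_mul]
  have h2 : (b * a) * γ * (b * a)⁻¹ = γ ^ (i * j) := by
    rw [show (b * a) * γ * (b * a)⁻¹ = b * (a * γ * a⁻¹) * b⁻¹ by group, ha, ← conj_zpow, hb,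
      mul_comm i j, zpow_mul]
  have h3 : (a * b) * γ * (a * b)⁻¹ = (b * a) * γ * (b * a)⁻¹ := h1.trans h2.symm
  calc ⁅a⁻¹, b⁻¹⁆ * γ = (b * a)⁻¹ * ((a * b) * γ * (a * b)⁻¹) * (a * b) := by
        rw [commutatorElement_def]; group
    _ = (b * a)⁻¹ * ((b * a) * γ * (b * a)⁻¹) * (a * b) := by rw [h3]
    _ = γ * ⁅a⁻¹, b⁻¹⁆ := by rw [commutatorElement_def]; group

theorem exists_two_element {G M : Type*} [Group G] [Finite G] [Group M] (φ : G →* M) {D : Subgroup G}
    {y : M} (hy : y ∈ D.map φ) (hy2 : orderOf y = 2) :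
    ∃ s ∈ D, φ s = y ∧ ∃ m, s ^ (2 ^ m) = 1 := by
  obtain ⟨s, hs, rfl⟩ := hy
  obtain ⟨m, o, ho, e⟩ := Nat.exists_eq_two_pow_mul_odd (orderOf_pos s).ne'
  refine ⟨s ^ o, pow_mem hs o, ?_, m, by rw [← pow_mul, mul_comm, ← e, pow_orderOf_eq_one]⟩
  obtain ⟨i, rfl⟩ := ho
  rw [map_pow, pow_succ, pow_mul, ← hy2, pow_orderOf_eq_one, one_pow, one_mul]

namespace Descended

variable (D : Descended H X k r d R U)
include D

theorem exists_invol_comm (hf : 3 ≤ finrank (ZMod 2) (fixSub R)) :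
    ∃ y ∈ ((derivedSeries (normIn H R) 1).map D.actF), orderOf y = 2 := by
  haveI := Fact.mk Nat.prime_two
  set J := D.actF.range with hJ
  have hD1 : (derivedSeries (normIn H R) 1).map D.actF = ⁅J, J⁆ := by
    rw [derivedSeries_one, commutator_def, Subgroup.map_commutator, ← MonoidHom.range_eq_map]
  have heven : ¬ Odd (Nat.card (⁅J, J⁆ : Subgroup (LAut (fixSub R)))) := by
    intro hodd
    have hk : Odd (Nat.card (Abelianization.of (G := J)).ker) := by
      rwa [Abelianization.ker_of, ← Subgroup.card_map_of_injective (f := J.subtype) Subtype.val_injective,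
        commutator_def, Subgroup.map_commutator, ← MonoidHom.range_eq_map, Subgroup.range_subtype]
    obtain ⟨t, ht, htv⟩ := exists_isTv_of_abelian_image D.pair2_range hf Abelianization.of
      (fun a b => mul_comm _ _) hk
    have htop : J = ⊤ := eq_top_of_isTv D.pair2_range hf ht htv
    rw [htop, commutator_top hf, Subgroup.card_top] at hodd
    have h2 : orderOf t = 2 := by
      obtain ⟨f, z, hfz, -, -, rfl⟩ := htv.exists_eq
      refine orderOf_eq_prime ?_ htv.1
      refine LinearEquiv.ext fun x => ?_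
      show x + f x • z + f (x + f x • z) • z = x
      rw [map_add, map_smul, hfz, smul_zero, add_zero, add_assoc, add_self_v, add_zero]
    exact Nat.not_even_iff_odd.2 hodd (even_iff_two_dvd.2 ((dvd_of_eq h2.symm).trans (orderOf_dvd_natCard t)))
  rw [hD1]
  obtain ⟨y, hy⟩ := exists_prime_orderOf_dvd_card' (G := (⁅J, J⁆ : Subgroup (LAut (fixSub R)))) 2
    (even_iff_two_dvd.1 (Nat.not_odd_iff_even.1 heven))
  exact ⟨y, y.2, by rw [Subgroup.orderOf_coe, hy]⟩

set_option maxHeartbeats 1000000 in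
/-- When `U` is twice as large, the subspace does not depend on the second point. -/
theorem X_const_right (hX : XData H X k) (hk : finrank (ZMod 2) (fixSub R) + d = k)
    (hU : finrank (ZMod 2) U = 2 * d) (hodd : Odd (finrank (ZMod 2) (fixSub R)))
    (hf : 3 ≤ finrank (ZMod 2) (fixSub R)) {a b c : V} (ha : a ∈ fixSub R) (hb : b ∈ fixSub R)
    (hc : c ∈ fixSub R) (hab : Indep2 a b) (hac : Indep2 a c) : X a c = X a b := by
  classical
  by_contra hne
  set F := fixSub R with hF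
  -- the part in `U`
  have hLdim : ∀ {p q : V}, p ∈ F → q ∈ F → Indep2 p q → finrank (ZMod 2) ↥(X p q ⊓ U) = d := by
    intro p q hp hq hpq
    have := D.finrank_part hX hp hq hpq
    rw [← hF] at this
    omega
  have hLinv : ∀ {p q : V}, p ∈ F → q ∈ F → Indep2 p q → ∀ g ∈ R, ∀ x ∈ X p q ⊓ U, g x ∈ X p q ⊓ U :=
    fun hp hq hpq g hg x hx => ⟨D.X_inv hX hp hq hpq g hg x hx.1, D.invU g (D.le_normIn hg) x hx.2⟩
  have hLdisj : ∀ {p q p' q' : V}, p ∈ F → q ∈ F → Indep2 p q → p' ∈ F → q' ∈ F → Indep2 p' q' →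
      X p q ≠ X p' q' → X p q ⊓ U ⊓ (X p' q' ⊓ U) = ⊥ := by
    intro p q p' q' hp hq hpq hp' hq' hpq' hX'
    have hdv := dvd_finrank D.ord D.pgroup (X p q ⊓ U ⊓ (X p' q' ⊓ U))
      (fun g hg x hx => ⟨hLinv hp hq hpq g hg x hx.1, hLinv hp' hq' hpq' g hg x hx.2⟩)
      (fun x hx h => D.fpf x hx.1.2 h)
    by_contra h0
    have h1 : finrank (ZMod 2) ↥(X p q ⊓ U ⊓ (X p' q' ⊓ U)) ≠ 0 := fun e => h0 (Submodule.finrank_eq_zero.1 e)
    have h2 := Nat.le_of_dvd (Nat.pos_of_ne_zero h1) hdv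
    have e1 : X p q ⊓ U ⊓ (X p' q' ⊓ U) = X p q ⊓ U :=
      Submodule.eq_of_le_of_finrank_le inf_le_left (by rw [hLdim hp hq hpq]; omega)
    have e2 : X p q ⊓ U ⊓ (X p' q' ⊓ U) = X p' q' ⊓ U :=
      Submodule.eq_of_le_of_finrank_le inf_le_right (by rw [hLdim hp' hq' hpq']; omega)
    exact hX' (by rw [D.X_eq_sup hX hp hq hpq, D.X_eq_sup hX hp' hq' hpq', ← e1, e2])
  have hLsup : ∀ {p q p' q' : V}, p ∈ F → q ∈ F → Indep2 p q → p' ∈ F → q' ∈ F → Indep2 p' q' →
      X p q ≠ X p' q' → ∀ x ∈ U, ∃ y ∈ X p q ⊓ U, ∃ z ∈ X p' q' ⊓ U, y + z = x := by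
    intro p q p' q' hp hq hpq hp' hq' hpq' hX' x hx
    have e : (X p q ⊓ U) ⊔ (X p' q' ⊓ U) = U := by
      refine Submodule.eq_of_le_of_finrank_le (sup_le inf_le_right inf_le_right) ?_
      have h := Submodule.finrank_sup_add_finrank_inf_eq (X p q ⊓ U) (X p' q' ⊓ U)
      rw [hLdisj hp hq hpq hp' hq' hpq' hX', finrank_bot, hLdim hp hq hpq, hLdim hp' hq' hpq'] at h
      omega
    exact Submodule.mem_sup.1 (e.symm ▸ hx : x ∈ (X p q ⊓ U) ⊔ (X p' q' ⊓ U))
  -- a third kind at `a`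
  obtain ⟨e, he, hae, heb, hec⟩ : ∃ e ∈ F, Indep2 a e ∧ X a e ≠ X a b ∧ X a e ≠ X a c := by
    have hbF : b + c ∈ F := add_mem hb hc
    have hbc : Indep2 a (b + c) := by
      refine ⟨hab.1, fun e => ?_, fun e => ?_⟩
      · exact hne (by rw [add_eq_zero_v e])
      · apply hne
        rw [show c = a + b by rw [e, add_right_comm, add_self_v, zero_add], hX.add_right a b hab]
    refine ⟨b + c, hbF, hbc, fun h => ?_, fun h => ?_⟩
    · have h' := hX.eq_add hab hbc (by rw [← add_assoc, add_self_v, zero_add]; exact hac) h.symm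
      rw [← add_assoc, add_self_v, zero_add] at h'
      exact hne h'
    · have h' := hX.eq_add hac hbc
        (by rw [add_comm b c, ← add_assoc, add_self_v, zero_add]; exact hab) h.symm
      rw [add_comm b c, ← add_assoc, add_self_v, zero_add] at h'
      exact hne h'.symm
  -- `R` acts on `U` as on one part
  set L := X a b ⊓ U with hL
  have hRL : R ≤ setStab H L := le_setStab D.le_grp (hLinv ha hb hab)
  let ψ : R →* LAut L := (restr H L).comp (Subgroup.inclusion hRL)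
  have hker : ∀ g : R, ψ g = 1 → ∀ x ∈ U, (g : LAut V) x = x := by
    intro g hg
    have h0 : ∀ x ∈ L, (g : LAut V) x = x := fun x hx =>
      congrArg Subtype.val (LinearEquiv.congr_fun hg ⟨x, hx⟩)
    have h1 : ∀ x ∈ X a c ⊓ U, (g : LAut V) x = x := by
      intro x hx
      obtain ⟨y, hy, z, hz, rfl⟩ := hLsup ha hb hab ha he hae (Ne.symm heb) x hx.2
      have hz' := hLinv ha he hae g g.2 z hz
      have hmem : (g : LAut V) z + z ∈ X a c ⊓ U ⊓ (X a e ⊓ U) := by
        refine ⟨?_, add_mem hz' hz⟩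
        have := add_mem (hLinv ha hc hac g g.2 _ hx) hx
        rwa [map_add, h0 y hy, add_add_add_comm, add_self_v, zero_add] at this
      rw [hLdisj ha hc hac ha he hae (Ne.symm hec), Submodule.mem_bot] at hmem
      rw [map_add, h0 y hy, add_eq_zero_v hmem]
    intro x hx
    obtain ⟨y, hy, z, hz, rfl⟩ := hLsup ha hb hab ha hc hac (Ne.symm hne) x hx
    rw [map_add, h0 y hy, h1 z hz]
  have hd := D.hd0 hX
  have hψfix : ∀ x : L, (∀ g ∈ ψ.range, g x = x) → x = 0 := fun x hx =>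
    Subtype.ext (D.fpf x x.2.2 fun g hg => congrArg Subtype.val (hx (ψ ⟨g, hg⟩) ⟨_, rfl⟩))
  obtain ⟨hcyc, -, hexpL, -, -⟩ := irreducible_facts D.ord (by omega) (hLdim ha hb hab)
    (D.pgroup.of_surjective ψ.rangeRestrict ψ.rangeRestrict_surjective) hψfix
  obtain ⟨⟨_, g₀, rfl⟩, hgen⟩ := hcyc.exists_generator (α := ψ.range)
  let γ : LAut U := D.actU ⟨g₀, D.le_normIn g₀.2⟩
  have hA : ∀ g : R, ∃ i : ℤ, D.actU ⟨g, D.le_normIn g.2⟩ = γ ^ i := by
    intro g
    obtain ⟨i, hi⟩ := Subgroup.mem_zpowers_iff.1 (hgen ⟨ψ g, g, rfl⟩)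
    refine ⟨i, ?_⟩
    have h := hker (g₀ ^ (-i) * g) (by
      rw [map_mul, map_zpow, show ψ g = ψ g₀ ^ i from (congrArg Subtype.val hi).symm, ← zpow_add,
        neg_add_cancel, zpow_zero])
    have h' : D.actU ((⟨g₀, D.le_normIn g₀.2⟩ : normIn H R) ^ (-i) * ⟨g, D.le_normIn g.2⟩) = 1 :=
      LinearEquiv.ext fun x => Subtype.ext (h x x.2)
    rw [map_mul, map_zpow, zpow_neg, inv_mul_eq_one] at h'
    exact h'.symm
  have hnorm : ∀ p : normIn H R, ∃ i : ℤ, D.actU p * γ * (D.actU p)⁻¹ = γ ^ i := by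
    intro p
    have hmem : (p : LAut V) * (g₀ : LAut V) * (p : LAut V)⁻¹ ∈ R := (p.2.2 _).2 g₀.2
    obtain ⟨i, hi⟩ := hA ⟨_, hmem⟩
    refine ⟨i, ?_⟩
    have e : (⟨_, D.le_normIn hmem⟩ : normIn H R) = p * ⟨g₀, D.le_normIn g₀.2⟩ * p⁻¹ :=
      Subtype.ext (by simp only [Subgroup.coe_mul, Subgroup.coe_inv])
    rw [← hi, e, map_mul, map_mul, map_inv]
  have hcomm : ∀ s ∈ derivedSeries (normIn H R) 1, Commute (D.actU s) γ := by
    intro s hs
    rw [derivedSeries_one, commutator_eq_closure] at hs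
    induction hs using Subgroup.closure_induction with
    | mem x hx =>
      obtain ⟨p, q, rfl⟩ := hx
      obtain ⟨i, hi⟩ := hnorm p⁻¹
      obtain ⟨j, hj⟩ := hnorm q⁻¹
      have h := comm_centralizes hi hj
      rw [map_inv, map_inv, inv_inv, inv_inv, ← map_commutatorElement] at h
      exact h
    | one => rw [map_one]; exact Commute.one_left _
    | mul x y _ _ hx hy => rw [map_mul]; exact hx.mul_left hy
    | inv x _ hx => rw [map_inv]; exact hx.inv_left
  -- the two element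
  obtain ⟨y, hy, hy2⟩ := D.exists_invol_comm hf
  obtain ⟨s, hs, rfl, m, hsm⟩ := exists_two_element D.actF hy hy2
  have hsF : ∀ {x : V}, x ∈ F → (s : LAut V) x ∈ F := fun hx => normIn_apply_mem s.2 hx
  have hss : ∀ x ∈ F, (s : LAut V) ((s : LAut V) x) = x := by
    intro x hx
    have := LinearEquiv.congr_fun (orderOf_dvd_iff_pow_eq_one.1 (dvd_of_eq hy2)) ⟨x, hx⟩
    rw [pow_two] at this
    exact congrArg Subtype.val this
  obtain ⟨x₀, hx₀, hx₀s⟩ : ∃ x ∈ F, (s : LAut V) x ≠ x := by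
    by_contra h
    push Not at h
    have h1 : D.actF s = 1 := LinearEquiv.ext fun x => Subtype.ext (h x x.2)
    rw [h1, orderOf_one] at hy2
    omega
  -- invariant kinds are fixed vector by vector
  have hsfix : ∀ {p q : V}, p ∈ F → q ∈ F → Indep2 p q →
      X ((s : LAut V) p) ((s : LAut V) q) = X p q → ∀ x ∈ X p q ⊓ U, (s : LAut V) x = x := by
    intro p q hp hq hpq hinv x hx
    have hsL : ∀ w ∈ X p q ⊓ U, (s : LAut V) w ∈ X p q ⊓ U := fun w hw =>
      ⟨hinv ▸ (hX.map_mem_iff s.2.1 hpq).2 hw.1, D.invU s s.2 w hw.2⟩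
    have hS : R ⊔ Subgroup.zpowers (s : LAut V) ≤ setStab H (X p q ⊓ U) := by
      refine sup_le (le_setStab D.le_grp (hLinv hp hq hpq)) (Subgroup.zpowers_le.2 ⟨s.2.1, fun w => ?_⟩)
      refine ⟨fun hw => ?_, hsL w⟩
      have hinj : Function.Injective fun z : ↥(X p q ⊓ U) => (⟨_, hsL z z.2⟩ : ↥(X p q ⊓ U)) :=
        fun z z' e => Subtype.ext ((s : LAut V).injective (congrArg Subtype.val e))
      obtain ⟨⟨z, hz⟩, e⟩ := Finite.surjective_of_injective hinj ⟨_, hw⟩
      exact (s : LAut V).injective (congrArg Subtype.val e) ▸ hz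
    let χ : R →* LAut ↥(X p q ⊓ U) :=
      (restr H (X p q ⊓ U)).comp (Subgroup.inclusion (le_sup_left.trans hS))
    let σ : LAut ↥(X p q ⊓ U) :=
      restr H _ ⟨s, hS (Subgroup.mem_sup_right (Subgroup.mem_zpowers _))⟩
    obtain ⟨-, -, hexp, -, -⟩ := irreducible_facts D.ord (by omega) (hLdim hp hq hpq)
      (D.pgroup.of_surjective χ.rangeRestrict χ.rangeRestrict_surjective)
      (fun z hz => Subtype.ext (D.fpf z z.2.2 fun g hg => congrArg Subtype.val (hz (χ ⟨g, hg⟩) ⟨_, rfl⟩)))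
    have hσ1 : σ ^ (2 ^ d - 1) = 1 := by
      refine hexp σ ?_
      rintro _ ⟨g, rfl⟩
      obtain ⟨i, hi⟩ := hA g
      have hc' : Commute (D.actU s) (D.actU ⟨g, D.le_normIn g.2⟩) := hi ▸ (hcomm s hs).zpow_right i
      refine LinearEquiv.ext fun z => Subtype.ext ?_
      have := congrArg Subtype.val (LinearEquiv.congr_fun hc'.eq ⟨z, z.2.2⟩)
      simp only [symm_apply_mul] at this ⊢
      exact this
    have hσ2 : σ ^ 2 ^ m = 1 := by
      rw [show σ = restr H _ _ from rfl, ← map_pow]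
      have e : (⟨s, hS (Subgroup.mem_sup_right (Subgroup.mem_zpowers _))⟩ : setStab H (X p q ⊓ U)) ^ 2 ^ m = 1 :=
        Subtype.ext (by
          rw [Subgroup.coe_pow, Subgroup.coe_one]
          exact (Subgroup.coe_pow (normIn H R) s (2 ^ m)).symm.trans (congrArg Subtype.val hsm))
      rw [e, map_one]
    have hg := pow_gcd_eq_one.2 ⟨hσ1, hσ2⟩
    have hco : Nat.gcd (2 ^ d - 1) (2 ^ m) = 1 := by
      refine Nat.Coprime.pow_right m (Nat.coprime_two_right.2 ?_)
      exact Nat.Even.sub_odd Nat.one_le_two_pow (Nat.even_pow.2 ⟨even_two, by omega⟩) odd_one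
    rw [hco, pow_one] at hg
    exact congrArg Subtype.val (LinearEquiv.congr_fun hg ⟨x, hx⟩)
  -- the vectors moved by the involution at most by `z`
  let α : V →ₗ[ZMod 2] V := ((s : LAut V) : V →ₗ[ZMod 2] V) + LinearMap.id
  set Φ := F ⊓ LinearMap.ker α with hΦ
  have hmemΦ : ∀ x, x ∈ Φ ↔ x ∈ F ∧ (s : LAut V) x = x := fun x => by
    simp only [hΦ, Submodule.mem_inf, LinearMap.mem_ker, α, LinearMap.add_apply, LinearEquiv.coe_coe,
      LinearMap.id_apply]
    exact and_congr_right fun _ => ⟨add_eq_zero_v, fun e => by rw [e, add_self_v]⟩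
  set z := (s : LAut V) x₀ + x₀ with hz
  have hzΦ : z ∈ Φ := (hmemΦ z).2 ⟨add_mem (hsF hx₀) hx₀, by
    rw [hz, map_add, hss x₀ hx₀, add_comm]⟩
  have hz0 : z ≠ 0 := fun e => hx₀s (add_eq_zero_v e)
  have hx₀Φ : x₀ ∉ Φ := fun h => hx₀s ((hmemΦ x₀).1 h).2
  have hφ : finrank (ZMod 2) F + 1 ≤ 2 * finrank (ZMod 2) Φ := by
    have h := LinearMap.finrank_range_add_finrank_ker (α.comp F.subtype)
    have hk1 : finrank (ZMod 2) (LinearMap.ker (α.comp F.subtype)) = finrank (ZMod 2) Φ := by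
      rw [LinearMap.ker_comp, ← Submodule.finrank_map_subtype_eq, Submodule.map_comap_subtype]
    have hk2 : finrank (ZMod 2) (LinearMap.range (α.comp F.subtype)) ≤ finrank (ZMod 2) Φ := by
      refine Submodule.finrank_mono ?_
      rintro _ ⟨⟨x, hx⟩, rfl⟩
      refine (hmemΦ _).2 ⟨add_mem (hsF hx) hx, ?_⟩
      show (s : LAut V) ((s : LAut V) x + x) = (s : LAut V) x + x
      rw [map_add, hss x hx, add_comm]
    obtain ⟨i, hi⟩ := hodd
    omega
  -- a point with a class of more than half the size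
  have hbig : ∃ p q, p ∈ F ∧ q ∈ F ∧ Indep2 p q ∧ x₀ ∈ cls X p q ∧ Φ ≤ cls X p q := by
    by_cases hall : ∀ p q, p ∈ F → q ∈ F → Indep2 p q → X ((s : LAut V) p) ((s : LAut V) q) = X p q
    · obtain ⟨p, hp, hpz⟩ : ∃ p ∈ Φ, p ∉ Submodule.span (ZMod 2) {z} := by
        by_contra h
        push Not at h
        have := Submodule.finrank_mono (show Φ ≤ Submodule.span (ZMod 2) {z} from h)
        rw [finrank_span_singleton hz0] at this
        omega
      rw [mem_span_one, not_or] at hpz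
      obtain ⟨hpF, hps⟩ := (hmemΦ p).1 hp
      have hpzi : Indep2 p z := ⟨hpz.1, hz0, hpz.2⟩
      have hkey : ∀ x ∈ F, (s : LAut V) x = x + z → x ∈ cls X p z := by
        intro x hx hsx
        have hpx : Indep2 p x := ⟨hpz.1, fun e => hz0 (by rw [e, map_zero, zero_add] at hsx; exact hsx.symm),
          fun e => hz0 (by rw [← e, hps] at hsx; exact left_eq_add.1 hsx)⟩
        have hpx' : Indep2 p (x + z) := by
          rw [← hsx, ← hps]
          exact hpx.map _
        have h1 : X p (x + z) = X p x := by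
          have h2 := hall p x hpF hx hpx
          rwa [hps, hsx] at h2
        have h3 := hX.eq_add hpx hpx' (by rwa [← add_assoc, add_self_v, zero_add]) h1.symm
        rw [← add_assoc, add_self_v, zero_add] at h3
        exact (hX.mem_cls_iff hpzi hpx).2 h3.symm
      have hx₀z : (s : LAut V) x₀ = x₀ + z := by rw [hz, add_comm, add_assoc, add_self_v, add_zero]
      refine ⟨p, z, hpF, ((hmemΦ z).1 hzΦ).1, hpzi, hkey x₀ hx₀ hx₀z, fun x hx => ?_⟩
      obtain ⟨hxF, hxs⟩ := (hmemΦ x).1 hx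
      rw [show x = (x + x₀) + x₀ by rw [add_assoc, add_self_v, add_zero]]
      exact add_mem (hkey _ (add_mem hxF hx₀) (by rw [map_add, hxs, hx₀z, add_assoc])) (hkey x₀ hx₀ hx₀z)
    · push Not at hall
      obtain ⟨p, q, hp, hq, hpq, hnot⟩ := hall
      have huniq : ∀ {p' q' p'' q'' : V}, p' ∈ F → q' ∈ F → Indep2 p' q' → p'' ∈ F → q'' ∈ F →
          Indep2 p'' q'' → X ((s : LAut V) p') ((s : LAut V) q') = X p' q' →
          X ((s : LAut V) p'') ((s : LAut V) q'') = X p'' q'' → X p'' q'' = X p' q' := by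
        intro p' q' p'' q'' hp' hq' hpq' hp'' hq'' hpq'' h1 h2
        by_contra h
        refine hnot ?_
        have hfixU : ∀ x ∈ U, (s : LAut V) x = x := fun x hx => by
          obtain ⟨y, hy, w, hw, rfl⟩ := hLsup hp'' hq'' hpq'' hp' hq' hpq' h x hx
          rw [map_add, hsfix hp'' hq'' hpq'' h2 y hy, hsfix hp' hq' hpq' h1 w hw]
        have hsp := D.X_eq_sup hX (hsF hp) (hsF hq) (hpq.map _)
        rw [hsp, D.X_eq_sup hX hp hq hpq]
        congr 1
        ext x
        refine ⟨fun hx => ⟨?_, hx.2⟩, fun hx => ⟨?_, hx.2⟩⟩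
        · exact (hX.map_mem_iff s.2.1 hpq).1 ((hfixU x hx.2).symm ▸ hx.1)
        · exact hfixU x hx.2 ▸ (hX.map_mem_iff s.2.1 hpq).2 hx.1
      have hzF := ((hmemΦ z).1 hzΦ).1
      have hzs := ((hmemΦ z).1 hzΦ).2
      have hzx : Indep2 z x₀ := ⟨hz0, fun e => hx₀s (by rw [e, map_zero]),
        fun e => hx₀s (by rw [← e, hzs])⟩
      have hinv0 : X ((s : LAut V) z) ((s : LAut V) x₀) = X z x₀ := by
        rw [hzs, show (s : LAut V) x₀ = z + x₀ by rw [hz, add_assoc, add_self_v, add_zero],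
          hX.add_right z x₀ hzx]
      refine ⟨z, x₀, hzF, hx₀, hzx, hX.self_mem_cls hzx, fun x hx => ?_⟩
      obtain ⟨hxF, hxs⟩ := (hmemΦ x).1 hx
      refine (hX.mem_cls hzx).2 ?_
      by_cases h0 : x = 0
      · exact Or.inl h0
      by_cases h1 : x = z
      · exact Or.inr (Or.inl h1)
      have hzx' : Indep2 z x := ⟨hz0, h0, Ne.symm h1⟩
      exact Or.inr (Or.inr ⟨hzx', huniq hzF hx₀ hzx hzF hxF hzx' hinv0 (by rw [hzs, hxs])⟩)
  obtain ⟨p, q, hp, hq, hpq, hx₀c, hΦc⟩ := hbig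
  have hsize : finrank (ZMod 2) Φ + 1 ≤ finrank (ZMod 2) ↥(cls X p q ⊓ F) := by
    have hlt : Φ < Φ ⊔ Submodule.span (ZMod 2) {x₀} :=
      lt_of_le_of_ne le_sup_left fun e => hx₀Φ (e ▸ Submodule.mem_sup_right (Submodule.mem_span_singleton_self x₀))
    have h1 := Submodule.finrank_lt_finrank_of_lt hlt
    have h2 := Submodule.finrank_mono (show Φ ⊔ Submodule.span (ZMod 2) {x₀} ≤ cls X p q ⊓ F from
      sup_le (le_inf hΦc inf_le_left) ((Submodule.span_singleton_le_iff_mem _ _).2 ⟨hx₀c, hx₀⟩))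
    omega
  have hsame : ∀ {q' : V}, q' ∈ F → Indep2 a q' → finrank (ZMod 2) Φ + 1 ≤ finrank (ZMod 2) ↥(cls X a q' ⊓ F) := by
    intro q' hq' haq
    obtain ⟨g, hg, hgp, hgq⟩ := D.trans p q a q' hp hq ha hq' hpq haq
    have e : (cls X p q ⊓ F).map (g : V →ₗ[ZMod 2] V) ≤ cls X a q' ⊓ F := by
      rintro _ ⟨x, hx, rfl⟩
      refine ⟨?_, normIn_apply_mem hg hx.2⟩
      rw [← hgp, ← hgq, ← hX.cls_map hg.1 hpq]
      exact ⟨x, hx.1, rfl⟩
    have := Submodule.finrank_mono e
    rw [LinearEquiv.finrank_map_eq] at this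
    omega
  have := finrank_add_le_of_inf hab.1 (inf_le_right : cls X a b ⊓ F ≤ F) (inf_le_right : cls X a c ⊓ F ≤ F)
    fun w hw hw' => hX.cls_inf hab hac hne w hw.1 hw'.1
  have := hsame hb hab
  have := hsame hc hac
  omega

/-- All lines of the fixed vectors have the same subspace. -/
theorem X_const (hX : XData H X k) (h3 : finrank (ZMod 2) V ≤ 3 * d)
    (hodd : Odd (finrank (ZMod 2) V)) {a b c e : V} (ha : a ∈ fixSub R) (hb : b ∈ fixSub R)
    (hc : c ∈ fixSub R) (he : e ∈ fixSub R) (hab : Indep2 a b) (hce : Indep2 c e) : X c e = X a b := by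
  rcases D.cases_dim hX h3 hodd with ⟨hk, -⟩ | ⟨hk, hU, ho, hf⟩
  · have key : ∀ p q, p ∈ fixSub R → q ∈ fixSub R → Indep2 p q → fixSub R = X p q := fun p q hp hq hpq =>
      Submodule.eq_of_le_of_finrank_le (D.sub p q hp hq hpq) (by rw [hX.finrank_eq p q hpq, hk])
    rw [← key a b ha hb hab, ← key c e hc he hce]
  · have key : ∀ {p q q' : V}, p ∈ fixSub R → q ∈ fixSub R → q' ∈ fixSub R → Indep2 p q → Indep2 p q' →
        X p q' = X p q := fun hp hq hq' h h' => D.X_const_right hX hk hU ho hf hp hq hq' h h'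
    by_cases hca : c = a
    · subst hca
      exact key ha hb he hab hce
    · have hac : Indep2 a c := ⟨hab.1, hce.1, Ne.symm hca⟩
      rw [key hc ha he hac.swap hce, hX.symm c a hac.swap, key ha hb hc hab hac]

end Descended

end CfsgLib.TransGL
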