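import Mathlib

/-!
# Transitive linear groups over the field with two elements: definitions (S4179)

`H` is a group of linear automorphisms of `V`. `XData` records the subspace attached to the line
through two points, `HyperForm` the trilinear data when that subspace is a hyperplane.
-/

set_option autoImplicit false

namespace CfsgLib.TransGL

variable {V : Type*} [AddCommGroup V] [Module (ZMod 2) V]

/-- Linear automorphisms of `V`. -/
abbrev LAut (V : Type*) [AddCommGroup V] [Module (ZMod 2) V] := V ≃ₗ[ZMod 2] V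

/-- Two distinct nonzero vectors. -/
def Indep2 (a b : V) : Prop := a ≠ 0 ∧ b ≠ 0 ∧ a ≠ b

/-- Transitivity on ordered pairs of distinct nonzero vectors. -/
def Pair2 (H : Subgroup (LAut V)) : Prop :=
  ∀ a b c e : V, Indep2 a b → Indep2 c e → ∃ h ∈ H, h a = c ∧ h b = e

/-- A transvection. -/
def IsTv (g : LAut V) : Prop := g ≠ 1 ∧ ∃ z : V, ∀ x : V, g x = x ∨ g x = x + z

/-- The stabilizer in `H` of two vectors. -/
def pstab (H : Subgroup (LAut V)) (a b : V) : Subgroup (LAut V) where
  carrier := {g | g ∈ H ∧ g a = a ∧ g b = b}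
  one_mem' := ⟨one_mem H, rfl, rfl⟩
  mul_mem' := by
    rintro g k ⟨hg, hga, hgb⟩ ⟨hk, hka, hkb⟩
    exact ⟨mul_mem hg hk, by simp [LinearEquiv.mul_apply, hga, hka],
      by simp [LinearEquiv.mul_apply, hgb, hkb]⟩
  inv_mem' := by
    rintro g ⟨hg, hga, hgb⟩
    exact ⟨inv_mem hg, by
        show g.symm a = a
        rw [LinearEquiv.symm_apply_eq, hga], by
        show g.symm b = b
        rw [LinearEquiv.symm_apply_eq, hgb]⟩

/-- The vectors fixed by a set of automorphisms. -/
def fixSub (R : Subgroup (LAut V)) : Submodule (ZMod 2) V where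
  carrier := {x | ∀ r ∈ R, r x = x}
  zero_mem' := fun r _ => map_zero r
  add_mem' := fun hx hy r hr => by rw [map_add, hx r hr, hy r hr]
  smul_mem' := fun c x hx r hr => by rw [map_smul, hx r hr]

/-- A symmetric system of subspaces of dimension `k` attached to lines, invariant under `H`, the
stabilizer of a line and one of its points being transitive outside. -/
structure XData (H : Subgroup (LAut V)) (X : V → V → Submodule (ZMod 2) V) (k : ℕ) : Prop where
  pair2 : Pair2 H
  two_le : 2 ≤ k
  add_two_le : k + 2 ≤ Module.finrank (ZMod 2) V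
  mem_left : ∀ a b : V, Indep2 a b → a ∈ X a b
  finrank_eq : ∀ a b : V, Indep2 a b → Module.finrank (ZMod 2) (X a b) = k
  symm : ∀ a b : V, Indep2 a b → X a b = X b a
  add_right : ∀ a b : V, Indep2 a b → X a (a + b) = X a b
  map_eq : ∀ h ∈ H, ∀ a b : V, Indep2 a b →
    (X a b).map (h : V →ₗ[ZMod 2] V) = X (h a) (h b)
  plane : ∀ a b c : V, Indep2 a b → Indep2 a c → c ∈ X a b → b ∈ X a c
  transOff : ∀ a b x y : V, Indep2 a b → x ∉ X a b → y ∉ X a b →
    ∃ h ∈ H, h a = a ∧ (h b = b ∨ h b = a + b) ∧ h x = y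

/-- The trilinear data of the hyperplane case. -/
structure HyperForm (H : Subgroup (LAut V)) (B : V → V → V → ZMod 2) (ε : ZMod 2) : Prop where
  add_mid : ∀ x y y' z : V, B x (y + y') z = B x y z + B x y' z
  add_last : ∀ x y z z' : V, B x y (z + z') = B x y z + B x y z'
  alt : ∀ x y : V, B x y y = 0
  zero_first : ∀ y z : V, B 0 y z = 0
  diag_left : ∀ x z : V, B x x z = 0
  nondeg : ∃ x y z : V, B x y z ≠ 0
  equiv : ∀ h ∈ H, ∀ x y z : V, B (h x) (h y) (h z) = B x y z
  rule : ∀ x y z : V, B (x + y) y z = B x y z + ε * B y x z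

end CfsgLib.TransGL
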