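import Cfsg.Agent.Lib.TransGL.Colour

/-!
# A transvection from the line data (S4179)

If the subspaces attached to lines have codimension `d`, a prime `r` has `orderOf (2 : ZMod r) = d` and
`dim V ≤ 3 * d`, then the group contains a transvection.
-/

set_option autoImplicit false
set_option linter.style.haveILetI false
set_option linter.unusedSectionVars false

namespace CfsgLib.TransGL

open Module MulAction
open scoped commutatorElement

variable {V : Type*} [AddCommGroup V] [Module (ZMod 2) V] [Finite V]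
  {H : Subgroup (LAut V)} {X : V → V → Submodule (ZMod 2) V} {k : ℕ}

theorem Pair2.mono {H K : Subgroup (LAut V)} (h : Pair2 H) (hle : H ≤ K) : Pair2 K := fun a b c e hab hce => by
  obtain ⟨g, hg, h1⟩ := h a b c e hab hce
  exact ⟨g, hle hg, h1⟩

theorem mem_of_finrank_two {S : Submodule (ZMod 2) V} (hS : finrank (ZMod 2) S = 2) {a b : V}
    (ha : a ∈ S) (hb : b ∈ S) (hab : Indep2 a b) {y : V} (hy : y ∈ S) :
    y = 0 ∨ y = a ∨ y = b ∨ y = a + b := by
  have hlt : Submodule.span (ZMod 2) {a} < Submodule.span (ZMod 2) {a} ⊔ Submodule.span (ZMod 2) {b} :=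
    lt_of_le_of_ne le_sup_left fun e => by
      have : b ∈ Submodule.span (ZMod 2) {a} := by
        rw [e]; exact Submodule.mem_sup_right (Submodule.mem_span_singleton_self b)
      rw [mem_span_one] at this
      rcases this with e' | e'
      exacts [hab.2.1 e', hab.2.2 e'.symm]
  have h1 := Submodule.finrank_lt_finrank_of_lt hlt
  rw [finrank_span_singleton hab.1] at h1
  have e : Submodule.span (ZMod 2) {a} ⊔ Submodule.span (ZMod 2) {b} = S :=
    Submodule.eq_of_le_of_finrank_le (sup_le ((Submodule.span_singleton_le_iff_mem _ _).2 ha)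
      ((Submodule.span_singleton_le_iff_mem _ _).2 hb)) (by omega)
  rw [← e] at hy
  obtain ⟨p, hp, q, hq, rfl⟩ := Submodule.mem_sup.1 hy
  rcases mem_span_one.1 hp with rfl | rfl <;> rcases mem_span_one.1 hq with rfl | rfl <;> simp

variable {r d : ℕ} [Fact r.Prime] {R : Subgroup (LAut V)} {U : Submodule (ZMod 2) V}

namespace Descended

variable (D : Descended H X k r d R U)
include D

theorem exists_decomp (x : V) : ∃ y ∈ fixSub R, ∃ w ∈ U, y + w = x :=
  Submodule.mem_sup.1 (D.compl.sup_eq_top.symm ▸ Submodule.mem_top : x ∈ fixSub R ⊔ U)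

/-- An element fixing the complement which is a transvection on the fixed vectors is a transvection. -/
theorem isTv_of_actF {g : normIn H R} (hU : ∀ w ∈ U, (g : LAut V) w = w) (h : IsTv (D.actF g)) :
    IsTv (g : LAut V) := by
  obtain ⟨hne, ⟨z, hz⟩, hz'⟩ := h
  refine ⟨fun e => hne (LinearEquiv.ext fun x => Subtype.ext ?_), z, fun x => ?_⟩
  · rw [D.actF_apply, e]; rfl
  · obtain ⟨y, hy, w, hw, rfl⟩ := D.exists_decomp x
    rw [map_add, hU w hw]
    rcases hz' ⟨y, hy⟩ with e | e
    · exact Or.inl (by rw [show (g : LAut V) y = y from congrArg Subtype.val e])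
    · exact Or.inr (by rw [show (g : LAut V) y = y + z from congrArg Subtype.val e, add_right_comm])

/-- The case of two dimensional fixed space. -/
theorem exists_isTv_of_two (hX : XData H X k) (hk : finrank (ZMod 2) (fixSub R) = 2)
    (hU : finrank (ZMod 2) U = d) (hodd : Odd d) : ∃ t ∈ H, IsTv t := by
  obtain ⟨a, b, ha, hb, hab⟩ := D.exists_pair
  obtain ⟨g, hg, hga, hgb⟩ := D.trans a b b a ha hb hb ha hab hab.swap
  have hd := D.hd0 hX
  let χ : R →* LAut U := D.actU.comp (Subgroup.inclusion D.le_normIn)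
  obtain ⟨-, -, hexp, hpow, -⟩ := irreducible_facts D.ord (by omega) hU
    (D.pgroup.of_surjective χ.rangeRestrict χ.rangeRestrict_surjective)
    (fun x hx => Subtype.ext (D.fpf x x.2 fun s hs => congrArg Subtype.val (hx (χ ⟨s, hs⟩) ⟨_, rfl⟩)))
  have hnorm : Normalizes χ.range (D.actU ⟨g, hg⟩) := by
    rintro _ ⟨s, rfl⟩
    refine ⟨⟨_, (hg.2 s).2 s.2⟩, ?_⟩
    show D.actU ⟨_, _⟩ = _
    rw [show (⟨_, D.le_normIn ((hg.2 s).2 s.2)⟩ : normIn H R) = ⟨g, hg⟩ * ⟨s, D.le_normIn s.2⟩ * ⟨g, hg⟩⁻¹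
      from Subtype.ext (by simp only [Subgroup.coe_mul, Subgroup.coe_inv]), map_mul, map_mul, map_inv]
    rfl
  have h1 := hexp _ (hpow _ hnorm)
  rw [← pow_mul, ← map_pow] at h1
  obtain ⟨m, hm⟩ : Odd (d * (2 ^ d - 1)) :=
    hodd.mul (Nat.Even.sub_odd Nat.one_le_two_pow (Nat.even_pow.2 ⟨even_two, by omega⟩) odd_one)
  rw [hm] at h1
  set t : normIn H R := ⟨g, hg⟩ ^ (2 * m + 1) with ht
  have hsw : ∀ i, (g ^ (2 * i)) a = a ∧ (g ^ (2 * i)) b = b := by
    intro i
    induction i with
    | zero => exact ⟨rfl, rfl⟩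
    | succ i ih =>
      rw [show 2 * (i + 1) = 2 * i + 1 + 1 by ring, pow_succ, pow_succ]
      simp only [symm_apply_mul, hga, hgb, ih, and_self]
  have hta : (t : LAut V) a = b := by
    rw [ht, Subgroup.coe_pow, pow_succ', symm_apply_mul, (hsw m).1, hga]
  have htb : (t : LAut V) b = a := by
    rw [ht, Subgroup.coe_pow, pow_succ', symm_apply_mul, (hsw m).2, hgb]
  refine ⟨t, t.2.1, D.isTv_of_actF (fun w hw => congrArg Subtype.val (LinearEquiv.congr_fun h1 ⟨w, hw⟩))
    ⟨fun e => hab.2.2 ?_, ⟨a + b, add_mem ha hb⟩, fun x => ?_⟩⟩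
  · rw [← hta]
    exact (congrArg Subtype.val (LinearEquiv.congr_fun e ⟨a, ha⟩)).symm
  · rcases mem_of_finrank_two hk ha hb hab x.2 with e | e | e | e
    · exact Or.inl (Subtype.ext (by rw [D.actF_apply, e, map_zero]))
    · refine Or.inr (Subtype.ext ?_)
      show (t : LAut V) x = x + (a + b)
      rw [e, hta, ← add_assoc, add_self_v, zero_add]
    · refine Or.inr (Subtype.ext ?_)
      show (t : LAut V) x = x + (a + b)
      rw [e, htb, add_comm a, ← add_assoc, add_self_v, zero_add]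
    · exact Or.inl (Subtype.ext (by rw [D.actF_apply, e, map_add, hta, htb, add_comm]))

/-- The second derived group of the normalizer is trivial on an irreducible section. -/
theorem derived_two_trivial {W : Type*} [AddCommGroup W] [Module (ZMod 2) W] [Finite W]
    (hW : finrank (ZMod 2) W = d) (hd : 0 < d) (ψ : normIn H R →* LAut W)
    (hfix : ∀ x : W, (∀ g : R, ψ (Subgroup.inclusion D.le_normIn g) x = x) → x = 0) :
    derivedSeries (normIn H R) 2 ≤ ψ.ker := by
  let χ : R →* LAut W := ψ.comp (Subgroup.inclusion D.le_normIn)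
  obtain ⟨-, hab, -, -, hcom⟩ := irreducible_facts D.ord hd hW
    (D.pgroup.of_surjective χ.rangeRestrict χ.rangeRestrict_surjective)
    (fun x hx => hfix x fun g => hx (χ g) ⟨g, rfl⟩)
  have hnorm : ∀ p, Normalizes χ.range (ψ p) := by
    rintro p _ ⟨s, rfl⟩
    refine ⟨⟨_, (p.2.2 s).2 s.2⟩, ?_⟩
    show ψ ⟨_, _⟩ = _
    rw [show (⟨_, D.le_normIn ((p.2.2 s).2 s.2)⟩ : normIn H R) = p * ⟨s, D.le_normIn s.2⟩ * p⁻¹
      from Subtype.ext (by simp only [Subgroup.coe_mul, Subgroup.coe_inv]), map_mul, map_mul, map_inv]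
    rfl
  refine derived_two_le_ker ψ fun a b c e => hab _ _ ?_ ?_ <;> intro x hx
  · rw [map_commutatorElement, commutatorElement_def]
    exact hcom _ _ (hnorm a) (hnorm b) x hx
  · rw [map_commutatorElement, commutatorElement_def]
    exact hcom _ _ (hnorm c) (hnorm e) x hx

/-- The third derived group of the normalizer fixes the complement. -/
theorem derived_three_fixU (hX : XData H X k) {v u : V} (hv : v ∈ fixSub R) (hu : u ∈ fixSub R)
    (hvu : Indep2 v u)
    (hconst : ∀ a b, a ∈ fixSub R → b ∈ fixSub R → Indep2 a b → X a b = X v u)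
    (hU : finrank (ZMod 2) U = d ∨ finrank (ZMod 2) U = 2 * d) :
    ∀ g ∈ derivedSeries (normIn H R) 3, ∀ w ∈ U, (g : LAut V) w = w := by
  have hd := D.hd0 hX
  set X0 := X v u with hX0
  have hN0 : normIn H R ≤ setStab H X0 := le_setStab (norm_le H R) fun g hg x hx => by
    have := (hX.map_mem_iff hg.1 hvu).2 hx
    rwa [hconst _ _ (normIn_apply_mem hg hv) (normIn_apply_mem hg hu) (hvu.map g)] at this
  have hN1 : normIn H R ≤ setStab H (X0 ⊓ U) := le_setStab (norm_le H R) fun g hg x hx =>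
    ⟨((hN0 hg).2 x).2 hx.1, D.invU g hg x hx.2⟩
  let ψ₀ : normIn H R →* LAut (V ⧸ X0) := (quot H X0).comp (Subgroup.inclusion hN0)
  let ψ₁ : normIn H R →* LAut ↥(X0 ⊓ U) := (restr H (X0 ⊓ U)).comp (Subgroup.inclusion hN1)
  obtain ⟨j, hj⟩ := D.dvd_part X0 (D.X_inv hX hv hu hvu)
  haveI : Finite (V ⧸ X0) := Finite.of_surjective _ (Submodule.mkQ_surjective X0)
  have h0 : derivedSeries (normIn H R) 2 ≤ ψ₀.ker := by
    refine D.derived_two_trivial ?_ (by omega) ψ₀ fun q => ?_
    · have h1 := X0.finrank_quotient_add_finrank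
      have h2 := D.dim
      rw [show finrank (ZMod 2) X0 = k from hX.finrank_eq v u hvu] at h1
      omega
    induction q using Submodule.Quotient.induction_on with
    | H x =>
      intro hq
      obtain ⟨y, hy, w, hw, rfl⟩ := D.exists_decomp x
      have hyX : y ∈ X0 := D.sub v u hv hu hvu hy
      rw [Submodule.Quotient.mk_eq_zero]
      refine add_mem hyX ?_
      by_contra hwX
      have hgw : ∀ g ∈ R, g w + w ∈ X0 := by
        intro g hg
        have h : Submodule.Quotient.mk (g (y + w)) = (Submodule.Quotient.mk (y + w) : V ⧸ X0) := hq ⟨g, hg⟩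
        rw [Submodule.Quotient.eq, sub_eq_add_v, map_add, hy g hg, add_add_add_comm, add_self_v,
          zero_add] at h
        exact h
      set S := (X0 ⊓ U) ⊔ Submodule.span (ZMod 2) {w} with hS
      have hSinv : ∀ g ∈ R, ∀ x ∈ S, g x ∈ S := by
        intro g hg x hx
        obtain ⟨p, hp, q, hq', rfl⟩ := Submodule.mem_sup.1 hx
        rw [map_add]
        refine add_mem (Submodule.mem_sup_left ⟨D.X_inv hX hv hu hvu g hg p hp.1,
          D.invU g (D.le_normIn hg) p hp.2⟩) ?_
        rcases mem_span_one.1 hq' with rfl | rfl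
        · rw [map_zero]; exact zero_mem _
        · rw [show g q = (g q + q) + q by rw [add_assoc, add_self_v, add_zero]]
          exact Submodule.add_mem_sup ⟨hgw g hg, add_mem (D.invU g (D.le_normIn hg) q hw) hw⟩
            (Submodule.mem_span_singleton_self q)
      have hSU : S ⊓ U = S :=
        inf_eq_left.2 (sup_le inf_le_right ((Submodule.span_singleton_le_iff_mem _ _).2 hw))
      obtain ⟨i, hi⟩ := hSU ▸ D.dvd_part S hSinv
      have hlt : X0 ⊓ U < S := lt_of_le_of_ne le_sup_left fun e =>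
        hwX (e.symm.le (Submodule.mem_sup_right (Submodule.mem_span_singleton_self w))).1
      have h1 := Submodule.finrank_lt_finrank_of_lt hlt
      have h2 := Submodule.finrank_add_le_finrank_add_finrank (X0 ⊓ U) (Submodule.span (ZMod 2) {w})
      have h3 : finrank (ZMod 2) (Submodule.span (ZMod 2) {w}) ≤ 1 := by
        simpa using finrank_span_le_card (R := ZMod 2) ({w} : Set V)
      rw [← hS, hi] at h2
      rw [hi] at h1
      rw [hj] at h1 h2
      have h4 : j < i := Nat.lt_of_mul_lt_mul_left h1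
      have h5 : d * (j + 1) ≤ d * i := Nat.mul_le_mul_left d h4
      rw [mul_add] at h5
      omega
  have h1 : derivedSeries (normIn H R) 2 ≤ ψ₁.ker := by
    rcases Nat.eq_zero_or_pos j with rfl | hj0
    · intro g _
      rw [MonoidHom.mem_ker]
      refine LinearEquiv.ext fun x => ?_
      have hbot : X0 ⊓ U = ⊥ := Submodule.finrank_eq_zero.1 (by rw [hj, mul_zero])
      have hx0 : x = 0 := Subtype.ext ((Submodule.mem_bot _).1 (hbot.le x.2))
      rw [hx0, map_zero, map_zero]
    · refine D.derived_two_trivial ?_ (by omega) ψ₁ fun x hx => ?_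
      · have h2 := Submodule.finrank_mono (inf_le_right : X0 ⊓ U ≤ U)
        have h3 := D.finrank_part hX hv hu hvu
        have h4 := D.finrank_add
        have h5 := D.dim
        rw [← hX0, hj] at h3
        have hjone : j = 1 := by
          by_contra hne
          have h6 : d * 2 ≤ d * j := Nat.mul_le_mul_left d (by omega)
          omega
        rw [hj, hjone, mul_one]
      · exact Subtype.ext (D.fpf x x.2.2 fun g hg => congrArg Subtype.val (hx ⟨g, hg⟩))
  have hstep : ∀ g ∈ derivedSeries (normIn H R) 2, ∀ w ∈ U,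
      (g : LAut V) w + w ∈ X0 ⊓ U ∧ ∀ x ∈ X0 ⊓ U, (g : LAut V) x = x := by
    intro g hg w hw
    refine ⟨⟨?_, add_mem (D.invU g g.2 w hw) hw⟩, fun x hx =>
      congrArg Subtype.val (LinearEquiv.congr_fun (MonoidHom.mem_ker.1 (h1 hg)) ⟨x, hx⟩)⟩
    rw [← sub_eq_add_v]
    exact (Submodule.Quotient.eq X0).1 (LinearEquiv.congr_fun (MonoidHom.mem_ker.1 (h0 hg)) (Submodule.Quotient.mk w))
  have hle : derivedSeries (normIn H R) 3 ≤ D.actU.ker := by
    rw [derivedSeries_succ, Subgroup.commutator_le]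
    intro p hp q hq
    rw [MonoidHom.mem_ker, map_commutatorElement, commutatorElement_eq_one_iff_mul_comm]
    refine LinearEquiv.ext fun w => Subtype.ext ?_
    show (p : LAut V) ((q : LAut V) w) = (q : LAut V) ((p : LAut V) w)
    obtain ⟨hp1, hp2⟩ := hstep p hp w w.2
    obtain ⟨hq1, hq2⟩ := hstep q hq w w.2
    have e1 : (q : LAut V) w = ((q : LAut V) w + w) + w := by rw [add_assoc, add_self_v, add_zero]
    have e2 : (p : LAut V) w = ((p : LAut V) w + w) + w := by rw [add_assoc, add_self_v, add_zero]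
    generalize hα : (p : LAut V) w + w = α at *
    generalize hβ : (q : LAut V) w + w = β at *
    rw [e1, map_add, hp2 β hq1, e2, map_add, hq2 α hp1, e1]
    abel
  intro g hg w hw
  exact congrArg Subtype.val (LinearEquiv.congr_fun (MonoidHom.mem_ker.1 (hle hg)) ⟨w, hw⟩)

/-- The points of one kind at a fixed vector are the fixed vectors. -/
theorem cls_eq (hX : XData H X k) {v u : V} (hv : v ∈ fixSub R) (hu : u ∈ fixSub R) (hvu : Indep2 v u)
    (hconst : ∀ a b, a ∈ fixSub R → b ∈ fixSub R → Indep2 a b → X a b = X v u)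
    (hcase : finrank (ZMod 2) (fixSub R) = k ∨ (finrank (ZMod 2) (fixSub R) + d = k ∧
      finrank (ZMod 2) U = 2 * d ∧ 3 ≤ finrank (ZMod 2) (fixSub R))) :
    ∀ a b, a ∈ fixSub R → b ∈ fixSub R → Indep2 a b → cls X a b = fixSub R := by
  intro a b ha hb hab
  have hle : fixSub R ≤ cls X a b := fun z hz => by
    rw [hX.mem_cls hab]
    by_cases h0 : z = 0
    · exact Or.inl h0
    by_cases h1 : z = a
    · exact Or.inr (Or.inl h1)
    have hi : Indep2 a z := ⟨hab.1, h0, Ne.symm h1⟩
    exact Or.inr (Or.inr ⟨hi, (hconst a z ha hz hi).trans (hconst a b ha hb hab).symm⟩)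
  refine (Submodule.eq_of_le_of_finrank_le hle ?_).symm
  have h1 := Submodule.finrank_mono (hX.cls_le hab)
  rw [hX.finrank_eq a b hab] at h1
  rcases hcase with h | ⟨hk, hU, hf⟩
  · omega
  by_contra hlt
  obtain ⟨j, hj⟩ := D.dvd_part (cls X a b) (D.cls_inv hX ha hb hab)
  have hs := D.split (cls X a b) (D.cls_inv hX ha hb hab)
  rw [inf_eq_right.2 hle, hj] at hs
  have hj1 : 1 ≤ j := by
    rcases Nat.eq_zero_or_pos j with rfl | h
    · omega
    · exact h
  have h2 : d * 1 ≤ d * j := Nat.mul_le_mul_left d hj1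
  obtain ⟨z, hz⟩ : ∃ z, z ∉ X a b := by
    by_contra h
    push Not at h
    have := congrArg (fun S : Submodule (ZMod 2) V => finrank (ZMod 2) S) (Submodule.eq_top_iff'.2 h)
    simp only [hX.finrank_eq a b hab, finrank_top] at this
    have := hX.add_two_le
    omega
  have haz := hX.indep_of_not_mem hab hz
  have h3 := finrank_add_le_of_inf hab.1 (le_top : cls X a b ≤ ⊤) (le_top : cls X a z ≤ ⊤)
    (hX.cls_inf hab haz fun e => hz (e ▸ hX.mem_right haz))
  rw [hX.cls_finrank hab haz, finrank_top] at h3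
  have := D.finrank_add
  omega

/-- Frattini: the full stabilizer of the fixed vectors induces what the normalizer induces. -/
theorem range_le (hX : XData H X k) {v u : V} (hv : v ∈ fixSub R) (hu : u ∈ fixSub R) (hvu : Indep2 v u) :
    (restr H (fixSub R)).range ≤ D.actF.range := by
  rintro _ ⟨⟨g, hgH, hgF⟩, rfl⟩
  set K := (restr H (fixSub R)).ker.map (setStab H (fixSub R)).subtype with hK
  have hmem : ∀ x : LAut V, x ∈ K ↔ x ∈ H ∧ ∀ y ∈ fixSub R, x y = y := by
    intro x
    constructor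
    · rintro ⟨⟨x, hx⟩, hx', rfl⟩
      exact ⟨hx.1, fun y hy => congrArg Subtype.val (LinearEquiv.congr_fun hx' ⟨y, hy⟩)⟩
    · rintro ⟨hx, hfix⟩
      refine ⟨⟨x, hx, fun y => ⟨fun hy => ?_, fun hy => (hfix y hy).symm ▸ hy⟩⟩,
        LinearEquiv.ext fun y => Subtype.ext (hfix y y.2), rfl⟩
      have := hfix _ hy
      exact x.injective this ▸ hy
  have hRK : R ≤ K := fun x hx => (hmem x).2 ⟨D.le_grp hx, fun y hy => hy x hx⟩
  have hKle : K ≤ pstab H v u := fun x hx => ⟨((hmem x).1 hx).1, ((hmem x).1 hx).2 v hv, ((hmem x).1 hx).2 u hu⟩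
  let R' := R.map (MulAut.conj g).toMonoidHom
  have hconj : ∀ x, g * x * g⁻¹ ∈ R' ↔ x ∈ R := fun x => by
    refine ⟨?_, fun hx => ⟨x, hx, rfl⟩⟩
    rintro ⟨y, hy, e⟩
    exact (MulAut.conj g).injective e ▸ hy
  have hR'K : R' ≤ K := by
    rintro _ ⟨y, hy, rfl⟩
    refine (hmem _).2 ⟨mul_mem (mul_mem hgH (D.le_grp hy)) (inv_mem hgH), fun z hz => ?_⟩
    show g (y (g⁻¹ z)) = z
    rw [inv_apply']
    have hz' : g.symm z ∈ fixSub R := (hgF _).1 (by rwa [LinearEquiv.apply_symm_apply])
    rw [hz' y hy, LinearEquiv.apply_symm_apply]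
  obtain ⟨h, hh, hh'⟩ := exists_conj hRK hR'K D.pgroup (card_conj g hconj) fun hd =>
    D.hmax v u hvu (hd.trans (Subgroup.card_dvd_of_le hKle))
  have hn : h⁻¹ * g ∈ normIn H R := by
    refine ⟨mul_mem (inv_mem ((hmem h).1 hh).1) hgH, fun x => ?_⟩
    rw [show h⁻¹ * g * x * (h⁻¹ * g)⁻¹ = h⁻¹ * (g * x * g⁻¹) * h by group, ← hh',
      show h * (h⁻¹ * (g * x * g⁻¹) * h) * h⁻¹ = g * x * g⁻¹ by group, hconj]
  refine ⟨⟨_, hn⟩, LinearEquiv.ext fun y => Subtype.ext ?_⟩
  show (h⁻¹ * g) y = g y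
  rw [symm_apply_mul, inv_apply', LinearEquiv.symm_apply_eq]
  exact (((hmem h).1 hh).2 _ ((hgF _).2 y.2)).symm

/-- The case of a larger fixed space. -/
theorem exists_isTv_of_three (hX : XData H X k) {v u : V} (hv : v ∈ fixSub R) (hu : u ∈ fixSub R)
    (hvu : Indep2 v u) (hf : 3 ≤ finrank (ZMod 2) (fixSub R))
    (hU : finrank (ZMod 2) U = d ∨ finrank (ZMod 2) U = 2 * d)
    (hcls : ∀ a b, a ∈ fixSub R → b ∈ fixSub R → Indep2 a b → cls X a b = fixSub R)
    (hfixU : ∀ g ∈ derivedSeries (normIn H R) 3, ∀ w ∈ U, (g : LAut V) w = w) : ∃ t ∈ H, IsTv t := by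
  classical
  have hd := D.hd0 hX
  set F := fixSub R with hF
  -- a transvection on `F` in the stabilizer of `F` suffices
  have hfull : (∃ s, IsTv (restr H F s)) → ∃ t ∈ H, IsTv t := by
    rintro ⟨s, hs⟩
    have htop : (restr H F).range = ⊤ := eq_top_of_isTv (D.pair2_range.mono (by
      rintro _ ⟨g, rfl⟩; exact ⟨_, rfl⟩)) hf ⟨s, rfl⟩ hs
    have hJ : D.actF.range = ⊤ := top_le_iff.1 (htop ▸ D.range_le hX hv hu hvu)
    have hsur : Function.Surjective D.actF := MonoidHom.range_eq_top.1 hJ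
    have hder : ∀ i, derivedSeries (LAut F) i = ⊤ := by
      intro i
      induction i with
      | zero => rfl
      | succ i ih => rw [derivedSeries_succ, ih, commutator_top hf]
    obtain ⟨t, ht, hts⟩ : restr H F s ∈ (derivedSeries (normIn H R) 3).map D.actF := by
      rw [map_derivedSeries_eq hsur, hder]; exact Subgroup.mem_top _
    exact ⟨t, t.2.1, D.isTv_of_actF (hfixU t ht) (by rw [hts]; exact hs)⟩
  -- an element fixing `U` and moving `F`
  obtain ⟨t, ht, htne⟩ : ∃ t ∈ derivedSeries (normIn H R) 3, D.actF t ≠ 1 := by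
    by_contra h
    push Not at h
    refine not_isSolvable_of_pair2 D.pair2_range hf ⟨⟨3, eq_bot_iff.2 ?_⟩⟩
    rw [← map_derivedSeries_eq D.actF.rangeRestrict_surjective]
    rintro _ ⟨g, hg, rfl⟩
    exact Subtype.ext (h g hg)
  have htU := hfixU t ht
  have htF : ∀ x, (t : LAut V) x + x ∈ F := by
    intro x
    obtain ⟨y, hy, w, hw, rfl⟩ := D.exists_decomp x
    rw [map_add, htU w hw, add_add_add_comm, add_self_v, add_zero]
    exact add_mem (normIn_apply_mem t.2 hy) hy
  -- blocks
  have hblock : ∀ a b, Indep2 a b → ∀ c e, c ∈ cls X a b → e ∈ cls X a b → Indep2 c e →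
      cls X c e = cls X a b := by
    intro a b hab c e hc he hce
    obtain ⟨g, hg, rfl, rfl⟩ := hX.pair2 v u a b hvu hab
    rw [← hX.cls_map hg hvu, hcls v u hv hu hvu] at hc he ⊢
    obtain ⟨c', hc', rfl⟩ := hc
    obtain ⟨e', he', rfl⟩ := he
    have hi : Indep2 c' e' := by simpa using hce.map g.symm
    show cls X (g c') (g e') = _
    rw [← hX.cls_map hg hi, hcls c' e' hc' he' hi]
  by_contra hnone
  -- blocks through two fixed vectors
  have hfixed : ∀ u₁ u₂, Indep2 u₁ u₂ → (t : LAut V) u₁ = u₁ → (t : LAut V) u₂ = u₂ →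
      cls X u₁ u₂ ≠ F → ∀ x ∈ cls X u₁ u₂, (t : LAut V) x = x := by
    intro u₁ u₂ hi h1 h2 hne x hx
    by_contra hmove
    set B := cls X u₁ u₂ with hB
    have htB : ∀ y ∈ B, (t : LAut V) y ∈ B := fun y hy => by
      have := Submodule.mem_map_of_mem (f := ((t : LAut V) : V →ₗ[ZMod 2] V)) hy
      rwa [hX.cls_map t.2.1 hi, h1, h2] at this
    set w := (t : LAut V) x + x with hw
    have hw0 : w ≠ 0 := fun e => hmove (add_eq_zero_v e)
    have hBF : ∀ y ∈ B, y ∈ F → y = 0 ∨ y = w := by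
      intro y hy hyF
      by_contra hcon
      rw [not_or] at hcon
      have hi' : Indep2 w y := ⟨hw0, hcon.1, Ne.symm hcon.2⟩
      refine hne ?_
      rw [hB, ← hblock u₁ u₂ hi w y (add_mem (htB x hx) hx) hy hi']
      exact hcls w y (htF x) hyF hi'
    obtain ⟨g, hg, hgv, hgu⟩ := hX.pair2 v u u₁ u₂ hvu hi
    have hgB : ∀ y, g y ∈ B ↔ y ∈ F := by
      intro y
      rw [hB, ← hgv, ← hgu, ← hX.cls_map hg hvu, hcls v u hv hu hvu, Submodule.mem_map]
      exact ⟨fun ⟨z, hz, e⟩ => g.injective e ▸ hz, fun hy => ⟨y, hy, rfl⟩⟩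
    have hsmem : g⁻¹ * (t : LAut V) * g ∈ setStab H F := by
      refine le_setStab (K := Subgroup.zpowers (g⁻¹ * (t : LAut V) * g))
        (Subgroup.zpowers_le.2 (mul_mem (mul_mem (inv_mem hg) t.2.1) hg)) (fun q hq => ?_)
        (Subgroup.mem_zpowers _)
      obtain ⟨i, rfl⟩ := (isOfFinOrder_of_finite _).mem_powers_iff_mem_zpowers.2 hq
      induction i with
      | zero => exact fun y hy => hy
      | succ i ih =>
        intro y hy
        show ((g⁻¹ * (t : LAut V) * g) ^ (i + 1)) y ∈ F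
        rw [pow_succ, symm_apply_mul]
        refine ih ((isOfFinOrder_of_finite _).mem_powers_iff_mem_zpowers.1 ⟨i, rfl⟩) _ ?_
        rw [symm_apply_mul, symm_apply_mul, inv_apply', ← hgB, LinearEquiv.apply_symm_apply]
        exact htB _ ((hgB y).2 hy)
    refine hnone (hfull ⟨⟨_, hsmem⟩, ?_⟩)
    have hval : ∀ y : F, g ((restr H F ⟨_, hsmem⟩ y : F) : V) = (t : LAut V) (g y) := by
      intro y
      rw [restr_apply]
      show g ((g⁻¹ * (t : LAut V) * g) y) = _
      rw [symm_apply_mul, symm_apply_mul, inv_apply', LinearEquiv.apply_symm_apply]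
    refine ⟨fun e => hmove ?_, ⟨g.symm w, (hgB _).1 (by
      rw [LinearEquiv.apply_symm_apply]; exact add_mem (htB x hx) hx)⟩, fun y => ?_⟩
    · have := hval ⟨g.symm x, (hgB _).1 (by rwa [LinearEquiv.apply_symm_apply])⟩
      rw [e] at this
      simpa using this.symm
    · have hy : g y ∈ B := (hgB y).2 y.2
      rcases hBF _ (add_mem (htB _ hy) hy) (htF _) with e | e
      · refine Or.inl (Subtype.ext (g.injective ?_))
        rw [hval y]
        exact add_eq_zero_v e
      · refine Or.inr (Subtype.ext (g.injective ?_))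
        rw [hval y, Submodule.coe_add, map_add, LinearEquiv.apply_symm_apply, ← e,
          add_comm ((t : LAut V) (g y)), ← add_assoc, add_self_v, zero_add]
  -- the fixed vectors of `t`
  let Φ : Submodule (ZMod 2) V := LinearMap.ker (((t : LAut V) : V →ₗ[ZMod 2] V) + LinearMap.id)
  have hmemΦ : ∀ y, y ∈ Φ ↔ (t : LAut V) y = y := fun y =>
    ⟨fun h => add_eq_zero_v (LinearMap.mem_ker.1 h), fun h => by
      rw [LinearMap.mem_ker, LinearMap.add_apply, LinearEquiv.coe_coe, LinearMap.id_apply, h, add_self_v]⟩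
  have hUΦ : U ≤ Φ := fun w hw => (hmemΦ w).2 (htU w hw)
  have hcf : ∀ a b, Indep2 a b → finrank (ZMod 2) (cls X a b) = finrank (ZMod 2) F := fun a b hab => by
    rw [hX.cls_finrank hvu hab, hcls v u hv hu hvu]
  have hsum := D.finrank_add
  rw [← hF] at hsum
  have hUpos : 2 ≤ finrank (ZMod 2) U := by rcases hU with h | h <;> omega
  by_cases hmeet : ∃ y ∈ F, y ≠ 0 ∧ (t : LAut V) y = y
  · obtain ⟨y, hyF, hy0, hyt⟩ := hmeet
    obtain ⟨x₁, hx₁F, hx₁⟩ : ∃ x ∈ F, (t : LAut V) x ≠ x := by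
      by_contra h
      push Not at h
      exact htne (LinearEquiv.ext fun z => Subtype.ext (h z z.2))
    obtain ⟨w, hw, hw0⟩ := Submodule.exists_mem_ne_zero_of_ne_bot (p := U) fun e => by
      rw [e, finrank_bot] at hUpos; omega
    set x := x₁ + w with hx
    have hxF : x ∉ F := fun h => hw0 (Submodule.disjoint_def.1 D.compl.disjoint w
      ((Submodule.add_mem_iff_right _ hx₁F).1 h) hw)
    have hxt : (t : LAut V) x ≠ x := by
      rw [hx, map_add, htU w hw]
      exact fun e => hx₁ (add_right_cancel e)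
    have hx0 : x ≠ 0 := fun e => hxF (e ▸ zero_mem _)
    haveI := Fintype.ofFinite V
    set P := Finset.univ.filter fun u' => u' ∈ Φ ∧ u' ≠ 0 with hP
    let S : V → Finset V := fun u' => Finset.univ.filter fun z => z ∈ cls X x u' ∧ Indep2 x z
    have hiP : ∀ u' ∈ P, Indep2 x u' := fun u' hu' => by
      simp only [hP, Finset.mem_filter, Finset.mem_univ, true_and] at hu'
      exact ⟨hx0, hu'.2, fun e => hxt (e ▸ (hmemΦ u').1 hu'.1)⟩
    have hcard : ∀ u' ∈ P, (S u').card = 2 ^ finrank (ZMod 2) F - 2 := fun u' hu' => by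
      rw [← hcf x u' (hiP u' hu'), ← card_indep_right (hX.left_mem_cls (hiP u' hu')) hx0,
        Nat.card_eq_fintype_card, Fintype.card_subtype]
    have hdisj : (P : Set V).PairwiseDisjoint S := by
      intro u₁ h₁ u₂ h₂ hne
      rw [Function.onFun, Finset.disjoint_left]
      intro z hz1 hz2
      simp only [S, Finset.mem_filter, Finset.mem_univ, true_and] at hz1 hz2
      have hi1 := hiP u₁ h₁
      have hi2 := hiP u₂ h₂
      have e1 := hX.cls_eq_of_mem hi1 hz1.2 hz1.1
      have e2 := hX.cls_eq_of_mem hi2 hz2.2 hz2.1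
      simp only [hP, Finset.coe_filter, Finset.mem_univ, true_and, Set.mem_setOf_eq] at h₁ h₂
      have hi : Indep2 u₁ u₂ := ⟨h₁.2, h₂.2, hne⟩
      have hmem2 : u₂ ∈ cls X x u₁ := by rw [← e1, e2]; exact hX.self_mem_cls hi2
      have hB := hblock x u₁ hi1 u₁ u₂ (hX.self_mem_cls hi1) hmem2 hi
      have hxB : x ∈ cls X u₁ u₂ := hB ▸ hX.left_mem_cls hi1
      by_cases hBF : cls X u₁ u₂ = F
      · exact hxF (hBF ▸ hxB)
      · exact hxt (hfixed u₁ u₂ hi ((hmemΦ _).1 h₁.1) ((hmemΦ _).1 h₂.1) hBF x hxB)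
    have hle : (P.biUnion S).card ≤ 2 ^ finrank (ZMod 2) V - 2 := by
      refine le_trans (Finset.card_le_card (t := Finset.univ.filter fun z => z ∈ (⊤ : Submodule (ZMod 2) V) ∧
        Indep2 x z) fun z hz => ?_) ?_
      · obtain ⟨u', -, hz⟩ := Finset.mem_biUnion.1 hz
        simp only [S, Finset.mem_filter, Finset.mem_univ, true_and] at hz ⊢
        exact ⟨trivial, hz.2⟩
      · rw [← Fintype.card_subtype, ← Nat.card_eq_fintype_card, card_indep_right Submodule.mem_top hx0,
          finrank_top]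
    rw [Finset.card_biUnion hdisj, Finset.sum_congr rfl hcard, Finset.sum_const, smul_eq_mul] at hle
    have hPc : 2 ^ (finrank (ZMod 2) U + 1) - 1 ≤ P.card := by
      have hlt : U < U ⊔ Submodule.span (ZMod 2) {y} := lt_of_le_of_ne le_sup_left fun e =>
        hy0 (Submodule.disjoint_def.1 D.compl.disjoint y hyF
          (e ▸ Submodule.mem_sup_right (Submodule.mem_span_singleton_self y)))
      have h1 := Submodule.finrank_lt_finrank_of_lt hlt
      have h2 := Submodule.finrank_mono (show U ⊔ Submodule.span (ZMod 2) {y} ≤ Φ from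
        sup_le hUΦ ((Submodule.span_singleton_le_iff_mem _ _).2 ((hmemΦ y).2 hyt)))
      have e : P = (Finset.univ.filter fun z => z ∈ Φ).erase 0 := by
        ext z
        simp [hP, and_comm]
      rw [e, Finset.card_erase_of_mem (Finset.mem_filter.2 ⟨Finset.mem_univ _, zero_mem Φ⟩),
        ← Fintype.card_subtype, ← Nat.card_eq_fintype_card]
      erw [card_submodule]
      have := Nat.pow_le_pow_right two_pos (show finrank (ZMod 2) U + 1 ≤ finrank (ZMod 2) Φ by omega)
      omega
    have hA : 4 ≤ 2 ^ finrank (ZMod 2) U :=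
      le_trans (by norm_num) (Nat.pow_le_pow_right two_pos hUpos)
    have hB : 8 ≤ 2 ^ finrank (ZMod 2) F := le_trans (by norm_num) (Nat.pow_le_pow_right two_pos hf)
    rw [← hsum, pow_add] at hle
    rw [pow_succ] at hPc
    have h := (Nat.mul_le_mul_right (2 ^ finrank (ZMod 2) F - 2) hPc).trans hle
    generalize 2 ^ finrank (ZMod 2) F = B at *
    generalize 2 ^ finrank (ZMod 2) U = A at *
    obtain ⟨A, rfl⟩ := Nat.exists_eq_add_of_le hA
    obtain ⟨B, rfl⟩ := Nat.exists_eq_add_of_le hB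
    rw [show (4 + A) * 2 - 1 = 7 + 2 * A by omega, show 8 + B - 2 = 6 + B by omega] at h
    have : 2 ≤ (8 + B) * (4 + A) := by nlinarith
    have h' : (7 + 2 * A) * (6 + B) + 2 ≤ (8 + B) * (4 + A) := by omega
    nlinarith
  · push Not at hmeet
    have hΦ : ∀ y, (t : LAut V) y = y → y ∈ U := by
      intro y hy
      obtain ⟨p, hp, q, hq, rfl⟩ := D.exists_decomp y
      rw [map_add, htU q hq] at hy
      by_cases hp0 : p = 0
      · rw [hp0, zero_add]; exact hq
      · exact absurd (add_right_cancel hy) (hmeet p hp hp0)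
    obtain ⟨w, hw, hw0⟩ := Submodule.exists_mem_ne_zero_of_ne_bot (p := U) fun e => by
      rw [e, finrank_bot] at hUpos; omega
    have h1 := hX.cls_dvd hw hw0 (fun z hz => hcf w z hz) fun z hz hwz x hx => hΦ x (hfixed w z hwz
      (htU w hw) (htU z hz) (fun e => hw0 (Submodule.disjoint_def.1 D.compl.disjoint w
        (e.le (hX.left_mem_cls hwz)) hw)) x hx)
    have h2 := hX.cls_dvd (S := ⊤) Submodule.mem_top hw0 (fun z hz => hcf w z hz) fun _ _ _ => le_top
    rw [finrank_top] at h2
    have key : ∀ {p q : ℕ}, 2 ≤ p → 2 ≤ q → 2 ^ p - 2 ∣ 2 ^ q - 2 → p - 1 ∣ q - 1 := by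
      intro p q hp hq hpq
      have e : ∀ m, 2 ≤ m → 2 ^ m - 2 = 2 * (2 ^ (m - 1) - 1) := fun m hm => by
        rw [Nat.mul_sub, ← pow_succ', Nat.sub_add_cancel (by omega), mul_one]
      rw [e p hp, e q hq] at hpq
      have h3 := Nat.gcd_eq_left (Nat.dvd_of_mul_dvd_mul_left two_pos hpq)
      rw [Nat.pow_sub_one_gcd_pow_sub_one] at h3
      have h4 : 2 ^ Nat.gcd (p - 1) (q - 1) = 2 ^ (p - 1) := by
        have := Nat.one_le_two_pow (n := Nat.gcd (p - 1) (q - 1))
        have := Nat.one_le_two_pow (n := p - 1)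
        omega
      exact Nat.gcd_eq_left_iff_dvd.1 (Nat.pow_right_injective le_rfl h4)
    have h5 := key (by omega) hUpos h1
    have h6 := key (by omega) (by omega) h2
    have h7 := Nat.dvd_sub h6 h5
    rw [show finrank (ZMod 2) V - 1 - (finrank (ZMod 2) U - 1) = finrank (ZMod 2) F by omega] at h7
    have h8 := Nat.dvd_sub h7 dvd_rfl
    rw [show finrank (ZMod 2) F - (finrank (ZMod 2) F - 1) = 1 by omega] at h8
    have := Nat.le_of_dvd one_pos h8
    omega

end Descended

/-- A transvection exists when the codimension has a primitive prime and is at least a third. -/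
theorem exists_isTv_of_xdata {r : ℕ} [Fact r.Prime] (hX : XData H X k)
    (hd : orderOf (2 : ZMod r) = finrank (ZMod 2) V - k)
    (h3 : finrank (ZMod 2) V ≤ 3 * (finrank (ZMod 2) V - k)) (hodd : Odd (finrank (ZMod 2) V)) :
    ∃ t ∈ H, IsTv t := by
  have hr2 : r ≠ 2 := by
    rintro rfl
    have := hX.add_two_le
    rw [show (2 : ZMod 2) = 0 from rfl, orderOf_zero] at hd
    omega
  obtain ⟨R, U, D⟩ := hX.exists_descended hd hr2
  obtain ⟨v, u, hv, hu, hvu⟩ := D.exists_pair
  have hconst : ∀ a b, a ∈ fixSub R → b ∈ fixSub R → Indep2 a b → X a b = X v u := fun a b ha hb hab =>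
    D.X_const hX h3 hodd hv hu ha hb hvu hab
  rcases D.cases_dim hX h3 hodd with ⟨hk, hU⟩ | ⟨hk, hU, -, hf⟩
  · rcases Nat.lt_or_ge (finrank (ZMod 2) (fixSub R)) 3 with hlt | hge
    · have h2 := D.two_le
      refine D.exists_isTv_of_two hX (by omega) hU ?_
      have := D.finrank_add
      rcases Nat.even_or_odd (finrank (ZMod 2) V - k) with he | ho
      · refine absurd hodd (Nat.not_odd_iff_even.2 ?_)
        rw [← this, show finrank (ZMod 2) (fixSub R) = 2 by omega, hU]
        exact even_two.add he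
      · exact ho
    · exact D.exists_isTv_of_three hX hv hu hvu hge (Or.inl hU) (D.cls_eq hX hv hu hvu hconst (Or.inl hk))
        (D.derived_three_fixU hX hv hu hvu hconst (Or.inl hU))
  · exact D.exists_isTv_of_three hX hv hu hvu hf (Or.inr hU)
      (D.cls_eq hX hv hu hvu hconst (Or.inr ⟨hk, hU, hf⟩))
      (D.derived_three_fixU hX hv hu hvu hconst (Or.inr hU))

end CfsgLib.TransGL
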