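import Cfsg.Agent.Lib.TransGL.Defs

/-!
# The field model of a Singer cycle of prime order
-/

set_option autoImplicit false
set_option linter.unusedSectionVars false
set_option linter.style.haveILetI false

namespace CfsgLib.TransGL

open Module Polynomial

variable {V : Type*} [AddCommGroup V] [Module (ZMod 2) V]

/-- An irreducible factor of `X ^ p - 1` other than `X - 1` has degree at least `n`. -/
theorem le_natDegree_factor {n : ℕ} (hp : (2 ^ n - 1).Prime) (q : (ZMod 2)[X]) (hq : Irreducible q)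
    (hd : q ∣ X ^ (2 ^ n - 1) - 1) (h1 : q.eval 1 ≠ 0) : n ≤ q.natDegree := by
  haveI := Fact.mk hq
  set b := AdjoinRoot.powerBasis hq.ne_zero
  haveI : Module.Finite (ZMod 2) (AdjoinRoot q) := b.finite
  haveI : Finite (AdjoinRoot q) := Module.finite_of_finite (ZMod 2)
  have hcard : Nat.card (AdjoinRoot q) = 2 ^ q.natDegree := by
    rw [Module.natCard_eq_pow_finrank (K := ZMod 2), Nat.card_zmod, b.finrank,
      AdjoinRoot.powerBasis_dim]
  set ρ := AdjoinRoot.root q
  have hρp : ρ ^ (2 ^ n - 1) = 1 := by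
    obtain ⟨w, hw⟩ := hd
    have := congrArg (AdjoinRoot.mk q) hw
    rw [map_sub, map_pow, map_one, map_mul, AdjoinRoot.mk_X, AdjoinRoot.mk_self, zero_mul] at this
    exact sub_eq_zero.1 this
  have hρ1 : ρ ≠ 1 := by
    intro e
    have := AdjoinRoot.eval₂_root q
    rw [show AdjoinRoot.root q = ρ from rfl, e, Polynomial.eval₂_at_one] at this
    exact h1 ((AdjoinRoot.of q).injective (this.trans (map_zero _).symm))
  haveI : Fact (2 ^ n - 1).Prime := ⟨hp⟩
  have ho : orderOf ρ = 2 ^ n - 1 := orderOf_eq_prime hρp hρ1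
  have hρ0 : ρ ≠ 0 := by
    intro e; rw [e, zero_pow hp.ne_zero] at hρp; exact zero_ne_one hρp
  have h2 := orderOf_dvd_natCard (Units.mk0 ρ hρ0)
  rw [← orderOf_units, Units.val_mk0, ho, Nat.card_units, hcard] at h2
  have hpos : 0 < 2 ^ q.natDegree - 1 := by
    have := Nat.pow_le_pow_right two_pos hq.natDegree_pos
    omega
  have := Nat.le_of_dvd hpos h2
  exact (Nat.pow_le_pow_iff_right (le_refl 2)).1 (by omega)

/-- The field model of an element of prime order `2 ^ n - 1`. -/
theorem exists_field_model [Finite V] {n : ℕ} (hn : finrank (ZMod 2) V = n) (hp : (2 ^ n - 1).Prime)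
    (g : LAut V) (hg : orderOf g = 2 ^ n - 1) :
    ∃ (K : Type) (_ : Field K) (_ : Fintype K) (_ : Algebra (ZMod 2) K) (e : K ≃ₗ[ZMod 2] V) (ζ : K),
      Fintype.card K = 2 ^ n ∧ (∀ x, g (e x) = e (ζ * x)) ∧ ∀ x : K, x ≠ 0 → ∃ i : ℕ, x = ζ ^ i := by
  haveI : Module.Finite (ZMod 2) V := Module.Finite.of_finite
  have hn2 : 2 ≤ n := by
    by_contra h
    interval_cases n <;> norm_num at hp
  set p := 2 ^ n - 1 with hpdef
  have hp3 : 3 ≤ p := by
    have := Nat.pow_le_pow_right two_pos hn2
    omega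
  have hodd : Odd p := by
    refine hp.odd_of_ne_two ?_
    omega
  let T : Module.End (ZMod 2) V := LinearEquiv.automorphismGroup.toLinearMapMonoidHom g
  have hTapp : ∀ v, T v = g v := fun _ => rfl
  have hTp : T ^ p = 1 := by
    show LinearEquiv.automorphismGroup.toLinearMapMonoidHom g ^ p = 1
    rw [← map_pow, ← hg, pow_orderOf_eq_one, map_one]
  have hT1 : T ≠ 1 := by
    intro e
    have : g = 1 := LinearEquiv.ext fun v => by rw [← hTapp, e]; rfl
    rw [this, orderOf_one] at hg
    omega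
  haveI : Nontrivial (Module.End (ZMod 2) V) := ⟨⟨T, 1, hT1⟩⟩
  set f := minpoly (ZMod 2) T with hf
  have hint : IsIntegral (ZMod 2) T := Algebra.IsIntegral.isIntegral T
  have hfdeg : f.natDegree ≤ n := by
    rw [← hn, ← LinearMap.charpoly_natDegree T]
    exact Polynomial.natDegree_le_of_dvd (LinearMap.minpoly_dvd_charpoly T)
      (LinearMap.charpoly_monic T).ne_zero
  have hfd : f ∣ X ^ p - 1 := minpoly.dvd _ _ (by simp [hTp])
  have hsep : (X ^ p - 1 : (ZMod 2)[X]).Separable := by
    refine Polynomial.X_pow_sub_one_separable_iff.2 ?_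
    rw [Ne, ZMod.natCast_eq_zero_iff]
    exact fun h => Nat.not_even_iff_odd.2 hodd (even_iff_two_dvd.2 h)
  -- `1` is no root
  have hf1 : f.eval 1 ≠ 0 := by
    intro h
    obtain ⟨f', hf'⟩ := dvd_iff_isRoot.2 h
    have hf'1 : ¬ IsUnit f' := by
      intro hu
      obtain ⟨c, hc, hcf⟩ := Polynomial.isUnit_iff.1 hu
      have h0 : aeval T f = 0 := minpoly.aeval _ _
      rw [hf', map_mul, ← hcf, aeval_C, map_sub, aeval_X, aeval_C, map_one] at h0
      have h01 : c = 1 :=
        (by decide : ∀ d : ZMod 2, d ≠ 0 → d = 1) c hc.ne_zero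
      rw [h01, map_one, mul_one, sub_eq_zero] at h0
      exact hT1 h0
    obtain ⟨q, hq, hqd⟩ := WfDvdMonoid.exists_irreducible_factor hf'1 (fun e => by
      rw [e, mul_zero] at hf'; exact minpoly.ne_zero hint hf')
    have hfsq : Squarefree f := hsep.squarefree.squarefree_of_dvd hfd
    have hq1 : q.eval 1 ≠ 0 := by
      intro h1
      obtain ⟨w, hw⟩ := dvd_iff_isRoot.2 h1
      obtain ⟨u, hu⟩ := hqd
      refine Polynomial.not_isUnit_X_sub_C (R := ZMod 2) 1 (hfsq _ ⟨w * u, ?_⟩)
      rw [hf', hu, hw]; ring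
    have hdeg := le_natDegree_factor hp q hq
      ((hqd.trans (Dvd.intro_left _ hf'.symm)).trans hfd) hq1
    have hf0 : f' ≠ 0 := fun e => by rw [e, mul_zero] at hf'; exact minpoly.ne_zero hint hf'
    have h2 := Polynomial.natDegree_le_of_dvd hqd hf0
    have h3 : f.natDegree = 1 + f'.natDegree := by
      rw [hf', Polynomial.natDegree_mul (Polynomial.X_sub_C_ne_zero 1) hf0,
        Polynomial.natDegree_X_sub_C]
    omega
  have hirr : Irreducible f ∧ f.natDegree = n := by
    obtain ⟨q, hq, hqd⟩ := WfDvdMonoid.exists_irreducible_factor (minpoly.not_isUnit (ZMod 2) T)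
      (minpoly.ne_zero hint)
    have hq1 : q.eval 1 ≠ 0 := fun h1 => hf1 (Polynomial.eval_eq_zero_of_dvd_of_eval_eq_zero hqd h1)
    have hdeg := le_natDegree_factor hp q hq (hqd.trans hfd) hq1
    have hle := Polynomial.natDegree_le_of_dvd hqd (minpoly.ne_zero hint)
    obtain ⟨u, hu⟩ := hqd
    have hu0 : u ≠ 0 := fun e => by rw [e, mul_zero] at hu; exact minpoly.ne_zero hint hu
    have hdu : f.natDegree = q.natDegree + u.natDegree := by
      rw [show f = q * u from hu, Polynomial.natDegree_mul hq.ne_zero hu0]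
    refine ⟨?_, by omega⟩
    have hu1 : IsUnit u := by
      rw [Polynomial.isUnit_iff_degree_eq_zero, Polynomial.degree_eq_natDegree hu0]
      simp only [Nat.cast_eq_zero]
      omega
    exact (Associated.irreducible ⟨hu1.unit, by rw [hu1.unit_spec, ← hu]⟩ hq)
  obtain ⟨hirr, hdeg⟩ := hirr
  clear_value T
  haveI := Fact.mk hirr
  haveI : Module.Finite (ZMod 2) (AdjoinRoot f) := (AdjoinRoot.powerBasis hirr.ne_zero).finite
  haveI : Finite (AdjoinRoot f) := Module.finite_of_finite (ZMod 2)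
  have hdim : finrank (ZMod 2) (AdjoinRoot f) = n := by
    rw [(AdjoinRoot.powerBasis hirr.ne_zero).finrank, AdjoinRoot.powerBasis_dim, hdeg]
  obtain ⟨v, hv⟩ : ∃ v : V, v ≠ 0 := by
    by_contra h
    push Not at h
    exact hT1 (LinearMap.ext fun v => by rw [h v]; simp)
  let φ : AdjoinRoot f →ₐ[ZMod 2] Module.End (ZMod 2) V :=
    Ideal.Quotient.liftₐ (Ideal.span {f}) (aeval T) fun a ha => by
      obtain ⟨w, rfl⟩ := Ideal.mem_span_singleton.1 ha
      rw [map_mul, show aeval T f = 0 from minpoly.aeval (ZMod 2) T, zero_mul]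
  have hroot : φ (AdjoinRoot.root f) = T := by
    show aeval T X = T
    rw [aeval_X]
  let L : AdjoinRoot f →ₗ[ZMod 2] V := (LinearMap.applyₗ v).comp φ.toLinearMap
  have hL : ∀ x, L x = φ x v := fun _ => rfl
  have hinj : Function.Injective L := by
    refine (injective_iff_map_eq_zero L).2 fun x hx => ?_
    by_contra hx0
    apply hv
    have : φ x⁻¹ (φ x v) = 0 := by rw [← hL, hx, map_zero]
    rwa [← Module.End.mul_apply, ← map_mul, inv_mul_cancel₀ hx0, map_one,
      Module.End.one_apply] at this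
  let e : AdjoinRoot f ≃ₗ[ZMod 2] V :=
    LinearMap.linearEquivOfInjective L hinj (by rw [hdim, hn])
  have he : ∀ x, e x = φ x v := fun _ => rfl
  haveI := Fintype.ofFinite (AdjoinRoot f)
  refine ⟨AdjoinRoot f, inferInstance, inferInstance, inferInstance, e, AdjoinRoot.root f,
    ?_, fun x => ?_, ?_⟩
  · rw [← Nat.card_eq_fintype_card, Module.natCard_eq_pow_finrank (K := ZMod 2), Nat.card_zmod,
      hdim]
  · rw [he, he, map_mul, hroot, Module.End.mul_apply, hTapp]
  · intro x hx
    have hζp : AdjoinRoot.root f ^ p = 1 := by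
      obtain ⟨w, hw⟩ := hfd
      have := congrArg (AdjoinRoot.mk f) hw
      rw [map_sub, map_pow, map_one, map_mul, AdjoinRoot.mk_X, AdjoinRoot.mk_self, zero_mul] at this
      exact sub_eq_zero.1 this
    have hζ1 : AdjoinRoot.root f ≠ 1 := fun h => hT1 (by rw [← hroot, h, map_one])
    haveI : Fact p.Prime := ⟨hp⟩
    have hprim : IsPrimitiveRoot (AdjoinRoot.root f) p := by
      rw [← orderOf_eq_prime hζp hζ1]; exact IsPrimitiveRoot.orderOf _
    have hxp : x ^ p = 1 := by
      haveI := Fintype.ofFinite (AdjoinRoot f)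
      have := FiniteField.pow_card_sub_one_eq_one x hx
      rwa [← Nat.card_eq_fintype_card, Module.natCard_eq_pow_finrank (K := ZMod 2), Nat.card_zmod,
        hdim] at this
    obtain ⟨i, -, hi⟩ := hprim.eq_pow_of_pow_eq_one hxp
    exact ⟨i, hi.symm⟩

end CfsgLib.TransGL
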