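import Cfsg.Agent.Lib.TransGL.Basic

/-!
# The subspace attached to a line (S4179)

A Sylow 2-subgroup fixes a flag and is transitive outside the hyperplane, so the stabilizer of a line
and a point of it is transitive outside a subspace.
-/

set_option autoImplicit false
set_option linter.style.haveILetI false
set_option linter.unusedSectionVars false

namespace CfsgLib.TransGL

open Module MulAction
open scoped Classical

variable {V : Type*} [AddCommGroup V] [Module (ZMod 2) V]

/-- The stabilizer of a point and a line through it. -/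
def lineStab (H : Subgroup (LAut V)) (v u : V) : Subgroup (LAut V) where
  carrier := {g | g ∈ H ∧ g v = v ∧ (g u = u ∨ g u = v + u)}
  one_mem' := ⟨one_mem H, rfl, Or.inl rfl⟩
  mul_mem' := by
    rintro g k ⟨hg, hgv, hgu⟩ ⟨hk, hkv, hku⟩
    refine ⟨mul_mem hg hk, by rw [symm_apply_mul, hkv, hgv], ?_⟩
    rcases hku with e | e <;> rcases hgu with e' | e' <;>
      simp [e, e', map_add, hgv, ← add_assoc, add_self_v]
  inv_mem' := by
    rintro g ⟨hg, hgv, hgu⟩
    have hv : g.symm v = v := (LinearEquiv.symm_apply_eq _).2 hgv.symm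
    refine ⟨inv_mem hg, hv, ?_⟩
    rcases hgu with e | e
    · exact Or.inl ((LinearEquiv.symm_apply_eq _).2 e.symm)
    · refine Or.inr ((LinearEquiv.symm_apply_eq _).2 ?_)
      rw [map_add, hgv, e, ← add_assoc, add_self_v, zero_add]

/-- The setwise stabilizer of a line. -/
def setStab (H : Subgroup (LAut V)) (L : Submodule (ZMod 2) V) : Subgroup (LAut V) where
  carrier := {g | g ∈ H ∧ ∀ x, g x ∈ L ↔ x ∈ L}
  one_mem' := ⟨one_mem H, fun _ => Iff.rfl⟩
  mul_mem' := fun hg hk => ⟨mul_mem hg.1 hk.1, fun x => by rw [symm_apply_mul, hg.2, hk.2]⟩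
  inv_mem' := fun {g} hg => ⟨inv_mem hg.1, fun x => by
    rw [← hg.2 (g⁻¹ x), inv_apply', LinearEquiv.apply_symm_apply]⟩

/-- The vectors which `Γ` keeps in the kernel of `f`. -/
def core (Γ : Subgroup (LAut V)) (f : Dual (ZMod 2) V) : Submodule (ZMod 2) V where
  carrier := {x | ∀ g ∈ Γ, f (g x) = 0}
  zero_mem' := fun g _ => by rw [map_zero, map_zero]
  add_mem' := fun hx hy g hg => by rw [map_add, map_add, hx g hg, hy g hg, add_zero]
  smul_mem' := fun c x hx g hg => by rw [map_smul, map_smul, hx g hg, smul_zero]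

theorem core_map {Γ : Subgroup (LAut V)} {f : Dual (ZMod 2) V} {g : LAut V} (hg : g ∈ Γ) :
    (core Γ f).map (g : V →ₗ[ZMod 2] V) = core Γ f := by
  refine le_antisymm ?_ fun x hx => ⟨g.symm x, fun k hk => ?_, g.apply_symm_apply x⟩
  · rintro _ ⟨x, hx, rfl⟩ k hk
    exact hx (k * g) (mul_mem hk hg)
  · exact hx (k * g⁻¹) (mul_mem hk (inv_mem hg))

theorem core_off {Γ : Subgroup (LAut V)} {f : Dual (ZMod 2) V}
    (htr : ∀ x y : V, f x = 1 → f y = 1 → ∃ g ∈ Γ, g x = y) {x y : V}
    (hx : x ∉ core Γ f) (hy : y ∉ core Γ f) : ∃ g ∈ Γ, g x = y := by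
  obtain ⟨a, ha, ha'⟩ : ∃ a ∈ Γ, f (a x) ≠ 0 := by
    by_contra h
    push Not at h
    exact hx h
  obtain ⟨b, hb, hb'⟩ : ∃ b ∈ Γ, f (b y) ≠ 0 := by
    by_contra h
    push Not at h
    exact hy h
  obtain ⟨t, ht, hxy⟩ := htr _ _ ((zmod_two_cases _).resolve_left ha') ((zmod_two_cases _).resolve_left hb')
  refine ⟨b⁻¹ * t * a, mul_mem (mul_mem (inv_mem hb) ht) ha, ?_⟩
  rw [symm_apply_mul, symm_apply_mul, hxy, inv_apply', LinearEquiv.symm_apply_apply]

/-- Two vectors outside a hyperplane differ by an element of it. -/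
theorem add_mem_of_codim_one [Finite V] {S : Submodule (ZMod 2) V}
    (hS : finrank (ZMod 2) S + 1 = finrank (ZMod 2) V) {z z' : V} (hz : z ∉ S) (hz' : z' ∉ S) :
    z + z' ∈ S := by
  have hlt : S < S ⊔ Submodule.span (ZMod 2) {z} :=
    lt_of_le_of_ne le_sup_left fun e => hz (e ▸ Submodule.mem_sup_right (Submodule.mem_span_singleton_self z))
  have htop : S ⊔ Submodule.span (ZMod 2) {z} = ⊤ := by
    refine Submodule.eq_top_of_finrank_eq ?_
    have h1 := Submodule.finrank_lt_finrank_of_lt hlt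
    have h2 := Submodule.finrank_le (S ⊔ Submodule.span (ZMod 2) {z})
    omega
  obtain ⟨s, hs, w, hw, e⟩ := Submodule.mem_sup.1 (htop ▸ Submodule.mem_top (x := z'))
  rcases mem_span_one.1 hw with rfl | rfl
  · rw [add_zero] at e; exact absurd (e ▸ hs) hz'
  · rw [← e, add_left_comm, add_self_v, add_zero]; exact hs

variable [Finite V] {H : Subgroup (LAut V)}

/-- A Sylow `2`-subgroup fixes a flag and is transitive outside its hyperplane. -/
theorem exists_flag (h2 : Pair2 H) (hn : 3 ≤ finrank (ZMod 2) V) :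
    ∃ (T : Subgroup (LAut V)) (v u : V) (f : Dual (ZMod 2) V),
      (∃ P : Sylow 2 H, T = (P : Subgroup H).map H.subtype) ∧ Indep2 v u ∧ f v = 0 ∧ f u = 0 ∧ f ≠ 0 ∧
      (∀ t ∈ T, t ∈ lineStab H v u ∧ ∀ x, f (t x) = f x) ∧
      ∀ x y : V, f x = 1 → f y = 1 → ∃ t ∈ T, t x = y := by
  haveI := Fact.mk Nat.prime_two
  obtain ⟨P⟩ : Nonempty (Sylow 2 H) := Sylow.nonempty
  set T := (P : Subgroup H).map H.subtype with hTdef
  have hTH : T ≤ H := Subgroup.map_subtype_le _
  have hTp : IsPGroup 2 T := P.2.map H.subtype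
  have hTcard : Nat.card T = 2 ^ (Nat.card H).factorization 2 := by
    rw [hTdef, Subgroup.card_map_of_injective H.subtype_injective, P.card_eq_multiplicity]
  -- a fixed functional
  haveI : Finite (Dual (ZMod 2) V) := Finite.of_injective _ DFunLike.coe_injective
  letI : MulAction (LAut V) (Dual (ZMod 2) V) := dualAct
  have hd : 2 ∣ Nat.card (Dual (ZMod 2) V) := by
    rw [Module.natCard_eq_pow_finrank (K := ZMod 2), Subspace.dual_finrank_eq, Nat.card_eq_fintype_card,
      ZMod.card]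
    exact dvd_pow_self 2 (by omega)
  have h0 : (0 : Dual (ZMod 2) V) ∈ fixedPoints T (Dual (ZMod 2) V) := fun t => LinearMap.zero_comp _
  obtain ⟨f, hf, hf0⟩ := hTp.exists_fixed_point_of_prime_dvd_card_of_fixed_point _ hd h0
  have hfix : ∀ t ∈ T, ∀ x, f (t x) = f x := by
    intro t ht x
    have h1 := LinearMap.congr_fun (hf ⟨t, ht⟩) (t x)
    change f (t.symm (t x)) = f (t x) at h1
    rw [LinearEquiv.symm_apply_apply] at h1
    exact h1.symm
  -- transitivity outside the kernel
  have htr : ∀ x y : V, f x = 1 → f y = 1 → ∃ t ∈ T, t x = y := by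
    intro x y hx hy
    let G' : Subgroup (LAut V) :=
      { carrier := {g | g ∈ H ∧ ∀ z, f (g z) = f z}
        one_mem' := ⟨one_mem H, fun _ => rfl⟩
        mul_mem' := fun hg hk => ⟨mul_mem hg.1 hk.1, fun z => by rw [symm_apply_mul, hg.2, hk.2]⟩
        inv_mem' := fun {g} hg => ⟨inv_mem hg.1, fun z => by
          rw [← hg.2 (g⁻¹ z), inv_apply', LinearEquiv.apply_symm_apply]⟩ }
    have hTG : T ≤ G' := fun t ht => ⟨hTH ht, hfix t ht⟩
    have hset : Nat.card {z : V // f z = 1} = 2 ^ (finrank (ZMod 2) V - 1) := by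
      have hk : finrank (ZMod 2) (LinearMap.ker f) = finrank (ZMod 2) V - 1 := by
        have h1 := f.finrank_range_add_finrank_ker
        have h3 : LinearMap.range f = ⊤ := LinearMap.range_eq_top.2 fun c => by
          rcases zmod_two_cases c with rfl | rfl
          exacts [⟨0, map_zero f⟩, ⟨x, hx⟩]
        rw [h3, finrank_top, Module.finrank_self] at h1
        omega
      rw [← hk, ← card_submodule]
      exact Nat.card_congr
        { toFun := fun z => ⟨z.1 + x, by rw [LinearMap.mem_ker, map_add, z.2, hx, one_add_one_eq_two]; rfl⟩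
          invFun := fun z => ⟨z.1 + x, by rw [map_add, hx, LinearMap.mem_ker.1 z.2, zero_add]⟩
          left_inv := fun z => Subtype.ext (by simp [add_assoc, add_self_v])
          right_inv := fun z => Subtype.ext (by simp [add_assoc, add_self_v]) }
    have horbG : orbit G' x = {z : V | f z = 1} := by
      ext z
      constructor
      · rintro ⟨g, rfl⟩
        exact (g.2.2 x).trans hx
      · intro hz
        obtain ⟨h, hh, hfh, hxz⟩ := exists_map_of_apply_one h2 (by omega) hx hz
        exact ⟨⟨h, hh, hfh⟩, hxz⟩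
    have hG := Nat.card_congr (orbitProdStabilizerEquivGroup G' x)
    rw [Nat.card_prod, horbG] at hG
    change Nat.card {z : V // f z = 1} * _ = _ at hG
    rw [hset] at hG
    have hT := Nat.card_congr (orbitProdStabilizerEquivGroup T x)
    rw [Nat.card_prod] at hT
    obtain ⟨j, hj⟩ := IsPGroup.iff_card.1 (hTp.to_subgroup (stabilizer T x))
    have hdvd : 2 ^ j ∣ Nat.card (stabilizer G' x) := by
      rw [← hj]
      refine Subgroup.card_dvd_of_injective
        (((Subgroup.inclusion hTG).comp (stabilizer T x).subtype).codRestrict (stabilizer G' x)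
          fun t => t.2) fun a b hab => ?_
      exact Subtype.ext (Subgroup.inclusion_injective hTG (congrArg Subtype.val hab))
    have hle : finrank (ZMod 2) V - 1 + j ≤ (Nat.card H).factorization 2 := by
      refine (Nat.prime_two.pow_dvd_iff_le_factorization Nat.card_pos.ne').1 ?_
      refine (?_ : 2 ^ (finrank (ZMod 2) V - 1 + j) ∣ Nat.card G').trans
        (Subgroup.card_dvd_of_le fun g hg => hg.1)
      rw [← hG, pow_add]
      exact mul_dvd_mul_left _ hdvd
    have hsub : orbit T x ⊆ {z : V | f z = 1} := by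
      rintro _ ⟨t, rfl⟩
      exact (hfix _ t.2 x).trans hx
    have heq : orbit T x = {z : V | f z = 1} := by
      refine Set.eq_of_subset_of_ncard_le hsub ?_ (Set.toFinite _)
      rw [← Nat.card_coe_set_eq, ← Nat.card_coe_set_eq]
      change Nat.card {z : V // f z = 1} ≤ _
      rw [hset]
      refine Nat.le_of_mul_le_mul_right (c := 2 ^ j) ?_ (by positivity)
      rw [← hj, hT, hj, hTcard, ← pow_add]
      exact Nat.pow_le_pow_right two_pos hle
    obtain ⟨t, ht⟩ : y ∈ orbit T x := heq ▸ hy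
    exact ⟨t, t.2, ht⟩
  -- the point and the line
  obtain ⟨v, -, hv0, hvT⟩ := exists_fixed hTp (⊤ : Submodule (ZMod 2) V) (fun _ _ _ _ => Submodule.mem_top)
    (fun e => by
      have := congrArg (fun S : Submodule (ZMod 2) V => finrank (ZMod 2) S) e
      simp only [finrank_top, finrank_bot] at this
      omega)
  obtain ⟨x₀, hx₀⟩ := exists_apply_eq_one (Ne.symm hf0)
  have hfv : f v = 0 := by
    rcases zmod_two_cases (f v) with h | h
    · exact h
    exfalso
    obtain ⟨z, hz, hz0⟩ : ∃ z ∈ LinearMap.ker f, z ≠ 0 := by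
      refine Submodule.exists_mem_ne_zero_of_ne_bot fun e => ?_
      have h1 := f.finrank_range_add_finrank_ker
      rw [e, finrank_bot, add_zero] at h1
      have h3 := Submodule.finrank_le (LinearMap.range f)
      rw [Module.finrank_self] at h3
      omega
    obtain ⟨t, ht, htv⟩ := htr v (v + z) h (by rw [map_add, h, LinearMap.mem_ker.1 hz, add_zero])
    rw [hvT t ht] at htv
    exact hz0 (left_eq_add.1 htv)
  obtain ⟨u, hu, huT⟩ := exists_fixed_quot hTp (Submodule.span (ZMod 2) {v})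
    (fun t ht x hx => by
      rcases mem_span_one.1 hx with rfl | rfl
      · rw [map_zero]; exact zero_mem _
      · rw [hvT t ht]; exact hx)
    (fun e => by
      have := congrArg (fun S : Submodule (ZMod 2) V => finrank (ZMod 2) S) e
      simp only [finrank_top, finrank_span_singleton hv0] at this
      omega)
  rw [mem_span_one, not_or] at hu
  have hiv : Indep2 v u := ⟨hv0, hu.1, Ne.symm hu.2⟩
  have hline : ∀ t ∈ T, t u = u ∨ t u = v + u := by
    intro t ht
    rcases mem_span_one.1 (huT t ht) with e | e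
    · exact Or.inl (add_eq_zero_v e)
    · refine Or.inr ?_
      nth_rewrite 1 [← e]
      rw [add_assoc, add_self_v, add_zero]
  have hfu : f u = 0 := by
    rcases zmod_two_cases (f u) with h | h
    · exact h
    exfalso
    have hker : 2 ≤ finrank (ZMod 2) (LinearMap.ker f) := by
      have h1 := f.finrank_range_add_finrank_ker
      have h3 := Submodule.finrank_le (LinearMap.range f)
      rw [Module.finrank_self] at h3
      omega
    obtain ⟨z, hz, hzv⟩ : ∃ z ∈ LinearMap.ker f, z ∉ Submodule.span (ZMod 2) {v} := by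
      by_contra h'
      push Not at h'
      have h4 := Submodule.finrank_mono (show LinearMap.ker f ≤ Submodule.span (ZMod 2) {v} from h')
      rw [finrank_span_singleton hv0] at h4
      omega
    obtain ⟨t, ht, htu⟩ := htr u (u + z) h (by rw [map_add, h, LinearMap.mem_ker.1 hz, add_zero])
    rcases hline t ht with e | e <;> rw [e] at htu
    · exact hzv (by rw [left_eq_add.1 htu]; exact zero_mem _)
    · rw [add_comm v u, add_right_inj] at htu
      exact hzv (htu ▸ Submodule.mem_span_singleton_self v)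
  exact ⟨T, v, u, f, ⟨P, rfl⟩, hiv, hfv, hfu, Ne.symm hf0,
    fun t ht => ⟨⟨hTH ht, hvT t ht, hline t ht⟩, hfix t ht⟩, htr⟩

/-- A commutative image with odd kernel yields a transvection. -/
theorem exists_isTv_of_abelian_image (h2 : Pair2 H) (hn : 3 ≤ finrank (ZMod 2) V) {M : Type*} [Group M]
    (π : H →* M) (hπ : ∀ a b : H, π a * π b = π b * π a) (hker : Odd (Nat.card π.ker)) :
    ∃ t ∈ H, IsTv t := by
  haveI := Fact.mk Nat.prime_two
  obtain ⟨T, v, u, f, ⟨P, hP⟩, hiv, hfv, -, hf0, hT, htr⟩ := exists_flag h2 hn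
  have hcomm : ∀ s ∈ T, ∀ t ∈ T, s * t = t * s := by
    intro s hs t ht
    rw [hP] at hs ht
    obtain ⟨s, hs, rfl⟩ := hs
    obtain ⟨t, ht, rfl⟩ := ht
    suffices s * t = t * s by simpa using congrArg H.subtype this
    have hcP : s * t * s⁻¹ * t⁻¹ ∈ (P : Subgroup H) :=
      mul_mem (mul_mem (mul_mem hs ht) (inv_mem hs)) (inv_mem ht)
    have hck : s * t * s⁻¹ * t⁻¹ ∈ π.ker := by
      rw [MonoidHom.mem_ker, map_mul, map_mul, map_mul, hπ s t, mul_assoc (π t), ← map_mul,
        mul_inv_cancel, map_one, mul_one, ← map_mul, mul_inv_cancel, map_one]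
    have h1 : orderOf (s * t * s⁻¹ * t⁻¹) ∣ Nat.card π.ker := Subgroup.orderOf_dvd_natCard _ hck
    obtain ⟨j, hj⟩ := IsPGroup.iff_orderOf.1 P.2 ⟨_, hcP⟩
    rw [Subgroup.orderOf_mk] at hj
    rw [hj] at h1
    have hj0 : j = 0 := by
      by_contra h
      exact Nat.not_even_iff_odd.2 hker (even_iff_two_dvd.2 ((dvd_pow_self 2 h).trans h1))
    rw [hj0, pow_zero, orderOf_eq_one_iff, mul_inv_eq_one, mul_inv_eq_iff_eq_mul] at hj
    exact hj
  obtain ⟨x₀, hx₀⟩ := exists_apply_eq_one hf0
  obtain ⟨t, ht, htx⟩ := htr x₀ (x₀ + v) hx₀ (by rw [map_add, hx₀, hfv, add_zero])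
  have hoff : ∀ x, f x = 1 → t x = x + v := by
    intro x hx
    obtain ⟨g, hg, rfl⟩ := htr x₀ x hx₀ hx
    rw [← symm_apply_mul, hcomm t ht g hg, symm_apply_mul, htx, map_add, (hT g hg).1.2.1]
  refine ⟨t, (hT t ht).1.1, fun e => hiv.1 ?_, v, fun x => ?_⟩
  · rw [e] at htx
    exact left_eq_add.1 htx
  · rcases zmod_two_cases (f x) with h | h
    · refine Or.inl ?_
      have h1 := hoff (x + x₀) (by rw [map_add, h, hx₀, zero_add])
      rw [map_add, htx, add_assoc x] at h1
      exact add_right_cancel h1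
    · exact Or.inr (hoff x h)

/-- The properties of the subspace before symmetry is known. -/
structure PreData (H : Subgroup (LAut V)) (X : V → V → Submodule (ZMod 2) V) (k : ℕ) : Prop where
  mem_left : ∀ a b : V, Indep2 a b → a ∈ X a b
  mem_right : ∀ a b : V, Indep2 a b → b ∈ X a b
  finrank_eq : ∀ a b : V, Indep2 a b → finrank (ZMod 2) (X a b) = k
  lt_space : k < finrank (ZMod 2) V
  two_le : 2 ≤ k
  add_right : ∀ a b : V, Indep2 a b → X a (a + b) = X a b
  map_eq : ∀ h ∈ H, ∀ a b : V, Indep2 a b →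
    (X a b).map (h : V →ₗ[ZMod 2] V) = X (h a) (h b)
  transOff : ∀ a b x y : V, Indep2 a b → x ∉ X a b → y ∉ X a b →
    ∃ h ∈ H, h a = a ∧ (h b = b ∨ h b = a + b) ∧ h x = y

/-- The largest suborbit is self-paired. -/
theorem PreData.plane {X : V → V → Submodule (ZMod 2) V} {k : ℕ} (hX : PreData H X k) (h2 : Pair2 H)
    (a b c : V) (hab : Indep2 a b) (hac : Indep2 a c) (hc : c ∈ X a b) : b ∈ X a c := by
  by_contra hb
  haveI := Fintype.ofFinite V
  set A : Finset V := Finset.univ.filter fun x => Indep2 a x with hA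
  set P : Finset (V × V) := (A ×ˢ A).filter fun p => p.2 ∉ X a p.1 with hP
  have hAcard : A.card + 2 = 2 ^ finrank (ZMod 2) V := by
    have h1 : A = (Finset.univ.erase 0).erase a := by
      ext x
      simp [hA, Indep2, hab.1, and_comm, eq_comm, ne_eq]
    rw [← card_space, Nat.card_eq_fintype_card, ← Finset.card_univ, h1,
      Finset.card_erase_of_mem (Finset.mem_erase.2 ⟨hab.1, Finset.mem_univ a⟩),
      Finset.card_erase_of_mem (Finset.mem_univ _)]
    have : 2 ≤ (Finset.univ : Finset V).card := Finset.one_lt_card.2 ⟨0, Finset.mem_univ _, a, Finset.mem_univ _, Ne.symm hab.1⟩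
    omega
  have hPcard : A.card * 2 ^ (finrank (ZMod 2) V - 1) ≤ P.card := by
    have hfib : ∀ x ∈ A, 2 ^ (finrank (ZMod 2) V - 1) ≤ (A.filter fun y => y ∉ X a x).card := by
      intro x hx
      have hix : Indep2 a x := (Finset.mem_filter.1 hx).2
      have e : (A.filter fun y => y ∉ X a x) = Finset.univ.filter fun y => y ∉ X a x := by
        ext y
        simp only [hA, Finset.mem_filter, Finset.mem_univ, true_and, and_iff_right_iff_imp]
        intro hy
        exact ⟨hix.1, fun e => hy (e ▸ zero_mem _), fun e => hy (e ▸ hX.mem_left a x hix)⟩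
      rw [e, Finset.filter_not, ← Finset.compl_eq_univ_sdiff, Finset.card_compl]
      have hcx : (Finset.univ.filter fun y => y ∈ X a x).card = 2 ^ k := by
        rw [← Fintype.card_subtype, ← Nat.card_eq_fintype_card, ← hX.finrank_eq a x hix, ← card_submodule]
      rw [hcx, ← Nat.card_eq_fintype_card, card_space]
      have h1 := Nat.pow_le_pow_right two_pos (show k ≤ finrank (ZMod 2) V - 1 by have := hX.lt_space; omega)
      have h3 : 2 ^ finrank (ZMod 2) V = 2 * 2 ^ (finrank (ZMod 2) V - 1) := by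
        rw [← pow_succ', Nat.sub_add_cancel (by have := hX.lt_space; omega)]
      omega
    have : P = (A.sigma fun x => A.filter fun y => y ∉ X a x).map (Equiv.sigmaEquivProd V V).toEmbedding := by
      ext ⟨x, y⟩
      simp [hP, and_assoc]
    rw [this, Finset.card_map, Finset.card_sigma]
    calc A.card * 2 ^ (finrank (ZMod 2) V - 1) = ∑ _x ∈ A, 2 ^ (finrank (ZMod 2) V - 1) := by
          rw [Finset.sum_const, smul_eq_mul]
      _ ≤ _ := Finset.sum_le_sum hfib
  have hcb : (c, b) ∈ P := by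
    simp only [hP, hA, Finset.mem_filter, Finset.mem_product, Finset.mem_univ, true_and]
    exact ⟨⟨hac, hab⟩, hb⟩
  -- the transposed pairs are elsewhere
  have hdisj : Disjoint P (P.map (Equiv.prodComm V V).toEmbedding) := by
    rw [Finset.disjoint_left]
    rintro ⟨x, y⟩ hxy hyx
    simp only [hP, hA, Finset.mem_map_equiv, Equiv.prodComm_symm, Equiv.prodComm_apply, Prod.swap,
      Finset.mem_filter, Finset.mem_product, Finset.mem_univ, true_and] at hxy hyx
    obtain ⟨⟨hax, hay⟩, hy⟩ := hxy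
    obtain ⟨-, hx⟩ := hyx
    obtain ⟨g, hg, hga, hgx⟩ := h2 a c a x hac hax
    have hgb : g b ∉ X a x := by
      rw [← hgx]
      have := hX.map_eq g hg a c hac
      rw [hga] at this
      rw [← this]
      rintro ⟨z, hz, hze⟩
      exact hb (g.injective hze ▸ hz)
    obtain ⟨r, hr, hra, hrx, hry⟩ := hX.transOff a x (g b) y hax hgb hy
    have hmem : r (g c) ∈ X (r (g a)) (r (g b)) := by
      rw [← hX.map_eq r hr _ _ (hab.map g), ← hX.map_eq g hg a b hab]
      exact ⟨g c, ⟨c, hc, rfl⟩, rfl⟩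
    rw [hga, hra, hry, hgx] at hmem
    rcases hrx with e | e <;> rw [e] at hmem
    · exact hx hmem
    · refine hx ?_
      have h1 := add_mem (hX.mem_left a y hay) hmem
      rwa [← add_assoc, add_self_v, zero_add] at h1
  have hsub : P ∪ P.map (Equiv.prodComm V V).toEmbedding ⊆ A ×ˢ A := by
    intro p hp
    rcases Finset.mem_union.1 hp with h | h
    · exact (Finset.mem_filter.1 h).1
    · obtain ⟨q, hq, rfl⟩ := Finset.mem_map.1 h
      have := Finset.mem_product.1 (Finset.mem_filter.1 hq).1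
      exact Finset.mem_product.2 ⟨this.2, this.1⟩
  have htot := Finset.card_le_card hsub
  rw [Finset.card_union_of_disjoint hdisj, Finset.card_map, Finset.card_product] at htot
  have hA0 : 0 < A.card := Finset.card_pos.2 ⟨b, Finset.mem_filter.2 ⟨Finset.mem_univ _, hab⟩⟩
  have h3 : 2 ^ finrank (ZMod 2) V = 2 * 2 ^ (finrank (ZMod 2) V - 1) := by
    rw [← pow_succ', Nat.sub_add_cancel (by have := hX.lt_space; omega)]
  have h4 : A.card * (2 ^ finrank (ZMod 2) V) ≤ A.card * A.card := by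
    rw [h3, mul_left_comm, two_mul]
    omega
  have := Nat.le_of_mul_le_mul_left h4 hA0
  omega

set_option maxHeartbeats 1000000 in
/-- The structure: either subspaces of codimension at least two, or a trilinear form. -/
theorem exists_structure (h2 : Pair2 H) (hn : 3 ≤ finrank (ZMod 2) V) :
    (∃ (X : V → V → Submodule (ZMod 2) V) (k : ℕ), XData H X k) ∨
      ∃ (B : V → V → V → ZMod 2) (ε : ZMod 2), HyperForm H B ε := by
  obtain ⟨T, v, u, f, -, hvu, hfv, hfu, hf0, hT, htr⟩ := exists_flag h2 hn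
  obtain ⟨x₀, hx₀⟩ := exists_apply_eq_one hf0
  set Γ := lineStab H v u with hΓ
  set C := core Γ f with hC
  have hΓtr : ∀ x y : V, f x = 1 → f y = 1 → ∃ g ∈ Γ, g x = y := fun x y hx hy => by
    obtain ⟨t, ht, e⟩ := htr x y hx hy
    exact ⟨t, (hT t ht).1, e⟩
  have hx₀C : x₀ ∉ C := fun h => by
    have := h 1 (one_mem Γ)
    rw [show (1 : LAut V) x₀ = x₀ from rfl, hx₀] at this
    exact one_ne_zero this
  have hvC : v ∈ C := fun g hg => by rw [hg.2.1]; exact hfv
  have huC : u ∈ C := fun g hg => by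
    rcases hg.2.2 with e | e <;> rw [e]
    · exact hfu
    · rw [map_add, hfv, hfu, add_zero]
  let X : V → V → Submodule (ZMod 2) V := fun a b =>
    if h : ∃ g ∈ H, g v = a ∧ g u = b then C.map (h.choose : V →ₗ[ZMod 2] V) else ⊥
  have hmap2 : ∀ (S : Submodule (ZMod 2) V) (g k : LAut V),
      S.map ((g * k : LAut V) : V →ₗ[ZMod 2] V) =
        (S.map (k : V →ₗ[ZMod 2] V)).map (g : V →ₗ[ZMod 2] V) := fun S g k => by
    rw [← Submodule.map_comp]; rfl
  have hXeq : ∀ g ∈ H, ∀ a b, g v = a → g u = b → X a b = C.map (g : V →ₗ[ZMod 2] V) := by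
    intro g hg a b ha hb
    have hex : ∃ k ∈ H, k v = a ∧ k u = b := ⟨g, hg, ha, hb⟩
    simp only [X, dif_pos hex]
    obtain ⟨hk, hka, hkb⟩ := hex.choose_spec
    have hmem : g⁻¹ * hex.choose ∈ Γ := by
      refine ⟨mul_mem (inv_mem hg) hk, ?_, Or.inl ?_⟩
      · rw [symm_apply_mul, hka, ← ha, inv_apply', LinearEquiv.symm_apply_apply]
      · rw [symm_apply_mul, hkb, ← hb, inv_apply', LinearEquiv.symm_apply_apply]
    have h1 := core_map (f := f) hmem
    rw [← mul_inv_cancel_left g hex.choose, hmap2, hC]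
    exact congrArg (Submodule.map (g : V →ₗ[ZMod 2] V)) h1
  have hex : ∀ a b, Indep2 a b → ∃ g ∈ H, g v = a ∧ g u = b ∧ X a b = C.map (g : V →ₗ[ZMod 2] V) := by
    intro a b hab
    obtain ⟨g, hg, ha, hb⟩ := h2 v u a b hvu hab
    exact ⟨g, hg, ha, hb, hXeq g hg a b ha hb⟩
  have hXC : X v u = C := by
    rw [hXeq 1 (one_mem H) v u rfl rfl]
    exact core_map (one_mem Γ)
  obtain ⟨σ, hσ, hσv, hσu⟩ := h2 v u v (v + u) hvu hvu.add_right
  have hpre : PreData H X (finrank (ZMod 2) C) := by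
    refine ⟨fun a b hab => ?_, fun a b hab => ?_, fun a b hab => ?_, ?_, ?_, fun a b hab => ?_,
      fun h hh a b hab => ?_, fun a b x y hab hx hy => ?_⟩
    · obtain ⟨g, -, ha, -, e⟩ := hex a b hab
      rw [e]; exact ⟨v, hvC, ha⟩
    · obtain ⟨g, -, -, hb, e⟩ := hex a b hab
      rw [e]; exact ⟨u, huC, hb⟩
    · obtain ⟨g, -, -, -, e⟩ := hex a b hab
      rw [e, LinearEquiv.finrank_map_eq]
    · exact Submodule.finrank_lt fun e => hx₀C (e ▸ Submodule.mem_top)
    · by_contra hk
      push Not at hk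
      have h1 : C = Submodule.span (ZMod 2) {v} := (Submodule.eq_of_le_of_finrank_le
        ((Submodule.span_singleton_le_iff_mem _ _).2 hvC) (by rw [finrank_span_singleton hvu.1]; omega)).symm
      rw [h1, mem_span_one] at huC
      rcases huC with e | e
      exacts [hvu.2.1 e, hvu.2.2 e.symm]
    · obtain ⟨g, hg, ha, hb, e⟩ := hex a b hab
      rw [e, hXeq (g * σ) (mul_mem hg hσ) a (a + b) (by rw [symm_apply_mul, hσv, ha])
        (by rw [symm_apply_mul, hσu, map_add, ha, hb]), hmap2, hC,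
        core_map (f := f) (show σ ∈ Γ from ⟨hσ, hσv, Or.inr hσu⟩)]
    · obtain ⟨g, hg, ha, hb, e⟩ := hex a b hab
      rw [e, hXeq (h * g) (mul_mem hh hg) (h a) (h b) (by rw [symm_apply_mul, ha])
        (by rw [symm_apply_mul, hb]), hmap2]
    · obtain ⟨g, hg, ha, hb, e⟩ := hex a b hab
      rw [e] at hx hy
      obtain ⟨k, hk, hkxy⟩ := core_off hΓtr (x := g.symm x) (y := g.symm y)
        (fun h => hx ⟨_, h, g.apply_symm_apply x⟩) (fun h => hy ⟨_, h, g.apply_symm_apply y⟩)
      refine ⟨g * k * g⁻¹, mul_mem (mul_mem hg hk.1) (inv_mem hg), ?_, ?_, ?_⟩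
      · rw [symm_apply_mul, symm_apply_mul, inv_apply', ← ha, LinearEquiv.symm_apply_apply, hk.2.1]
      · rw [symm_apply_mul, symm_apply_mul, inv_apply', ← hb, LinearEquiv.symm_apply_apply, ← ha]
        rcases hk.2.2 with e' | e' <;> rw [e']
        · exact Or.inl rfl
        · exact Or.inr (map_add g v u)
      · rw [symm_apply_mul, symm_apply_mul, inv_apply', hkxy, LinearEquiv.apply_symm_apply]
  have hpl := hpre.plane h2
  set k := finrank (ZMod 2) C with hk
  -- from the rule to the trilinear form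
  have hform : k + 1 = finrank (ZMod 2) V → ∀ ε : ZMod 2,
      (∀ a b z : V, Indep2 a b → (if z ∈ X (a + b) b then (0 : ZMod 2) else 1) =
        (if z ∈ X a b then 0 else 1) + ε * (if z ∈ X b a then 0 else 1)) →
      ∃ (B : V → V → V → ZMod 2) (ε : ZMod 2), HyperForm H B ε := by
    intro hk1 ε hrule
    refine ⟨fun a b z => if Indep2 a b ∧ z ∉ X a b then 1 else 0, ε, ?_⟩
    have hlast : ∀ a b z z' : V, (if Indep2 a b ∧ z + z' ∉ X a b then (1 : ZMod 2) else 0) =
        (if Indep2 a b ∧ z ∉ X a b then 1 else 0) + (if Indep2 a b ∧ z' ∉ X a b then 1 else 0) := by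
      intro a b z z'
      by_cases hab : Indep2 a b
      swap
      · simp [hab]
      by_cases hz : z ∈ X a b <;> by_cases hz' : z' ∈ X a b
      · simp [hab, hz, hz', add_mem hz hz']
      · simp [hab, hz, hz', (Submodule.add_mem_iff_right _ hz).not.2 hz']
      · simp [hab, hz, hz', (Submodule.add_mem_iff_left _ hz').not.2 hz]
      · simp [hab, hz, hz', add_mem_of_codim_one (hk1 ▸ by rw [hpre.finrank_eq a b hab]) hz hz']
        decide
    have hsym : ∀ a b c : V, (Indep2 a b ∧ c ∉ X a b) → Indep2 a c ∧ b ∉ X a c := by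
      rintro a b c ⟨hab, hc⟩
      have hac : Indep2 a c := ⟨hab.1, fun e => hc (e ▸ zero_mem _), fun e => hc (e ▸ hpre.mem_left a b hab)⟩
      exact ⟨hac, fun hb => hc (hpl a c b hac hab hb)⟩
    have hswap : ∀ a b c : V, (if Indep2 a b ∧ c ∉ X a b then (1 : ZMod 2) else 0) =
        if Indep2 a c ∧ b ∉ X a c then 1 else 0 := fun a b c => by
      exact if_congr ⟨hsym a b c, hsym a c b⟩ rfl rfl
    refine ⟨fun x y y' z => ?_, hlast, fun x y => ?_, fun y z => ?_, fun x z => ?_,
      ⟨v, u, x₀, ?_⟩, fun h hh x y z => ?_, fun x y z => ?_⟩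
    · rw [hswap x (y + y'), hswap x y, hswap x y']
      exact hlast x z y y'
    · by_cases hxy : Indep2 x y
      · simp [hpre.mem_right x y hxy]
      · simp [hxy]
    · simp [Indep2]
    · simp [Indep2]
    · simp [hvu, hXC, hx₀C]
    · by_cases hxy : Indep2 x y
      · have hiff : h z ∈ X (h x) (h y) ↔ z ∈ X x y := by
          rw [← hpre.map_eq h hh x y hxy]
          exact ⟨fun ⟨w, hw, e⟩ => h.injective e ▸ hw, fun hz => ⟨z, hz, rfl⟩⟩
        simp [hxy, hxy.map h, hiff]
      · have : ¬ Indep2 (h x) (h y) := fun e => hxy (by simpa using e.map h.symm)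
        simp [hxy, this]
    · by_cases hxy : Indep2 x y
      · have := hrule x y z hxy
        simp only [hxy.add_left, hxy, hxy.swap, true_and, ite_not]
        exact this
      · have h1 : ¬ Indep2 (x + y) y := fun h => hxy (by
          have := h.add_left
          rwa [add_assoc, add_self_v, add_zero] at this)
        have h3 : ¬ Indep2 y x := fun h => hxy h.swap
        simp [hxy, h1, h3]
  -- the setwise stabilizer of the line
  set L : Submodule (ZMod 2) V := Submodule.span (ZMod 2) {v} ⊔ Submodule.span (ZMod 2) {u} with hL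
  have hLmem : ∀ z, z ∈ L → z = 0 ∨ z = v ∨ z = u ∨ z = v + u := by
    intro z hz
    obtain ⟨p, hp, q, hq, rfl⟩ := Submodule.mem_sup.1 hz
    rcases mem_span_one.1 hp with rfl | rfl <;> rcases mem_span_one.1 hq with rfl | rfl <;> simp
  have hvL : v ∈ L := Submodule.mem_sup_left (Submodule.mem_span_singleton_self v)
  have huL : u ∈ L := Submodule.mem_sup_right (Submodule.mem_span_singleton_self u)
  set Γ' := setStab H L with hΓ'
  have hmemΓ' : ∀ g ∈ H, g v ∈ L → g u ∈ L → g ∈ Γ' := by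
    intro g hg h1 h2'
    have hle : L.map (g : V →ₗ[ZMod 2] V) ≤ L := by
      rw [hL, Submodule.map_sup, Submodule.map_span, Submodule.map_span, Set.image_singleton,
        Set.image_singleton, sup_le_iff, Submodule.span_singleton_le_iff_mem,
        Submodule.span_singleton_le_iff_mem]
      exact ⟨h1, h2'⟩
    have heq : L.map (g : V →ₗ[ZMod 2] V) = L :=
      Submodule.eq_of_le_of_finrank_le hle (by rw [LinearEquiv.finrank_map_eq])
    refine ⟨hg, fun x => ⟨fun hx => ?_, fun hx => hle ⟨x, hx, rfl⟩⟩⟩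
    rw [← heq] at hx
    obtain ⟨y, hy, e⟩ := hx
    exact g.injective e ▸ hy
  have hΓle : Γ ≤ Γ' := fun g hg => hmemΓ' g hg.1 (hg.2.1.symm ▸ hvL) (by
    rcases hg.2.2 with e | e <;> rw [e]
    exacts [huL, add_mem hvL huL])
  set C' := core Γ' f with hC'
  have hC'le : C' ≤ C := fun x hx g hg => hx g (hΓle hg)
  obtain ⟨s, hs, hsv, hsu⟩ := h2 v u u v hvu hvu.swap
  have hsΓ : s ∈ Γ' := hmemΓ' s hs (hsv ▸ huL) (hsu ▸ hvL)
  by_cases hCC : C' = C
  · have hsymm : ∀ a b, Indep2 a b → X a b = X b a := by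
      intro a b hab
      obtain ⟨g, hg, ha, hb, e⟩ := hex a b hab
      rw [e, hXeq (g * s) (mul_mem hg hs) b a (by rw [symm_apply_mul, hsv, hb])
        (by rw [symm_apply_mul, hsu, ha]), hmap2, ← hCC, hC', core_map (f := f) hsΓ]
    rcases lt_or_ge (k + 1) (finrank (ZMod 2) V) with hlt | hge
    · exact Or.inl ⟨X, k, h2, hpre.two_le, hlt, hpre.mem_left, hpre.finrank_eq, hsymm, hpre.add_right,
        hpre.map_eq, hpl, hpre.transOff⟩
    · refine Or.inr (hform (by have := hpre.lt_space; omega) 0 fun a b z hab => ?_)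
      rw [zero_mul, add_zero, hsymm (a + b) b hab.add_left, add_comm a b, hpre.add_right b a hab.swap,
        hsymm b a hab.swap]
  -- the pencil
  obtain ⟨r, hr, hrv, hru⟩ := h2 v u (v + u) u hvu hvu.add_left
  let P : V → V → Prop := fun a z => ∃ b, a ∈ L ∧ b ∈ L ∧ Indep2 a b ∧ z ∈ X a b
  have hP : ∀ g ∈ Γ', ∀ a z, P a z → P (g a) (g z) := by
    rintro g hg a z ⟨b, ha, hb, hab, hz⟩
    refine ⟨g b, (hg.2 a).2 ha, (hg.2 b).2 hb, hab.map g, ?_⟩
    rw [← hpre.map_eq g hg.1 a b hab]
    exact ⟨z, hz, rfl⟩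
  have hP' : ∀ g ∈ Γ', ∀ a z, P (g a) (g z) ↔ P a z := fun g hg a z => ⟨fun h => by
    have := hP g⁻¹ (inv_mem hg) _ _ h
    rwa [inv_apply', inv_apply', LinearEquiv.symm_apply_apply, LinearEquiv.symm_apply_apply] at this,
    hP g hg a z⟩
  have hPv : ∀ z, P v z ↔ z ∈ C := by
    intro z
    refine ⟨?_, fun hz => ⟨u, hvL, huL, hvu, hXC.symm ▸ hz⟩⟩
    rintro ⟨b, -, hb, hvb, hz⟩
    rcases hLmem b hb with e | e | e | e
    · exact absurd e hvb.2.1
    · exact absurd e.symm hvb.2.2
    · rwa [e, hXC] at hz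
    · rwa [e, hpre.add_right v u hvu, hXC] at hz
  have hC2 : ∀ z, P u z ↔ z ∈ X u v := by
    intro z
    rw [hXeq s hs u v hsv hsu, ← hsv, ← s.apply_symm_apply z, hP' s hsΓ, hPv]
    exact ⟨fun h => ⟨_, h, rfl⟩, fun ⟨w, hw, e⟩ => s.injective e ▸ hw⟩
  have hrΓ : r ∈ Γ' := hmemΓ' r hr (hrv ▸ add_mem hvL huL) (by rw [hru]; exact huL)
  have hC3 : ∀ z, P (v + u) z ↔ z ∈ X (v + u) u := by
    intro z
    rw [hXeq r hr (v + u) u hrv hru, ← hrv, ← r.apply_symm_apply z, hP' r hrΓ, hPv]
    exact ⟨fun h => ⟨_, h, rfl⟩, fun ⟨w, hw, e⟩ => r.injective e ▸ hw⟩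
  have hoff : ∀ z z', z ∉ C' → z' ∉ C' → ∃ g ∈ Γ', g z = z' := fun z z' =>
    core_off (fun x y hx hy => by
      obtain ⟨g, hg, e⟩ := hΓtr x y hx hy
      exact ⟨g, hΓle hg, e⟩)
  have hLpts : ∀ g ∈ Γ', ∀ a ∈ L, a ≠ 0 → g a ∈ L ∧ g a ≠ 0 := fun g hg a ha h0 =>
    ⟨(hg.2 a).2 ha, fun e => h0 (g.map_eq_zero_iff.1 e)⟩
  have hw0 : v + u ≠ 0 := hvu.add_right.2.1
  obtain ⟨c, hcC, hcC'⟩ := SetLike.exists_of_lt (lt_of_le_of_ne hC'le hCC)
  have hsome : ∀ z ∉ C', z ∈ C ∨ z ∈ X u v ∨ z ∈ X (v + u) u := by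
    intro z hz
    obtain ⟨g, hg, rfl⟩ := hoff c z hcC' hz
    have h1 := hP g hg v c ((hPv c).2 hcC)
    rcases hLmem (g v) (hLpts g hg v hvL hvu.1).1 with e | e | e | e <;> rw [e] at h1
    · exact absurd e (hLpts g hg v hvL hvu.1).2
    · exact Or.inl ((hPv _).1 h1)
    · exact Or.inr (Or.inl ((hC2 _).1 h1))
    · exact Or.inr (Or.inr ((hC3 _).1 h1))
  have hx₀C' : x₀ ∉ C' := fun h => hx₀C (hC'le h)
  have hnotall : ∀ z ∉ C', ¬ (z ∈ C ∧ z ∈ X u v ∧ z ∈ X (v + u) u) := by
    rintro z hz ⟨h1, h2', h3⟩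
    obtain ⟨g, hg, e⟩ := hoff z x₀ hz hx₀C'
    have hall : ∀ a ∈ L, a ≠ 0 → P a z := by
      intro a ha h0
      rcases hLmem a ha with rfl | rfl | rfl | rfl
      · exact absurd rfl h0
      · exact (hPv z).2 h1
      · exact (hC2 z).2 h2'
      · exact (hC3 z).2 h3
    have hgi := hLpts g⁻¹ (inv_mem hg) v hvL hvu.1
    have h4 := hP g hg _ z (hall _ hgi.1 hgi.2)
    rw [inv_apply', LinearEquiv.apply_symm_apply, e] at h4
    exact hx₀C ((hPv x₀).1 h4)
  have hC'X : ∀ a ∈ L, a ≠ 0 → ∀ z ∈ C', P a z := by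
    intro a ha h0 z hz
    obtain ⟨g, hg, hga, -⟩ : ∃ g ∈ Γ', g v = a ∧ True := by
      rcases hLmem a ha with rfl | rfl | rfl | rfl
      · exact absurd rfl h0
      · exact ⟨1, one_mem _, rfl, trivial⟩
      · exact ⟨s, hsΓ, hsv, trivial⟩
      · exact ⟨r, hrΓ, hrv, trivial⟩
    rw [← hga, ← g.apply_symm_apply z]
    refine hP g hg v _ ((hPv _).2 (hC'le ?_))
    rw [hC', ← core_map (f := f) hg] at hz
    obtain ⟨w, hw, rfl⟩ := hz
    simpa using hw
  have hC'2 : C' ≤ X u v := fun z hz => (hC2 z).1 (hC'X u huL hvu.2.1 z hz)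
  have hC'3 : C' ≤ X (v + u) u := fun z hz => (hC3 z).1 (hC'X _ (add_mem hvL huL) hw0 z hz)
  -- at most one
  have hone : ∀ z ∉ C', (z ∈ C → z ∉ X u v ∧ z ∉ X (v + u) u) ∧ (z ∈ X u v → z ∉ X (v + u) u) := by
    by_contra hbad
    push Not at hbad
    obtain ⟨z₀, hz₀, hz₀'⟩ := hbad
    have htwo : ∀ z ∉ C', ∃ a b, a ≠ b ∧ a ∈ L ∧ a ≠ 0 ∧ b ∈ L ∧ b ≠ 0 ∧ P a z ∧ P b z := by
      intro z hz
      obtain ⟨g, hg, rfl⟩ := hoff z₀ z hz₀ hz
      suffices ∃ a b, a ≠ b ∧ a ∈ L ∧ a ≠ 0 ∧ b ∈ L ∧ b ≠ 0 ∧ P a z₀ ∧ P b z₀ by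
        obtain ⟨a, b, hab, ha, ha0, hb, hb0, pa, pb⟩ := this
        exact ⟨g a, g b, fun e => hab (g.injective e), (hLpts g hg a ha ha0).1, (hLpts g hg a ha ha0).2,
          (hLpts g hg b hb hb0).1, (hLpts g hg b hb hb0).2, hP g hg a z₀ pa, hP g hg b z₀ pb⟩
      have hu2 : u ≠ v + u := fun e => hvu.1 (right_eq_add.1 e)
      have hv2 : v ≠ v + u := hvu.add_right.2.2
      by_cases h1 : z₀ ∈ C
      · by_cases h2' : z₀ ∈ X u v
        · exact ⟨v, u, hvu.2.2, hvL, hvu.1, huL, hvu.2.1, (hPv _).2 h1, (hC2 _).2 h2'⟩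
        · have h3 : z₀ ∈ X (v + u) u := by
            by_contra h3
            exact absurd ((hz₀' fun _ => ⟨h2', h3⟩).1) h2'
          exact ⟨v, v + u, hv2, hvL, hvu.1, add_mem hvL huL, hw0, (hPv _).2 h1, (hC3 _).2 h3⟩
      · have h3 := hz₀' fun h => absurd h h1
        exact ⟨u, v + u, hu2, huL, hvu.2.1, add_mem hvL huL, hw0, (hC2 _).2 h3.1, (hC3 _).2 h3.2⟩
    have htwo' : ∀ z ∉ C', (z ∈ C ∧ z ∈ X u v) ∨ (z ∈ C ∧ z ∈ X (v + u) u) ∨
        (z ∈ X u v ∧ z ∈ X (v + u) u) := by
      intro z hz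
      obtain ⟨a, b, hab, ha, ha0, hb, hb0, pa, pb⟩ := htwo z hz
      rcases hLmem a ha with rfl | rfl | rfl | rfl <;> rcases hLmem b hb with rfl | rfl | rfl | rfl <;>
        simp only [ne_eq, not_true_eq_false] at hab ha0 hb0 <;>
        simp only [hPv, hC2, hC3] at pa pb <;> tauto
    have hd2 := hpre.finrank_eq u v hvu.swap
    have hd3 := hpre.finrank_eq _ _ hvu.add_left
    have hk' : finrank (ZMod 2) C' < k := Submodule.finrank_lt_finrank_of_lt (lt_of_le_of_ne hC'le hCC)
    have key : ∀ S S' : Submodule (ZMod 2) V, finrank (ZMod 2) S = k → finrank (ZMod 2) S' = k → C ≤ S →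
        (∀ z ∈ S', z ∉ C' → z ∈ C → z ∈ S → False) →
        (∀ z ∈ S', z ∉ C' → z ∈ C ∨ z ∈ S) → False := by
      intro S S' hS hS' hle hno hor
      have e : C = S := Submodule.eq_of_le_of_finrank_le hle (by rw [hS])
      have hle' : S' ≤ C' := fun z hz => by
        by_contra hzC
        rcases hor z hz hzC with h | h
        · exact hno z hz hzC h (e ▸ h)
        · exact hno z hz hzC (e ▸ h) h
      have := Submodule.finrank_mono hle'
      omega
    by_cases hcase : C ≤ X u v
    · exact key _ _ hd2 hd3 hcase (fun z h3 hz h1 h2' => hnotall z hz ⟨h1, h2', h3⟩)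
        fun z _ hz => by rcases htwo' z hz with h | h | h <;> tauto
    · have hcase' : C ≤ X (v + u) u := by
        intro z hz
        by_contra h3
        obtain ⟨w, hw, hw2⟩ := SetLike.not_le_iff_exists.1 hcase
        have hCsub : ∀ y ∈ C, y ∈ X u v ∨ y ∈ X (v + u) u := fun y hy => by
          by_cases hy' : y ∈ C'
          · exact Or.inl (hC'2 hy')
          · rcases htwo' y hy' with h | h | h <;> tauto
        have hz2 : z ∈ X u v := (hCsub z hz).resolve_right h3
        have hw3 : w ∈ X (v + u) u := (hCsub w hw).resolve_left hw2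
        rcases hCsub _ (add_mem hz hw) with h | h
        · exact hw2 ((Submodule.add_mem_iff_right _ hz2).1 h)
        · exact h3 ((Submodule.add_mem_iff_left _ hw3).1 h)
      exact key _ _ hd3 hd2 hcase' (fun z h2' hz h1 h3 => hnotall z hz ⟨h1, h2', h3⟩)
        fun z _ hz => by rcases htwo' z hz with h | h | h <;> tauto
  -- the dimensions
  obtain ⟨b₀, hb₀, hb₀'⟩ : ∃ b ∈ X u v, b ∉ C' := by
    by_contra h
    push Not at h
    have h1 := Submodule.finrank_mono (show X u v ≤ C' from h)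
    have h2' := Submodule.finrank_lt_finrank_of_lt (lt_of_le_of_ne hC'le hCC)
    rw [hpre.finrank_eq u v hvu.swap] at h1
    omega
  have hsum : ∀ a ∈ C, a ∉ C' → a + b₀ ∈ X (v + u) u := by
    intro a ha ha'
    have hb1 : b₀ ∉ C := fun h => ((hone b₀ hb₀').1 h).1 hb₀
    have hn1 : a + b₀ ∉ C := fun h => hb1 ((Submodule.add_mem_iff_right _ ha).1 h)
    rcases hsome (a + b₀) (fun h => hn1 (hC'le h)) with h | h | h
    · exact absurd h hn1
    · exact absurd ((Submodule.add_mem_iff_left _ hb₀).1 h) ((hone a ha').1 ha).1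
    · exact h
  have hCsup : C ≤ C' ⊔ Submodule.span (ZMod 2) {c} := by
    intro a ha
    by_cases ha' : a ∈ C'
    · exact Submodule.mem_sup_left ha'
    have hac : a + c ∈ C' := by
      by_contra h
      refine ((hone _ h).1 (add_mem ha hcC)).2 ?_
      have := add_mem (hsum a ha ha') (hsum c hcC hcC')
      rwa [add_add_add_comm, add_self_v, add_zero] at this
    rw [show a = (a + c) + c by rw [add_assoc, add_self_v, add_zero]]
    exact Submodule.add_mem_sup hac (Submodule.mem_span_singleton_self c)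
  have htop : C ⊔ X u v = ⊤ := by
    refine eq_top_iff.2 fun z _ => ?_
    by_cases hz : z ∈ C'
    · exact Submodule.mem_sup_left (hC'le hz)
    rcases hsome z hz with h | h | h
    · exact Submodule.mem_sup_left h
    · exact Submodule.mem_sup_right h
    · have h1 : c + z ∈ X u v := by
        have hz1 : z ∉ C := fun h' => ((hone z hz).1 h').2 h
        have hn1 : c + z ∉ C := fun h' => hz1 ((Submodule.add_mem_iff_right _ hcC).1 h')
        rcases hsome (c + z) (fun h' => hn1 (hC'le h')) with h' | h' | h'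
        · exact absurd h' hn1
        · exact h'
        · exact absurd ((Submodule.add_mem_iff_left _ h).1 h') ((hone c hcC').1 hcC).2
      rw [show z = c + (c + z) by rw [← add_assoc, add_self_v, zero_add]]
      exact Submodule.add_mem_sup hcC h1
  have hk1 : k + 1 = finrank (ZMod 2) V := by
    have h1 := Submodule.finrank_mono hCsup
    have h2' := Submodule.finrank_add_le_finrank_add_finrank C' (Submodule.span (ZMod 2) {c})
    rw [finrank_span_singleton (fun e : c = 0 => hcC' (e ▸ zero_mem _))] at h2'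
    have hinf : C ⊓ X u v = C' := le_antisymm
      (fun z hz => by
        by_contra hz'
        exact ((hone z hz').1 hz.1).1 hz.2)
      (le_inf hC'le hC'2)
    have h3 := Submodule.finrank_sup_add_finrank_inf_eq C (X u v)
    rw [htop, hinf, finrank_top, hpre.finrank_eq u v hvu.swap] at h3
    have h4 := Submodule.finrank_lt_finrank_of_lt (lt_of_le_of_ne hC'le hCC)
    change k ≤ _ at h1
    omega
  refine Or.inr (hform hk1 1 fun a b z hab => ?_)
  obtain ⟨g, hg, ha, hb⟩ := h2 v u a b hvu hab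
  obtain ⟨z, rfl⟩ := g.surjective z
  have hiff : ∀ p q, Indep2 p q → (g z ∈ X (g p) (g q) ↔ z ∈ X p q) := fun p q hpq => by
    rw [← hpre.map_eq g hg p q hpq]
    exact ⟨fun ⟨w, hw, e⟩ => g.injective e ▸ hw, fun h => ⟨z, h, rfl⟩⟩
  rw [← ha, ← hb, ← map_add, one_mul]
  simp only [hiff _ _ hvu.add_left, hiff _ _ hvu, hiff _ _ hvu.swap, hXC]
  by_cases hz : z ∈ C'
  · simp [hC'le hz, hC'2 hz, hC'3 hz]
  rcases hsome z hz with h | h | h
  · simp [h, ((hone z hz).1 h).1, ((hone z hz).1 h).2]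
  · have h1 : z ∉ C := fun h' => ((hone z hz).1 h').1 h
    simp [h, h1, (hone z hz).2 h]
  · have h1 : z ∉ C := fun h' => ((hone z hz).1 h').2 h
    have h2' : z ∉ X u v := fun h' => (hone z hz).2 h' h
    simp [h, h1, h2']
    decide

end CfsgLib.TransGL
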