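import Cfsg.Agent.Lib.TransGL.Flag

/-!
# Groups of prime power order without fixed vectors (S4179)

Coprime decomposition for a group of prime power order, and the irreducible case: if `2` has order `d`
modulo `r` then an `r`-group without nonzero fixed vectors in dimension `d` is cyclic, its centralizer is
the multiplicative group of a field with `2 ^ d` elements and its normalizer acts on that field.
-/

set_option autoImplicit false
set_option linter.style.haveILetI false
set_option linter.unusedSectionVars false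

namespace CfsgLib.TransGL

open Module MulAction
open scoped commutatorElement

variable {V : Type*} [AddCommGroup V] [Module (ZMod 2) V] {W : Type*} [AddCommGroup W] [Module (ZMod 2) W]

/-- `g` maps `R` into itself by conjugation. -/
def Normalizes (R : Subgroup (LAut V)) (g : LAut V) : Prop := ∀ x ∈ R, g * x * g⁻¹ ∈ R

/-- The elements of `H` normalizing `R`. -/
def normIn (H R : Subgroup (LAut V)) : Subgroup (LAut V) where
  carrier := {g | g ∈ H ∧ ∀ x, g * x * g⁻¹ ∈ R ↔ x ∈ R}
  one_mem' := ⟨one_mem H, fun x => by simp⟩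
  mul_mem' := fun {g k} hg hk => ⟨mul_mem hg.1 hk.1, fun x => by
    rw [show g * k * x * (g * k)⁻¹ = g * (k * x * k⁻¹) * g⁻¹ by group, hg.2, hk.2]⟩
  inv_mem' := fun {g} hg => ⟨inv_mem hg.1, fun x => by
    rw [← hg.2 (g⁻¹ * x * g⁻¹⁻¹), show g * (g⁻¹ * x * g⁻¹⁻¹) * g⁻¹ = x by group]⟩

theorem mem_normIn {H R : Subgroup (LAut V)} {g : LAut V} :
    g ∈ normIn H R ↔ g ∈ H ∧ ∀ x, g * x * g⁻¹ ∈ R ↔ x ∈ R := Iff.rfl

theorem normIn_apply_mem {H R : Subgroup (LAut V)} {g : LAut V} (hg : g ∈ normIn H R) {x : V}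
    (hx : x ∈ fixSub R) : g x ∈ fixSub R := by
  intro y hy
  have h1 := hx (g⁻¹ * y * g⁻¹⁻¹) ((hg.2 _).1 (by rwa [show g * (g⁻¹ * y * g⁻¹⁻¹) * g⁻¹ = y by group]))
  rw [inv_inv, symm_apply_mul, symm_apply_mul, inv_apply'] at h1
  exact (LinearEquiv.symm_apply_eq _).1 h1

section

variable [Finite V] [Finite W] {r d : ℕ} [Fact r.Prime]

omit [Finite W] in
theorem pow_finrank_eq_one {R : Subgroup (LAut V)} (hR : IsPGroup r R) (S : Submodule (ZMod 2) V)
    (hinv : ∀ g ∈ R, ∀ x ∈ S, g x ∈ S) (hfix : ∀ x ∈ S, (∀ g ∈ R, g x = x) → x = 0) :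
    (2 : ZMod r) ^ finrank (ZMod 2) S = 1 := by
  letI : MulAction R S :=
    { smul := fun t x => ⟨(t : LAut V) x, hinv t t.2 x x.2⟩
      one_smul := fun x => rfl
      mul_smul := fun s t x => rfl }
  have h1 := hR.card_modEq_card_fixedPoints S
  have h2 : Nat.card (fixedPoints R S) = 1 := by
    rw [Nat.card_eq_one_iff_unique]
    refine ⟨⟨fun a b => ?_⟩, ⟨⟨0, fun t => Subtype.ext (map_zero (t : LAut V))⟩⟩⟩
    have key : ∀ c : fixedPoints R S, (c.1 : V) = 0 := fun c =>
      hfix _ c.1.2 fun g hg => congrArg Subtype.val (c.2 ⟨g, hg⟩)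
    exact Subtype.ext (Subtype.ext (by rw [key a, key b]))
  rw [h2, card_submodule] at h1
  have h3 := (ZMod.natCast_eq_natCast_iff _ _ _).2 h1
  push_cast at h3
  exact h3

omit [Finite W] in
theorem dvd_finrank {R : Subgroup (LAut V)} (hd : orderOf (2 : ZMod r) = d) (hR : IsPGroup r R)
    (S : Submodule (ZMod 2) V) (hinv : ∀ g ∈ R, ∀ x ∈ S, g x ∈ S)
    (hfix : ∀ x ∈ S, (∀ g ∈ R, g x = x) → x = 0) : d ∣ finrank (ZMod 2) S :=
  hd ▸ orderOf_dvd_of_pow_eq_one (pow_finrank_eq_one hR S hinv hfix)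

omit [Finite W] in
theorem odd_card {R : Subgroup (LAut V)} (hr2 : r ≠ 2) (hR : IsPGroup r R) : Odd (Nat.card R) := by
  obtain ⟨m, hm⟩ := IsPGroup.iff_card.1 hR
  rw [hm]
  exact ((Fact.out : r.Prime).odd_of_ne_two hr2).pow

omit [Finite W] in
/-- The complement of the fixed vectors. -/
theorem exists_compl {R : Subgroup (LAut V)} (hr2 : r ≠ 2) (hR : IsPGroup r R) :
    ∃ U : Submodule (ZMod 2) V, IsCompl (fixSub R) U ∧
      (∀ g : LAut V, (∀ x, g * x * g⁻¹ ∈ R ↔ x ∈ R) → ∀ x ∈ U, g x ∈ U) ∧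
      (∀ x ∈ U, (∀ g ∈ R, g x = x) → x = 0) ∧
      ∀ S : Submodule (ZMod 2) V, (∀ g ∈ R, ∀ x ∈ S, g x ∈ S) →
        finrank (ZMod 2) S = finrank (ZMod 2) ↥(S ⊓ fixSub R) + finrank (ZMod 2) ↥(S ⊓ U) := by
  haveI := Fintype.ofFinite R
  let P : V →ₗ[ZMod 2] V := ∑ g : R, ((g : LAut V) : V →ₗ[ZMod 2] V)
  have hP : ∀ x, P x = ∑ g : R, (g : LAut V) x := fun x => by simp [P, LinearMap.sum_apply]
  have hPF : ∀ x, P x ∈ fixSub R := fun x s hs => by
    rw [hP, map_sum]
    exact Fintype.sum_equiv (Equiv.mulLeft ⟨s, hs⟩) _ _ fun g => rfl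
  have hPid : ∀ x ∈ fixSub R, P x = x := fun x hx => by
    rw [hP, Finset.sum_congr rfl fun (g : R) _ => hx g g.2, Finset.sum_const, Finset.card_univ,
      ← Nat.card_eq_fintype_card, ← Nat.cast_smul_eq_nsmul (ZMod 2),
      ZMod.natCast_eq_one_iff_odd.2 (odd_card hr2 hR), one_smul]
  have hsplit : ∀ S : Submodule (ZMod 2) V, (∀ g ∈ R, ∀ x ∈ S, g x ∈ S) → ∀ x ∈ S,
      P x ∈ S ⊓ fixSub R ∧ x + P x ∈ S ⊓ LinearMap.ker P := fun S hS x hx => by
    have h1 : P x ∈ S := by
      rw [hP]
      exact sum_mem fun g _ => hS g g.2 x hx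
    exact ⟨⟨h1, hPF x⟩, add_mem hx h1, LinearMap.mem_ker.2 (by rw [map_add, hPid _ (hPF x), add_self_v])⟩
  have hdisj : Disjoint (fixSub R) (LinearMap.ker P) := by
    rw [Submodule.disjoint_def]
    intro x hx hx'
    rw [← hPid x hx]
    exact hx'
  refine ⟨LinearMap.ker P, ⟨hdisj, ?_⟩, fun g hg x hx => ?_, fun x hx hfix => ?_, fun S hS => ?_⟩
  · rw [codisjoint_iff, eq_top_iff]
    intro x _
    rw [show x = P x + (x + P x) by rw [add_comm x, ← add_assoc, add_self_v, zero_add]]
    have h := hsplit ⊤ (fun _ _ _ _ => trivial) x trivial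
    exact Submodule.add_mem_sup h.1.2 h.2.2
  · rw [LinearMap.mem_ker, hP] at hx ⊢
    have e : ∑ s : R, (s : LAut V) (g x) = g (∑ s : R, (s : LAut V) x) := by
      rw [map_sum]
      let q : R ≃ R :=
        { toFun := fun s => ⟨g⁻¹ * s * g, (hg _).1 (by
            rw [show g * (g⁻¹ * (s : LAut V) * g) * g⁻¹ = s by group]; exact s.2)⟩
          invFun := fun s => ⟨g * s * g⁻¹, (hg _).2 s.2⟩
          left_inv := fun s => Subtype.ext (show g * (g⁻¹ * (s : LAut V) * g) * g⁻¹ = s by group)
          right_inv := fun s => Subtype.ext (show g⁻¹ * (g * (s : LAut V) * g⁻¹) * g = s by group) }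
      refine Fintype.sum_equiv q _ _ fun s => ?_
      show (s : LAut V) (g x) = (g * (g⁻¹ * (s : LAut V) * g)) x
      rw [show g * (g⁻¹ * (s : LAut V) * g) = (s : LAut V) * g by group]
      rfl
    rw [e, hx, map_zero]
  · rw [← hPid x fun g hg => hfix g hg]
    exact hx
  · have hsup : (S ⊓ fixSub R) ⊔ (S ⊓ LinearMap.ker P) = S := by
      refine le_antisymm (sup_le inf_le_left inf_le_left) fun x hx => ?_
      rw [show x = P x + (x + P x) by rw [add_comm x, ← add_assoc, add_self_v, zero_add]]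
      exact Submodule.add_mem_sup (hsplit S hS x hx).1 (hsplit S hS x hx).2
    have h := Submodule.finrank_sup_add_finrank_inf_eq (S ⊓ fixSub R) (S ⊓ LinearMap.ker P)
    rw [hsup, show (S ⊓ fixSub R) ⊓ (S ⊓ LinearMap.ker P) = ⊥ from
      (hdisj.mono inf_le_right inf_le_right).eq_bot, finrank_bot, add_zero] at h
    exact h

/-- The irreducible case. -/
theorem irreducible_facts (hd : orderOf (2 : ZMod r) = d) (hd0 : 0 < d) (hW : finrank (ZMod 2) W = d)
    {R : Subgroup (LAut W)} (hR : IsPGroup r R) (hfix : ∀ x, (∀ g ∈ R, g x = x) → x = 0) :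
    IsCyclic R ∧
      (∀ g h : LAut W, (∀ x ∈ R, g * x = x * g) → (∀ x ∈ R, h * x = x * h) → g * h = h * g) ∧
      (∀ g : LAut W, (∀ x ∈ R, g * x = x * g) → g ^ (2 ^ d - 1) = 1) ∧
      (∀ g : LAut W, Normalizes R g → ∀ x ∈ R, g ^ d * x = x * g ^ d) ∧
      ∀ g h : LAut W, Normalizes R g → Normalizes R h → ∀ x ∈ R,
        (g * h * g⁻¹ * h⁻¹) * x = x * (g * h * g⁻¹ * h⁻¹) := by
  classical
  haveI : Nontrivial W := Module.nontrivial_of_finrank_pos (R := ZMod 2) (hW ▸ hd0)
  haveI : Nontrivial R := by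
    rw [Subgroup.nontrivial_iff_ne_bot]
    intro e
    obtain ⟨w, hw⟩ := exists_ne (0 : W)
    exact hw (hfix w fun g hg => by rw [e, Subgroup.mem_bot] at hg; rw [hg]; rfl)
  haveI := hR.center_nontrivial
  obtain ⟨z, hz⟩ : ∃ z : Subgroup.center R, orderOf z = r := by
    refine exists_prime_orderOf_dvd_card' r ?_
    obtain ⟨m, hm⟩ := IsPGroup.iff_card.1 (hR.to_subgroup (Subgroup.center R))
    rw [hm]
    refine dvd_pow_self r fun e => ?_
    rw [e, pow_zero] at hm
    exact absurd hm Finite.one_lt_card.ne'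
  set z' : LAut W := ((z : R) : LAut W) with hz'
  have hzR : z' ∈ R := (z : R).2
  have hzc : ∀ x ∈ R, z' * x = x * z' := fun x hx =>
    congrArg Subtype.val (Subgroup.mem_center_iff.1 z.2 ⟨x, hx⟩).symm
  have hzo : orderOf z' = r := by rw [hz', Subgroup.orderOf_coe, Subgroup.orderOf_coe, hz]
  have hzne : z' ≠ 1 := fun e => by
    rw [e, orderOf_one] at hzo
    exact (Fact.out : r.Prime).ne_one hzo.symm
  -- invariant subspaces of the central element
  have hzfix : ∀ x, z' x = x → x = 0 := by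
    let S : Submodule (ZMod 2) W :=
      { carrier := {x | z' x = x}
        zero_mem' := map_zero z'
        add_mem' := fun {a b} ha hb => by
          show z' (a + b) = a + b
          rw [map_add, ha, hb]
        smul_mem' := fun c a ha => by
          show z' (c • a) = c • a
          rw [map_smul, ha] }
    have hdvd := dvd_finrank hd hR S
      (fun g hg x hx => by
        show z' (g x) = g x
        rw [← symm_apply_mul, hzc g hg, symm_apply_mul, hx])
      fun x _ hx => hfix x hx
    intro x hx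
    by_contra hx0
    have hne : S ≠ ⊥ := fun e => hx0 ((Submodule.mem_bot _).1 (e ▸ (show x ∈ S from hx)))
    have h1 : finrank (ZMod 2) S ≠ 0 := fun e => hne (Submodule.finrank_eq_zero.1 e)
    have h2 := Submodule.finrank_le S
    have h3 := Nat.le_of_dvd (Nat.pos_of_ne_zero h1) hdvd
    have htop : S = ⊤ := Submodule.eq_top_of_finrank_eq (by omega)
    exact hzne (LinearEquiv.ext fun y => (show y ∈ S by rw [htop]; trivial))
  have hirr : ∀ S : Submodule (ZMod 2) W, (∀ x ∈ S, z' x ∈ S) → S = ⊥ ∨ S = ⊤ := by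
    intro S hS
    have hinv : ∀ g ∈ Subgroup.zpowers z', ∀ x ∈ S, g x ∈ S := by
      intro g hg
      obtain ⟨m, rfl⟩ := (isOfFinOrder_of_finite z').mem_powers_iff_mem_zpowers.2 hg
      induction m with
      | zero => exact fun x hx => hx
      | succ m ih =>
        intro x hx
        show (z' ^ (m + 1)) x ∈ S
        rw [pow_succ, symm_apply_mul]
        exact ih ⟨m, rfl⟩ _ (hS x hx)
    have hp : IsPGroup r (Subgroup.zpowers z') :=
      IsPGroup.of_card (n := 1) (by rw [Nat.card_zpowers, hzo, pow_one])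
    have hdvd := dvd_finrank hd hp S hinv fun x _ hx => hzfix x (hx z' (Subgroup.mem_zpowers z'))
    by_cases h0 : finrank (ZMod 2) S = 0
    · exact Or.inl (Submodule.finrank_eq_zero.1 h0)
    · have h3 := Nat.le_of_dvd (Nat.pos_of_ne_zero h0) hdvd
      have h2 := Submodule.finrank_le S
      exact Or.inr (Submodule.eq_top_of_finrank_eq (by omega))
  -- the field
  let ι : LAut W →* Module.End (ZMod 2) W := LinearEquiv.automorphismGroup.toLinearMapMonoidHom
  have hι : Function.Injective ι := fun a b h => LinearEquiv.ext fun x => LinearMap.congr_fun h x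
  let C : Subalgebra (ZMod 2) (Module.End (ZMod 2) W) := Subalgebra.centralizer (ZMod 2) {ι z'}
  have hCmem : ∀ a, a ∈ C ↔ ι z' * a = a * ι z' := fun a => by
    simp [C, Subalgebra.mem_centralizer_iff]
  have hkerC : ∀ a ∈ C, ∀ w : W, w ≠ 0 → a w = 0 → a = 0 := fun a ha w hw haw => by
    rcases hirr (LinearMap.ker a) fun x hx => by
        rw [LinearMap.mem_ker] at hx ⊢
        have := LinearMap.congr_fun ((hCmem a).1 ha) x
        simp only [Module.End.mul_apply] at this
        rw [hx, map_zero] at this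
        exact this.symm with h | h
    · exact absurd ((Submodule.mem_bot _).1 (h ▸ LinearMap.mem_ker.2 haw : w ∈ (⊥ : Submodule (ZMod 2) W))) hw
    · exact LinearMap.ker_eq_top.1 h
  obtain ⟨w₀, hw₀⟩ := exists_ne (0 : W)
  let A : Subalgebra (ZMod 2) (Module.End (ZMod 2) W) := Algebra.adjoin (ZMod 2) {ι z'}
  have hAC : A ≤ C := Algebra.adjoin_le fun a ha => by
    rw [Set.mem_singleton_iff.1 ha]
    exact (hCmem _).2 rfl
  let ev : A →ₗ[ZMod 2] W :=
    { toFun := fun a => (a : Module.End (ZMod 2) W) w₀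
      map_add' := fun a b => rfl
      map_smul' := fun c a => rfl }
  have hev : Function.Surjective ev := by
    have : LinearMap.range ev = ⊤ := by
      refine (hirr _ ?_).resolve_left fun e => hw₀ ?_
      · rintro _ ⟨a, rfl⟩
        exact ⟨⟨ι z', Algebra.subset_adjoin rfl⟩ * a, rfl⟩
      · exact (Submodule.mem_bot _).1 (by rw [← e]; exact ⟨1, rfl⟩)
    exact LinearMap.range_eq_top.1 this
  have hCA : ∀ a ∈ C, a ∈ A := fun a ha => by
    obtain ⟨b, hb⟩ := hev (a w₀)
    have h0 := hkerC (a - b) (sub_mem ha (hAC b.2)) w₀ hw₀ (by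
      rw [LinearMap.sub_apply, sub_eq_zero]; exact hb.symm)
    rw [sub_eq_zero.1 h0]
    exact b.2
  have hcomm : ∀ a b : C, a * b = b * a := fun a b => Subtype.ext (by
    have hle : A ≤ Subalgebra.centralizer (ZMod 2) {(b : Module.End (ZMod 2) W)} :=
      Algebra.adjoin_le fun x hx => by
        rw [Set.mem_singleton_iff.1 hx]
        simpa [Subalgebra.mem_centralizer_iff, Set.mem_centralizer_iff] using ((hCmem _).1 b.2).symm
    have := hle (hCA a a.2)
    simp only [Subalgebra.mem_centralizer_iff, Set.mem_singleton_iff, forall_eq] at this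
    exact this.symm)
  haveI : NoZeroDivisors C := ⟨fun {a b} h => by
    by_cases hb : (b : Module.End (ZMod 2) W) w₀ = 0
    · exact Or.inr (Subtype.ext (hkerC b b.2 w₀ hw₀ hb))
    · exact Or.inl (Subtype.ext (hkerC a a.2 _ hb
        (LinearMap.congr_fun (congrArg Subtype.val h) w₀)))⟩
  letI : CommRing C := { (inferInstance : Ring C) with mul_comm := hcomm }
  haveI : IsDomain C := NoZeroDivisors.to_isDomain C
  haveI : Finite (Module.End (ZMod 2) W) := Finite.of_injective _ DFunLike.coe_injective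
  haveI := Fintype.ofFinite C
  letI : Field C := Fintype.fieldOfDomain C
  have hfin : finrank (ZMod 2) C = d := by
    let ev' : C →ₗ[ZMod 2] W :=
      { toFun := fun a => (a : Module.End (ZMod 2) W) w₀
        map_add' := fun a b => rfl
        map_smul' := fun c a => rfl }
    rw [← hW]
    refine (LinearEquiv.ofBijective ev' ⟨(injective_iff_map_eq_zero ev').2 fun a ha =>
      Subtype.ext (hkerC a a.2 w₀ hw₀ ha), fun w => ?_⟩).finrank_eq
    obtain ⟨b, hb⟩ := hev w
    exact ⟨⟨b, hAC b.2⟩, hb⟩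
  have hcen : ∀ g : LAut W, (∀ x ∈ R, g * x = x * g) → ι g ∈ C := fun g hg => by
    rw [hCmem, ← map_mul, ← map_mul, hg z' hzR]
  have hcenR : ∀ x ∈ R, ι x ∈ C := fun x hx => by
    rw [hCmem, ← map_mul, ← map_mul, hzc x hx]
  have hzero : ∀ g : LAut W, ι g ∈ C → ∀ x ∈ R, g * x = x * g := fun g hg x hx => hι (by
    rw [map_mul, map_mul]
    exact congrArg Subtype.val (hcomm ⟨_, hg⟩ ⟨_, hcenR x hx⟩))
  -- the semilinear action of the normalizer
  have haut : ∀ g : LAut W, Normalizes R g → ∃ σ : C ≃ₐ[ZMod 2] C,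
      ∀ c : C, (σ c : Module.End (ZMod 2) W) = ι g * c * ι g⁻¹ := by
    intro g hg
    have hback : ∀ x ∈ R, g⁻¹ * x * g ∈ R := by
      intro x hx
      have hinj : Function.Injective fun y : R => (⟨g * y * g⁻¹, hg y y.2⟩ : R) := fun a b h =>
        Subtype.ext (mul_right_cancel (mul_left_cancel (mul_right_cancel (congrArg Subtype.val h)) :
          (a : LAut W) * 1 = (b : LAut W) * 1))
      obtain ⟨y, hy⟩ := Finite.surjective_of_injective hinj ⟨x, hx⟩
      rw [← show g * (y : LAut W) * g⁻¹ = x from congrArg Subtype.val hy]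
      simp [mul_assoc]
    have hgi : ∀ a : Module.End (ZMod 2) W, ι g⁻¹ * (ι g * a) = a := fun a => by
      rw [← mul_assoc, ← map_mul, inv_mul_cancel, map_one, one_mul]
    have hmaps : ∀ c : C, ι g * c * ι g⁻¹ ∈ C := fun c => by
      rw [hCmem]
      have h1 : (c : Module.End (ZMod 2) W) * ι (g⁻¹ * z' * g) = ι (g⁻¹ * z' * g) * c :=
        congrArg Subtype.val (hcomm c ⟨_, hcenR _ (hback z' hzR)⟩)
      rw [show ι z' = ι g * ι (g⁻¹ * z' * g) * ι g⁻¹ by simp [← map_mul, mul_assoc]]
      generalize ι (g⁻¹ * z' * g) = w at h1 ⊢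
      simp only [mul_assoc, hgi]
      rw [← mul_assoc w, ← h1, mul_assoc]
    let φ : C →ₐ[ZMod 2] C :=
      { toFun := fun c => ⟨ι g * c * ι g⁻¹, hmaps c⟩
        map_one' := Subtype.ext (by simp [← map_mul])
        map_mul' := fun a b => Subtype.ext (by
          simp only [Subalgebra.coe_mul, mul_assoc, hgi])
        map_zero' := Subtype.ext (by simp)
        map_add' := fun a b => Subtype.ext (by simp [mul_add, add_mul])
        commutes' := fun c => Subtype.ext (by
          show ι g * algebraMap (ZMod 2) (Module.End (ZMod 2) W) c * ι g⁻¹ = algebraMap _ _ c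
          rw [← Algebra.commutes, mul_assoc, ← map_mul, mul_inv_cancel, map_one, mul_one]) }
    exact ⟨AlgEquiv.ofBijective φ ⟨RingHom.injective φ.toRingHom,
      Finite.surjective_of_injective (RingHom.injective φ.toRingHom)⟩, fun c => rfl⟩
  refine ⟨?_, fun g h hg hh => hι ?_, fun g hg => hι ?_, fun g hg x hx => ?_, fun g h hg hh x hx => ?_⟩
  · exact isCyclic_of_injective_ringHom (R := C)
      { toFun := fun x : R => (⟨ι x, hcenR x x.2⟩ : C)
        map_one' := Subtype.ext (map_one ι)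
        map_mul' := fun a b => Subtype.ext (map_mul ι _ _) }
      fun a b h => Subtype.ext (hι (congrArg Subtype.val h))
  · rw [map_mul, map_mul]
    exact congrArg Subtype.val (hcomm ⟨_, hcen g hg⟩ ⟨_, hcen h hh⟩)
  · have hne : (⟨ι g, hcen g hg⟩ : C) ≠ 0 := fun e => hw₀ (g.map_eq_zero_iff.1
      (LinearMap.congr_fun (congrArg Subtype.val e) w₀))
    have hpw := FiniteField.pow_card_sub_one_eq_one _ hne
    rw [← Nat.card_eq_fintype_card, Module.natCard_eq_pow_finrank (K := ZMod 2) (V := C), hfin,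
      Nat.card_zmod] at hpw
    rw [map_pow, map_one]
    simpa using congrArg Subtype.val hpw
  · obtain ⟨σ, hσ⟩ := haut g hg
    have hσd : σ ^ d = 1 := by
      rw [← hfin, ← orderOf_dvd_iff_pow_eq_one, ← IsGalois.card_aut_eq_finrank (ZMod 2) C]
      exact orderOf_dvd_natCard σ
    have hpow : ∀ m, ∀ c : C, ((σ ^ m) c : Module.End (ZMod 2) W) = ι (g ^ m) * c * ι (g ^ m)⁻¹ := by
      intro m
      induction m with
      | zero => intro c; simp
      | succ m ih =>
        intro c
        rw [pow_succ, AlgEquiv.mul_apply, ih, hσ, pow_succ, mul_inv_rev, map_mul, map_mul]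
        simp only [mul_assoc]
    refine hι ?_
    have h1 := hpow d ⟨_, hcenR x hx⟩
    rw [hσd, AlgEquiv.one_apply] at h1
    simp only [← map_mul] at h1
    rw [map_mul, map_mul]
    conv_rhs => rw [h1, map_mul, map_mul, mul_assoc, ← map_mul ι (g ^ d)⁻¹, inv_mul_cancel, map_one, mul_one]
  · obtain ⟨σ, hσ⟩ := haut g hg
    obtain ⟨τ, hτ⟩ := haut h hh
    have hst : σ * τ = τ * σ := by
      haveI : IsCyclic (C ≃ₐ[ZMod 2] C) := inferInstance
      letI : CommGroup (C ≃ₐ[ZMod 2] C) := IsCyclic.commGroup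
      exact mul_comm σ τ
    have e : ∀ (k : LAut W) (c : C), (ι k * (c : Module.End (ZMod 2) W)) * ι k⁻¹ = (c : Module.End (ZMod 2) W) →
        ι k * c = c * ι k := fun k c hk => by
      conv_rhs => rw [← hk, mul_assoc, ← map_mul, inv_mul_cancel, map_one, mul_one]
    refine hι ?_
    rw [map_mul _ _ x, map_mul _ x]
    refine e (g * h * g⁻¹ * h⁻¹) ⟨_, hcenR x hx⟩ ?_
    set y : C := (σ * τ)⁻¹ ⟨_, hcenR x hx⟩
    have h1 : ι (g * h) * (y : Module.End (ZMod 2) W) * ι (g * h)⁻¹ = ι x := by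
      have : (σ * τ) y = (⟨_, hcenR x hx⟩ : C) := by simp [y]
      rw [mul_inv_rev, map_mul, map_mul]
      show _ = ((⟨_, hcenR x hx⟩ : C) : Module.End (ZMod 2) W)
      rw [← this, AlgEquiv.mul_apply, hσ, hτ]
      simp only [mul_assoc]
    have h2 : ι (h * g) * (y : Module.End (ZMod 2) W) * ι (h * g)⁻¹ = ι x := by
      have : (τ * σ) y = (⟨_, hcenR x hx⟩ : C) := by rw [← hst]; simp [y]
      rw [mul_inv_rev, map_mul, map_mul]
      show _ = ((⟨_, hcenR x hx⟩ : C) : Module.End (ZMod 2) W)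
      rw [← this, AlgEquiv.mul_apply, hτ, hσ]
      simp only [mul_assoc]
    show ι (g * h * g⁻¹ * h⁻¹) * ι x * ι (g * h * g⁻¹ * h⁻¹)⁻¹ = ι x
    conv_lhs => rw [← h2]
    rw [show g * h * g⁻¹ * h⁻¹ = (g * h) * (h * g)⁻¹ by group]
    conv_rhs => rw [← h1]
    simp only [← mul_assoc, ← map_mul]
    rw [mul_inv_rev (g * h) (h * g)⁻¹, inv_inv]
    calc ι (g * h * (h * g)⁻¹ * (h * g)) * ↑y * ι (h * g)⁻¹ * ι (h * g * (g * h)⁻¹)
        = ι (g * h * (h * g)⁻¹ * (h * g)) * ↑y * ι ((h * g)⁻¹ * (h * g * (g * h)⁻¹)) := by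
          rw [mul_assoc, ← map_mul]
      _ = _ := by rw [inv_mul_cancel_right, inv_mul_cancel_left]

end

/-- A homomorphism whose image on commutators commutes kills the second derived group. -/
theorem derived_two_le_ker {G M : Type*} [Group G] [Group M] (ψ : G →* M)
    (h : ∀ a b c e : G, Commute (ψ ⁅a, b⁆) (ψ ⁅c, e⁆)) : derivedSeries G 2 ≤ ψ.ker := by
  have h1 : ∀ x ∈ derivedSeries G 1, ∀ y ∈ derivedSeries G 1, Commute (ψ x) (ψ y) := by
    intro x hx y hy
    have hle : derivedSeries G 1 ≤ Subgroup.closure (commutatorSet G) := by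
      rw [derivedSeries_one, commutator_eq_closure]
    have hx' := hle hx
    have hy' := hle hy
    clear hx hy
    induction hx', hy' using Subgroup.closure_induction₂ with
    | mem a b ha hb =>
      obtain ⟨a₁, a₂, rfl⟩ := ha
      obtain ⟨b₁, b₂, rfl⟩ := hb
      exact h a₁ a₂ b₁ b₂
    | one_left b hb => simp
    | one_right a ha => simp
    | mul_left a b c _ _ _ iha ihb => rw [map_mul]; exact iha.mul_left ihb
    | mul_right a b c _ _ _ iha ihb => rw [map_mul]; exact iha.mul_right ihb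
    | inv_left a b _ _ ih => rw [map_inv]; exact ih.inv_left
    | inv_right a b _ _ ih => rw [map_inv]; exact ih.inv_right
  rw [derivedSeries_succ, Subgroup.commutator_le]
  intro x hx y hy
  rw [MonoidHom.mem_ker, map_commutatorElement, commutatorElement_eq_one_iff_commute]
  exact h1 x hx y hy

/-- The action of the stabilizer of a subspace on it. -/
def restr (H : Subgroup (LAut V)) (S : Submodule (ZMod 2) V) : setStab H S →* LAut S where
  toFun g :=
    { toFun := fun x => ⟨(g : LAut V) x, (g.2.2 x).2 x.2⟩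
      invFun := fun x => ⟨(g : LAut V).symm x, (g.2.2 _).1 (by rw [LinearEquiv.apply_symm_apply]; exact x.2)⟩
      left_inv := fun x => Subtype.ext (LinearEquiv.symm_apply_apply _ _)
      right_inv := fun x => Subtype.ext (LinearEquiv.apply_symm_apply _ _)
      map_add' := fun x y => Subtype.ext (map_add (g : LAut V) _ _)
      map_smul' := fun c x => Subtype.ext (map_smul (g : LAut V) c (x : V)) }
  map_one' := rfl
  map_mul' _ _ := rfl

theorem restr_apply {H : Subgroup (LAut V)} {S : Submodule (ZMod 2) V} (g : setStab H S) (x : S) :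
    (restr H S g x : V) = (g : LAut V) x := rfl

theorem map_eq_of_mem_setStab {H : Subgroup (LAut V)} {S : Submodule (ZMod 2) V} (g : setStab H S) :
    S.map ((g : LAut V) : V →ₗ[ZMod 2] V) = S :=
  le_antisymm (by rintro _ ⟨x, hx, rfl⟩; exact (g.2.2 x).2 hx)
    fun x hx => ⟨(g : LAut V).symm x, (g.2.2 _).1 (by rwa [LinearEquiv.apply_symm_apply]),
      LinearEquiv.apply_symm_apply _ _⟩

/-- The action of the stabilizer of a subspace on the quotient by it. -/
def quot (H : Subgroup (LAut V)) (S : Submodule (ZMod 2) V) : setStab H S →* LAut (V ⧸ S) where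
  toFun g := Submodule.Quotient.equiv S S (g : LAut V) (map_eq_of_mem_setStab g)
  map_one' := LinearEquiv.ext fun q => by
    induction q using Submodule.Quotient.induction_on with
    | H x => rfl
  map_mul' _ _ := LinearEquiv.ext fun q => by
    induction q using Submodule.Quotient.induction_on with
    | H x => rfl

theorem quot_mk {H : Subgroup (LAut V)} {S : Submodule (ZMod 2) V} (g : setStab H S) (x : V) :
    quot H S g (Submodule.Quotient.mk x) = Submodule.Quotient.mk ((g : LAut V) x) := rfl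

end CfsgLib.TransGL
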