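import Mathlib

/-!
# Functions on a field with `2 ^ n` elements (S4179, Singer cycle piece)

Functions of small digit degree, the averaging lemma for functions of three variables invariant
under scaling, and the vanishing of scale invariant trilinear data.
-/

set_option autoImplicit false

namespace CfsgLib.TransGL.SingerAlg

open Finset

section Nat

variable {n : ℕ}

/-- The number with the given binary digits. -/
def val (S : Finset (Fin n)) : ℕ := ∑ j ∈ S, 2 ^ (j : ℕ)

theorem val_map (S : Finset (Fin n)) :
    val S = ∑ j ∈ S.map Fin.valEmbedding, 2 ^ j := by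
  rw [val, Finset.sum_map]
  rfl

theorem val_injective : Function.Injective (val (n := n)) := by
  intro S T h
  rw [val_map, val_map] at h
  exact Finset.map_injective _ (Finset.geomSum_injective le_rfl h)

theorem val_univ : val (Finset.univ : Finset (Fin n)) = 2 ^ n - 1 := by
  rw [val, Fin.sum_univ_eq_sum_range (fun j => 2 ^ j), Nat.geomSum_eq le_rfl]
  simp

theorem val_le (S : Finset (Fin n)) : val S ≤ 2 ^ n - 1 := by
  rw [← val_univ]
  exact Finset.sum_le_sum_of_subset (Finset.subset_univ S)

theorem val_compl (S : Finset (Fin n)) : val Sᶜ + val S = 2 ^ n - 1 := by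
  rw [← val_univ, val, val, val, Finset.sum_compl_add_sum]

/-- Fewer than `n` powers of two never add up to a multiple of `2 ^ n - 1`. -/
theorem not_dvd_sum_pow (M : Multiset (Fin n)) (h0 : M ≠ 0) (hlt : Multiset.card M < n) :
    ¬ 2 ^ n - 1 ∣ (M.map fun j : Fin n => 2 ^ (j : ℕ)).sum := by
  classical
  induction hm : Multiset.card M using Nat.strong_induction_on generalizing M with
  | h r ih =>
    subst hm
    by_cases hnd : M.Nodup
    · intro hdvd
      let S : Finset (Fin n) := ⟨M, hnd⟩
      have hsum : (M.map fun j : Fin n => 2 ^ (j : ℕ)).sum = val S := rfl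
      rw [hsum] at hdvd
      have hpos : 0 < val S := Finset.sum_pos (fun j _ => pow_pos two_pos _)
        (Finset.card_pos.1 (Multiset.card_pos.2 h0))
      have hne : S ≠ Finset.univ := fun h => by
        have := congrArg Finset.card h
        rw [Finset.card_univ, Fintype.card_fin] at this
        exact hlt.ne this
      have h1 : val S = val (Finset.univ : Finset (Fin n)) := by
        rw [val_univ]
        exact le_antisymm (val_le S) (Nat.le_of_dvd hpos hdvd)
      exact hne (val_injective h1)
    · rw [Multiset.nodup_iff_ne_cons_cons] at hnd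
      push Not at hnd
      obtain ⟨a, M', rfl⟩ := hnd
      simp only [Multiset.card_cons] at hlt ih
      have hn : 0 < n := by omega
      let b : Fin n := ⟨((a : ℕ) + 1) % n, Nat.mod_lt _ hn⟩
      have hb : ∃ ε : ℕ, 2 ^ (a : ℕ) + 2 ^ (a : ℕ) = 2 ^ (b : ℕ) + ε * (2 ^ n - 1) := by
        by_cases ha : (a : ℕ) + 1 < n
        · refine ⟨0, ?_⟩
          rw [show (b : ℕ) = a + 1 from Nat.mod_eq_of_lt ha, pow_succ]
          omega
        · refine ⟨1, ?_⟩
          have ha' : (a : ℕ) + 1 = n := by omega
          rw [show (b : ℕ) = 0 from (by simp only [b, ha', Nat.mod_self]), pow_zero, one_mul,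
            ← two_mul, ← pow_succ', ha']
          have : 0 < 2 ^ n := pow_pos two_pos n
          omega
      obtain ⟨ε, hε⟩ := hb
      intro hdvd
      refine ih (Multiset.card M' + 1) (by omega) (b ::ₘ M') (Multiset.cons_ne_zero)
        (by simp only [Multiset.card_cons]; omega) (Multiset.card_cons _ _) ?_
      simp only [Multiset.map_cons, Multiset.sum_cons] at hdvd ⊢
      rw [← add_assoc, hε, add_right_comm] at hdvd
      exact (Nat.dvd_add_left ⟨ε, mul_comm _ _⟩).1 hdvd

/-- The exponent attached to a choice of at most one power of two. -/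
def ow : Option (Fin n) → ℕ
  | none => 0
  | some j => 2 ^ (j : ℕ)

/-- The exponent attached to a tuple of choices. -/
def wt {d : ℕ} (m : Fin d → Option (Fin n)) : ℕ := ∑ i, ow (m i)

/-- The multiset of powers occurring in a tuple of choices. -/
def digits {d : ℕ} (m : Fin d → Option (Fin n)) : Multiset (Fin n) :=
  (Finset.univ : Finset (Fin d)).val.filterMap m

theorem sum_digits {d : ℕ} (m : Fin d → Option (Fin n)) :
    ((digits m).map fun j : Fin n => 2 ^ (j : ℕ)).sum = wt m := by
  have key : ∀ N : Multiset (Fin d),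
      ((N.filterMap m).map fun j : Fin n => 2 ^ (j : ℕ)).sum = (N.map fun i => ow (m i)).sum := by
    intro N
    induction N using Multiset.induction_on with
    | empty => simp
    | cons a N ih =>
      cases h : m a with
      | none => rw [Multiset.filterMap_cons_none _ _ h, ih]; simp [ow, h]
      | some j => rw [Multiset.filterMap_cons_some _ _ _ h]; simp [ow, h, ih]
  exact key _

theorem card_digits_le {d : ℕ} (m : Fin d → Option (Fin n)) :
    Multiset.card (digits m) ≤ d := by
  have key : ∀ N : Multiset (Fin d), Multiset.card (N.filterMap m) ≤ Multiset.card N := by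
    intro N
    induction N using Multiset.induction_on with
    | empty => simp
    | cons a N ih =>
      cases h : m a with
      | none => rw [Multiset.filterMap_cons_none _ _ h, Multiset.card_cons]; omega
      | some j => rw [Multiset.filterMap_cons_some _ _ _ h]; simp [ih]
  simpa [digits] using key (Finset.univ : Finset (Fin d)).val

theorem not_dvd_wt {d : ℕ} (hd : 3 * d < n) (a b c : Fin d → Option (Fin n))
    (h : wt a + wt b + wt c ≠ 0) : ¬ 2 ^ n - 1 ∣ wt a + wt b + wt c := by
  have := card_digits_le a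
  have := card_digits_le b
  have := card_digits_le c
  rw [← sum_digits a, ← sum_digits b, ← sum_digits c, ← Multiset.sum_add, ← Multiset.map_add,
    ← Multiset.sum_add, ← Multiset.map_add] at h ⊢
  refine not_dvd_sum_pow _ (fun h0 => h (by rw [h0]; simp)) ?_
  simp only [Multiset.card_add]
  omega

end Nat

set_option linter.unusedSectionVars false

variable {K : Type*} [Field K] [Fintype K] [Algebra (ZMod 2) K] {n : ℕ}

theorem finrank_eq (hK : Fintype.card K = 2 ^ n) : Module.finrank (ZMod 2) K = n := by
  have h := Module.card_eq_pow_finrank (K := ZMod 2) (V := K)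
  rw [hK, ZMod.card] at h
  exact (Nat.pow_right_injective le_rfl h).symm

theorem eq_of_trace_eq {a b : K}
    (h : ∀ x, Algebra.trace (ZMod 2) K (a * x) = Algebra.trace (ZMod 2) K (b * x)) : a = b := by
  have h1 := (traceForm_nondegenerate (ZMod 2) K).1 (a - b) fun x => by
    rw [Algebra.traceForm_apply, sub_mul, map_sub, h x, sub_self]
  exact sub_eq_zero.1 h1

theorem exists_trace_eq (φ : Module.Dual (ZMod 2) K) :
    ∃ a : K, ∀ x, φ x = Algebra.trace (ZMod 2) K (a * x) := by
  let L : K →ₗ[ZMod 2] Module.Dual (ZMod 2) K := Algebra.traceForm (ZMod 2) K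
  have hL : Function.Injective L := fun a b h => eq_of_trace_eq fun x => by
    simpa [L, Algebra.traceForm_apply] using LinearMap.congr_fun h x
  obtain ⟨a, ha⟩ := (LinearMap.injective_iff_surjective_of_finrank_eq_finrank
    Subspace.dual_finrank_eq.symm).1 hL φ
  exact ⟨a, fun x => by rw [← ha]; rfl⟩

theorem trace_eq_sum (hK : Fintype.card K = 2 ^ n) (a x : K) :
    algebraMap (ZMod 2) K (Algebra.trace (ZMod 2) K (a * x)) =
      ∑ i : Fin n, a ^ 2 ^ (i : ℕ) * x ^ 2 ^ (i : ℕ) := by
  rw [FiniteField.algebraMap_trace_eq_sum_pow, finrank_eq hK, Nat.card_zmod, Finset.sum_range]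
  simp only [mul_pow]

theorem exists_linear_eq (hK : Fintype.card K = 2 ^ n) (β : K →ₗ[ZMod 2] K) :
    ∃ b : Fin n → K, ∀ x, β x = ∑ i : Fin n, b i * x ^ 2 ^ (i : ℕ) := by
  let e := Module.finBasis (ZMod 2) K
  choose a ha using fun j => exists_trace_eq (e.coord j)
  refine ⟨fun i => ∑ j, β (e j) * a j ^ 2 ^ (i : ℕ), fun x => ?_⟩
  conv_lhs => rw [← e.sum_repr x]
  rw [map_sum]
  simp only [Finset.sum_mul]
  rw [Finset.sum_comm]
  refine Finset.sum_congr rfl fun j _ => ?_
  rw [map_smul, Algebra.smul_def, ← e.coord_apply, ha j, trace_eq_sum hK, Finset.sum_mul]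
  exact Finset.sum_congr rfl fun i _ => by ring

theorem coeff_eq_zero (hK : Fintype.card K = 2 ^ n) (c : Finset (Fin n) → K)
    (h : ∀ t : K, ∑ S, c S * t ^ val S = 0) (S : Finset (Fin n)) : c S = 0 := by
  classical
  let P : Polynomial K := ∑ S, Polynomial.C (c S) * Polynomial.X ^ val S
  have hdeg : P.natDegree < Fintype.card K := by
    refine lt_of_le_of_lt (Polynomial.natDegree_sum_le_of_forall_le _ _ fun T _ =>
      (Polynomial.natDegree_C_mul_X_pow_le _ _).trans (val_le T)) ?_
    rw [hK]
    have : 0 < 2 ^ n := pow_pos two_pos n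
    omega
  have hP : P = 0 := Polynomial.eq_zero_of_natDegree_lt_card_of_eval_eq_zero P
    Function.injective_id (fun t => by simpa [P, Polynomial.eval_finsetSum] using h t) hdeg
  have h1 : P.coeff (val S) = c S := by
    simp [P, Polynomial.finsetSum_coeff, Polynomial.coeff_X_pow, val_injective.eq_iff]
  rw [← h1, hP, Polynomial.coeff_zero]

open scoped Classical in
theorem sum_units_pow (hK : Fintype.card K = 2 ^ n) {S : ℕ} (h : ¬ 2 ^ n - 1 ∣ S) :
    ∑ l : Kˣ, (l : K) ^ S = 0 := by
  rw [← hK] at h
  simpa [h] using FiniteField.sum_pow_units K S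

/-- The monomial map on functions of digit degree at most `d`. -/
def mono (n d : ℕ) : ((Fin d → Option (Fin n)) → K) →ₗ[K] (K → K) where
  toFun c x := ∑ m, c m * x ^ wt m
  map_add' c c' := funext fun x => by simp [add_mul, Finset.sum_add_distrib]
  map_smul' r c := funext fun x => by simp [Finset.mul_sum, mul_assoc]

theorem const_mem (d : ℕ) (a : K) : (fun _ => a) ∈ LinearMap.range (mono (K := K) n d) := by
  classical
  refine ⟨Pi.single (fun _ => none) a, funext fun x => ?_⟩
  show ∑ m : Fin d → Option (Fin n), (Pi.single (fun _ => none) a : (Fin d → Option (Fin n)) → K) m * x ^ wt m = a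
  rw [Finset.sum_eq_single_of_mem (fun _ => none) (Finset.mem_univ _)
    (fun m _ hm => by rw [Pi.single_eq_of_ne hm, zero_mul]), Pi.single_eq_same]
  simp [wt, ow]

/-- The complement of a subspace of codimension `d` has digit degree at most `d`. -/
theorem indicator_mem (hK : Fintype.card K = 2 ^ n) {d : ℕ}
    (φ : Fin d → Module.Dual (ZMod 2) K) :
    (fun x => 1 + algebraMap (ZMod 2) K (∏ i, (1 + φ i x))) ∈
      LinearMap.range (mono (K := K) n d) := by
  classical
  refine add_mem (const_mem d 1) (s := LinearMap.range (mono (K := K) n d)) ?_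
  choose a ha using fun i => exists_trace_eq (φ i)
  let u : Fin d → Option (Fin n) → K := fun i o => o.elim 1 fun j => a i ^ 2 ^ (j : ℕ)
  refine ⟨fun m => ∏ i, u i (m i), funext fun x => ?_⟩
  show ∑ m : Fin d → Option (Fin n), (∏ i, u i (m i)) * x ^ wt m = _
  have h1 : ∀ i, algebraMap (ZMod 2) K (1 + φ i x) = ∑ o, u i o * x ^ ow o := fun i => by
    rw [Fintype.sum_option, map_add, map_one, ha i, trace_eq_sum hK]
    simp [u, ow]
  rw [map_prod, Finset.prod_congr rfl fun i _ => h1 i, Fintype.prod_sum]
  refine Finset.sum_congr rfl fun m _ => ?_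
  rw [Finset.prod_mul_distrib, Finset.prod_pow_eq_pow_sum]
  rfl

/-- A scale invariant function of three variables of small digit degree in each is constant. -/
theorem eq_const (hn : 1 ≤ n) (hK : Fintype.card K = 2 ^ n) {d : ℕ} (hd : 3 * d < n)
    (f : K → K → K → K) (hx : ∀ y z, (fun x => f x y z) ∈ LinearMap.range (mono (K := K) n d))
    (hy : ∀ x z, (fun y => f x y z) ∈ LinearMap.range (mono (K := K) n d))
    (hz : ∀ x y, (fun z => f x y z) ∈ LinearMap.range (mono (K := K) n d))
    (hscale : ∀ l : Kˣ, ∀ x y z, f (l * x) (l * y) (l * z) = f x y z) (x y z : K) :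
    f x y z = f 0 0 0 := by
  classical
  set T := mono (K := K) n d with hT
  obtain ⟨R, hR⟩ := T.rangeRestrict.exists_rightInverse_of_surjective T.range_rangeRestrict
  obtain ⟨L, hL⟩ := R.exists_extend
  have hTL : ∀ g ∈ LinearMap.range T, ∀ t, g t = ∑ m, L g m * t ^ wt m := by
    intro g hg t
    have h1 := congrArg Subtype.val (LinearMap.congr_fun hR ⟨g, hg⟩)
    have h2 : L g = R ⟨g, hg⟩ := LinearMap.congr_fun hL ⟨g, hg⟩
    rw [h2]
    exact (congrFun h1 t).symm
  let w : K → (Fin d → Option (Fin n)) → K := fun t m => L (fun j => if t = j then 1 else 0) m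
  have hw : ∀ (g : K → K) m, L g m = ∑ t, g t * w t m := fun g m => by
    rw [LinearMap.pi_apply_eq_sum_univ L g, Finset.sum_apply]
    rfl
  let A : (Fin d → Option (Fin n)) → (K → K → K) := fun c x y => L (fun t => f x y t) c
  have hA : ∀ c x, (fun y => A c x y) ∈ LinearMap.range T := fun c x => by
    have h1 : (fun y => A c x y) = ∑ t, w t c • fun y => f x y t := funext fun y => by
      simp [A, hw, Finset.sum_apply, mul_comm]
    rw [h1]
    exact Submodule.sum_mem _ fun t _ => Submodule.smul_mem _ _ (hy x t)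
  let B : (Fin d → Option (Fin n)) → (Fin d → Option (Fin n)) → K → K :=
    fun b c x => L (fun y => A c x y) b
  have hB : ∀ b c, B b c ∈ LinearMap.range T := fun b c => by
    have h1 : B b c = ∑ s, w s b • ∑ t, w t c • fun x => f x s t := funext fun x => by
      simp only [B, A, hw, Finset.sum_apply, Pi.smul_apply, smul_eq_mul, Finset.mul_sum,
        Finset.sum_mul]
      exact Finset.sum_congr rfl fun s _ => Finset.sum_congr rfl fun t _ => by ring
    rw [h1]
    exact Submodule.sum_mem _ fun s _ => Submodule.smul_mem _ _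
      (Submodule.sum_mem _ fun t _ => Submodule.smul_mem _ _ (hx s t))
  let C : (Fin d → Option (Fin n)) → (Fin d → Option (Fin n)) → (Fin d → Option (Fin n)) → K :=
    fun a b c => L (B b c) a
  have hexp : ∀ x y z, f x y z = ∑ c, ∑ b, ∑ a, C a b c * x ^ wt a * y ^ wt b * z ^ wt c := by
    intro x y z
    rw [hTL _ (hz x y) z]
    refine Finset.sum_congr rfl fun c _ => ?_
    change A c x y * z ^ wt c = _
    rw [hTL _ (hA c x) y, Finset.sum_mul]
    refine Finset.sum_congr rfl fun b _ => ?_
    change B b c x * y ^ wt b * z ^ wt c = _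
    rw [hTL _ (hB b c) x, Finset.sum_mul, Finset.sum_mul]
  have hchar : CharP K 2 := charP_of_injective_algebraMap (algebraMap (ZMod 2) K).injective 2
  have havg : ∀ x y z, f x y z = ∑ c, ∑ b, ∑ a,
      C a b c * x ^ wt a * y ^ wt b * z ^ wt c * ∑ l : Kˣ, (l : K) ^ (wt a + wt b + wt c) := by
    intro x y z
    have hone : (Fintype.card Kˣ : K) = 1 := by
      have h1 : Fintype.card Kˣ % 2 = 1 := by
        rw [Fintype.card_units, hK]
        have h2 : 2 ∣ 2 ^ n := dvd_pow_self 2 (by omega)
        have : 0 < 2 ^ n := pow_pos two_pos n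
        omega
      rw [CharP.natCast_eq_natCast' K 2 (show Fintype.card Kˣ ≡ 1 [MOD 2] from h1), Nat.cast_one]
    calc f x y z = ∑ _l : Kˣ, f x y z := by simp [hone]
      _ = ∑ l : Kˣ, ∑ c, ∑ b, ∑ a,
            C a b c * (l * x) ^ wt a * (l * y) ^ wt b * (l * z) ^ wt c :=
          Finset.sum_congr rfl fun l _ => by rw [← hexp, hscale]
      _ = _ := by
          rw [Finset.sum_comm]
          refine Finset.sum_congr rfl fun c _ => ?_
          rw [Finset.sum_comm]
          refine Finset.sum_congr rfl fun b _ => ?_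
          rw [Finset.sum_comm]
          refine Finset.sum_congr rfl fun a _ => ?_
          rw [Finset.mul_sum]
          refine Finset.sum_congr rfl fun l _ => ?_
          rw [mul_pow, mul_pow, mul_pow, pow_add, pow_add]
          ring
  rw [havg x y z, havg 0 0 0]
  refine Finset.sum_congr rfl fun c _ => Finset.sum_congr rfl fun b _ =>
    Finset.sum_congr rfl fun a _ => ?_
  by_cases h : wt a + wt b + wt c = 0
  · rw [show wt a = 0 by omega, show wt b = 0 by omega, show wt c = 0 by omega]
    simp
  · rw [sum_units_pow hK (not_dvd_wt hd a b c h), mul_zero, mul_zero]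

/-- The pair of digits removed in degree `i`. -/
def rem [NeZero n] (i : Fin n) : Finset (Fin n) := if i = 0 then {1} else {0, i}

/-- Scale invariant trilinear data obeying the shift rule vanish. -/
theorem trilinear_eq_zero (hn : 7 ≤ n) (hK : Fintype.card K = 2 ^ n)
    (B : K → K → K → ZMod 2) (ε : ZMod 2)
    (hmid : ∀ x y y' z, B x (y + y') z = B x y z + B x y' z)
    (hlast : ∀ x y z z', B x y (z + z') = B x y z + B x y z')
    (hzero : ∀ y z, B 0 y z = 0)
    (hscale : ∀ l : K, l ≠ 0 → ∀ x y z, B (l * x) (l * y) (l * z) = B x y z)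
    (hrule : ∀ x y z, B (x + y) y z = B x y z + ε * B y x z) (x y z : K) : B x y z = 0 := by
  classical
  have : NeZero n := ⟨by omega⟩
  have hchar : CharP K 2 := charP_of_injective_algebraMap (algebraMap (ZMod 2) K).injective 2
  have : ExpChar K 2 := ExpChar.prime Nat.prime_two
  choose β hβ using fun y =>
    exists_trace_eq ((AddMonoidHom.mk' (B 1 y) (hlast 1 y)).toZModLinearMap 2)
  have hβ' : ∀ y z, B 1 y z = Algebra.trace (ZMod 2) K (β y * z) := hβ
  have hadd : ∀ y y', β (y + y') = β y + β y' := fun y y' => eq_of_trace_eq fun z => by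
    rw [add_mul, map_add, ← hβ', ← hβ', ← hβ', hmid]
  obtain ⟨b, hb⟩ := exists_linear_eq hK ((AddMonoidHom.mk' β hadd).toZModLinearMap 2)
  have hb' : ∀ y, β y = ∑ i : Fin n, b i * y ^ 2 ^ (i : ℕ) := hb
  suffices hb0 : ∀ i, b i = 0 by
    by_cases hx : x = 0
    · rw [hx, hzero]
    · rw [← hscale x⁻¹ (inv_ne_zero hx), inv_mul_cancel₀ hx, hβ', hb']
      simp [hb0]
  have hone : ((1 : Fin n) : ℕ) = 1 := by
    rw [Fin.val_one']
    exact Nat.mod_eq_of_lt (by omega)
  have h10 : (1 : Fin n) ≠ 0 := fun h => by
    have := congrArg Fin.val h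
    rw [hone] at this
    simp at this
  have hrem : ∀ i : Fin n, val (rem i) = 2 ^ (i : ℕ) + 1 := fun i => by
    unfold rem
    split
    · next h => subst h; rw [val, Finset.sum_singleton, hone]; simp
    · next h => rw [val, Finset.sum_pair (Ne.symm h)]; simp [add_comm]
  have hremcard : ∀ i : Fin n, (rem i).card ≤ 2 := fun i => by
    unfold rem
    split
    · simp
    · exact Finset.card_le_two
  let Si : Fin n → Finset (Fin n) := fun i => (rem i)ᶜ
  let h : K → K := fun t => ∑ i, b i * t ^ val (Si i)
  have hval : ∀ i, val (Si i) + (2 ^ (i : ℕ) + 1) = 2 ^ n - 1 := fun i => by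
    rw [← hrem i]; exact val_compl _
  have hh : ∀ t z, B t 1 z = Algebra.trace (ZMod 2) K (h t * z) := by
    intro t z
    by_cases ht : t = 0
    · have h1 : h t = 0 := Finset.sum_eq_zero fun i _ => by
        have hpos : val (Si i) ≠ 0 := fun h0 => by
          have h2 : (Si i).card = 0 := by
            rw [Finset.card_eq_zero]
            exact val_injective (h0.trans (by simp [val]))
          have h3 := hremcard i
          simp only [Si, Finset.card_compl, Fintype.card_fin] at h2
          omega
        rw [ht, zero_pow hpos, mul_zero]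
      rw [h1, zero_mul, map_zero, ht, hzero]
    · rw [← hscale t⁻¹ (inv_ne_zero ht), inv_mul_cancel₀ ht, hβ', hb', Finset.sum_mul]
      simp only [h, Finset.sum_mul]
      refine congrArg _ (Finset.sum_congr rfl fun i _ => ?_)
      have h1 : t ^ (val (Si i) + (2 ^ (i : ℕ) + 1)) = 1 := by
        rw [hval, ← hK]
        exact FiniteField.pow_card_sub_one_eq_one t ht
      rw [mul_one, inv_pow, ← mul_assoc]
      rw [pow_add, pow_succ] at h1
      have h2 : t ^ val (Si i) = (t ^ 2 ^ (i : ℕ))⁻¹ * t⁻¹ := by
        field_simp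
        linear_combination h1
      rw [h2]
      ring
  set ε' : K := algebraMap (ZMod 2) K ε with hε'
  have hshift : ∀ t, h (t + 1) = h t + ε' * β t := fun t => eq_of_trace_eq fun z => by
    rw [add_mul, map_add, hε', ← Algebra.smul_def, smul_mul_assoc, map_smul, ← hh, ← hh, ← hβ',
      smul_eq_mul, hrule]
  let c : Finset (Fin n) → K := fun U => ∑ i, ((if U ⊆ Si i then b i else 0) -
    (if U = Si i then b i else 0) - (if U = {i} then ε' * b i else 0))
  have hc : ∀ U, c U = 0 := fun U => coeff_eq_zero hK c (fun t => by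
    simp only [c, Finset.sum_mul, sub_mul, ite_mul, zero_mul, Finset.sum_sub_distrib]
    have e1 : ∀ F : Finset (Fin n) → Fin n → K, ∑ U, ∑ i, F U i = ∑ i, ∑ U, F U i :=
      fun F => Finset.sum_comm
    simp only [e1]
    simp only [Finset.sum_ite_eq', Finset.mem_univ, if_true]
    have hexp : ∀ i, ∑ U, (if U ⊆ Si i then b i * t ^ val U else 0) =
        b i * (t + 1) ^ val (Si i) := fun i => by
      rw [← Finset.sum_filter, val, ← Finset.prod_pow_eq_pow_sum]
      simp only [add_pow_expChar_pow, one_pow]
      rw [Finset.prod_add, Finset.mul_sum]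
      refine Finset.sum_congr (by ext; simp) fun U _ => ?_
      rw [Finset.prod_const_one, mul_one, Finset.prod_pow_eq_pow_sum]
      rfl
    rw [Finset.sum_congr rfl fun i _ => hexp i]
    have h1 := hshift t
    rw [hb', Finset.mul_sum] at h1
    simp only [h] at h1
    rw [h1, add_sub_cancel_left, sub_eq_zero]
    refine Finset.sum_congr rfl fun i _ => ?_
    rw [val, Finset.sum_singleton, mul_assoc]) U
  have key : ∀ R : Finset (Fin n), R.card + 2 ≤ n →
      ∑ i ∈ Finset.univ.filter (fun i => rem i ⊆ R ∧ rem i ≠ R), b i = 0 := by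
    intro R hR
    rw [← hc Rᶜ, Finset.sum_filter]
    refine Finset.sum_congr rfl fun i _ => ?_
    have h1 : ¬ Rᶜ = {i} := fun h => by
      have := congrArg Finset.card h
      rw [Finset.card_compl, Fintype.card_fin, Finset.card_singleton] at this
      omega
    simp only [Si, Finset.compl_subset_compl, compl_inj_iff]
    rw [if_neg h1, sub_zero]
    by_cases hs : rem i ⊆ R
    · by_cases he : R = rem i
      · rw [if_pos hs, if_pos he, if_neg (fun h => h.2 he.symm), sub_self]
      · rw [if_pos hs, if_neg he, if_pos ⟨hs, fun h => he h.symm⟩, sub_zero]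
    · rw [if_neg hs, if_neg (fun h : R = rem i => hs (h ▸ subset_rfl)),
        if_neg (fun h => hs h.1), sub_zero]
  have hrem0 : rem (0 : Fin n) = {1} := if_pos rfl
  have hremi : ∀ i : Fin n, i ≠ 0 → rem i = {0, i} := fun i hi => if_neg hi
  -- the relations
  have e2 : ∀ i j : Fin n, i ≠ 0 → i ≠ 1 → j ≠ 0 → j ≠ 1 → i ≠ j → b i + b j = 0 := by
    intro i j hi hi1 hj hj1 hij
    have hR : ({0, i, j} : Finset (Fin n)).card = 3 := by
      rw [Finset.card_eq_three]
      exact ⟨0, i, j, hi.symm, hj.symm, hij, rfl⟩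
    have h1 := key {0, i, j} (by omega)
    rw [show Finset.univ.filter (fun l => rem l ⊆ {0, i, j} ∧ rem l ≠ {0, i, j}) = {i, j} from ?_,
      Finset.sum_pair hij] at h1
    · exact h1
    ext l
    have hne : rem l ≠ {0, i, j} := fun h => by
      have := hremcard l
      rw [h, hR] at this
      omega
    simp only [Finset.mem_filter, Finset.mem_univ, true_and, hne, ne_eq, not_false_eq_true, and_true]
    by_cases hl : l = 0
    · subst hl
      simp [hrem0, h10, hi1.symm, hj1.symm, hi.symm, hj.symm]
    · simp [hremi l hl, Finset.insert_subset_iff, hl]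
  have e3 : ∀ i j k : Fin n, i ≠ 0 → i ≠ 1 → j ≠ 0 → j ≠ 1 → k ≠ 0 → k ≠ 1 → i ≠ j → i ≠ k →
      j ≠ k → b i + (b j + b k) = 0 := by
    intro i j k hi hi1 hj hj1 hk hk1 hij hik hjk
    have hR : ({0, i, j, k} : Finset (Fin n)).card = 4 := by
      simp [hi.symm, hj.symm, hk.symm, hij, hik, hjk]
    have h1 := key {0, i, j, k} (by omega)
    rw [show Finset.univ.filter (fun l => rem l ⊆ {0, i, j, k} ∧ rem l ≠ {0, i, j, k}) = {i, j, k}
      from ?_, Finset.sum_insert (by simp [hij, hik]), Finset.sum_pair hjk] at h1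
    · exact h1
    ext l
    have hne : rem l ≠ {0, i, j, k} := fun h => by
      have := hremcard l
      rw [h, hR] at this
      omega
    simp only [Finset.mem_filter, Finset.mem_univ, true_and, hne, ne_eq, not_false_eq_true, and_true]
    by_cases hl : l = 0
    · subst hl
      simp [hrem0, h10, hi1.symm, hj1.symm, hk1.symm, hi.symm, hj.symm, hk.symm]
    · simp [hremi l hl, Finset.insert_subset_iff, hl]
  have e0 : ∀ i : Fin n, i ≠ 0 → i ≠ 1 → b 0 = 0 ∧ b 0 + (b 1 + b i) = 0 := by
    intro i hi hi1
    constructor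
    · have hR : ({1, i} : Finset (Fin n)).card = 2 := Finset.card_pair hi1.symm
      have h1 := key {1, i} (by omega)
      rw [show Finset.univ.filter (fun l => rem l ⊆ {1, i} ∧ rem l ≠ {1, i}) = {0} from ?_,
        Finset.sum_singleton] at h1
      · exact h1
      ext l
      simp only [Finset.mem_filter, Finset.mem_univ, true_and, Finset.mem_singleton]
      by_cases hl : l = 0
      · subst hl
        simp only [hrem0, iff_true]
        refine ⟨by simp, fun h => ?_⟩
        have := congrArg Finset.card h
        rw [hR, Finset.card_singleton] at this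
        omega
      · simp [hremi l hl, Finset.insert_subset_iff, hl, h10.symm, hi.symm]
    · have hR : ({0, 1, i} : Finset (Fin n)).card = 3 := by
        rw [Finset.card_eq_three]
        exact ⟨0, 1, i, h10.symm, hi.symm, hi1.symm, rfl⟩
      have h1 := key {0, 1, i} (by omega)
      rw [show Finset.univ.filter (fun l => rem l ⊆ {0, 1, i} ∧ rem l ≠ {0, 1, i}) = {0, 1, i}
        from ?_, Finset.sum_insert (by simp [h10.symm, hi.symm]), Finset.sum_pair hi1.symm] at h1
      · exact h1
      ext l
      have hne : rem l ≠ {0, 1, i} := fun h => by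
        have := hremcard l
        rw [h, hR] at this
        omega
      simp only [Finset.mem_filter, Finset.mem_univ, true_and, hne, ne_eq, not_false_eq_true, and_true]
      by_cases hl : l = 0
      · subst hl
        simp [hrem0]
      · simp [hremi l hl, Finset.insert_subset_iff, hl]
  -- solve
  have hbig : ∀ m : ℕ, ∀ hm : m < n, 2 ≤ m → (⟨m, hm⟩ : Fin n) ≠ 0 ∧ (⟨m, hm⟩ : Fin n) ≠ 1 :=
    fun m hm h2 => ⟨fun h => by have := congrArg Fin.val h; simp at this; omega,
      fun h => by have := congrArg Fin.val h; rw [hone] at this; simp at this; omega⟩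
  let i2 : Fin n := ⟨2, by omega⟩
  let i3 : Fin n := ⟨3, by omega⟩
  let i4 : Fin n := ⟨4, by omega⟩
  obtain ⟨a2, a2'⟩ := hbig 2 (by omega) le_rfl
  obtain ⟨a3, a3'⟩ := hbig 3 (by omega) (by omega)
  obtain ⟨a4, a4'⟩ := hbig 4 (by omega) (by omega)
  have d23 : i2 ≠ i3 := by simp [i2, i3, Fin.ext_iff]
  have d24 : i2 ≠ i4 := by simp [i2, i4, Fin.ext_iff]
  have d34 : i3 ≠ i4 := by simp [i3, i4, Fin.ext_iff]
  have hb2 : b i2 = 0 := by
    have h1 := e2 i3 i4 a3 a3' a4 a4' d34
    have h2 := e3 i2 i3 i4 a2 a2' a3 a3' a4 a4' d23 d24 d34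
    rwa [h1, add_zero] at h2
  intro i
  obtain ⟨h0, h01⟩ := e0 i2 a2 a2'
  rw [h0, hb2, zero_add, add_zero] at h01
  by_cases hi : i = 0
  · rw [hi, h0]
  by_cases hi1 : i = 1
  · rw [hi1, h01]
  by_cases hi2 : i2 = i
  · rw [← hi2, hb2]
  have h1 := e2 i2 i a2 a2' hi hi1 hi2
  rwa [hb2, zero_add] at h1

end CfsgLib.TransGL.SingerAlg
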