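import Cfsg.Agent.Lib.TransGL.Basic
import Cfsg.Agent.Lib.TransGL.Field
import Cfsg.Agent.Lib.TransGL.SingerAlg

/-!
# Consequences of a Singer cycle in the group (S4179)

No hyperplane form exists in dimension at least seven, and the subspaces attached to lines have
codimension at least a third of the dimension.
-/

set_option autoImplicit false

namespace CfsgLib.TransGL

open Module

variable {V : Type*} [AddCommGroup V] [Module (ZMod 2) V] {H : Subgroup (LAut V)}

/-- The hyperplane case is impossible from dimension seven on. -/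
theorem not_hyperForm [Finite V] {B : V → V → V → ZMod 2} {ε : ZMod 2} (hB : HyperForm H B ε)
    {n : ℕ} (hn : finrank (ZMod 2) V = n) (h7 : 7 ≤ n) (hp : (2 ^ n - 1).Prime) (g : LAut V)
    (hgH : g ∈ H) (hg : orderOf g = 2 ^ n - 1) : False := by
  obtain ⟨K, _, _, _, e, ζ, hK, hge, hζ⟩ := exists_field_model hn hp g hg
  have hscale : ∀ l : K, l ≠ 0 → ∀ x y z : K,
      B (e (l * x)) (e (l * y)) (e (l * z)) = B (e x) (e y) (e z) := by
    intro l hl
    obtain ⟨i, rfl⟩ := hζ l hl
    induction i with
    | zero => simp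
    | succ i ih =>
      intro x y z
      rw [pow_succ', mul_assoc, mul_assoc, mul_assoc, ← hge, ← hge, ← hge, hB.equiv g hgH,
        ih (pow_ne_zero _ fun h => hl (by rw [h, zero_pow (Nat.succ_ne_zero i)]))]
  have h0 := SingerAlg.trilinear_eq_zero h7 hK (fun x y z => B (e x) (e y) (e z)) ε
    (fun x y y' z => by simp only [map_add]; exact hB.add_mid _ _ _ _)
    (fun x y z z' => by simp only [map_add]; exact hB.add_last _ _ _ _)
    (fun y z => by simp only [map_zero]; exact hB.zero_first _ _)
    hscale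
    (fun x y z => by simp only [map_add]; exact hB.rule _ _ _)
  obtain ⟨x, y, z, hne⟩ := hB.nondeg
  exact hne (by simpa using h0 (e.symm x) (e.symm y) (e.symm z))

/-- The subspaces attached to lines have codimension at least a third of the dimension. -/
theorem le_three_mul_codim [Finite V] {X : V → V → Submodule (ZMod 2) V} {k : ℕ}
    (hX : XData H X k) {n : ℕ} (hn : finrank (ZMod 2) V = n) (hp : (2 ^ n - 1).Prime) (g : LAut V)
    (hgH : g ∈ H) (hg : orderOf g = 2 ^ n - 1) : n ≤ 3 * (n - k) := by
  classical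
  obtain ⟨K, _, _, _, e, ζ, hK, hge, hζ⟩ := exists_field_model hn hp g hg
  by_contra hlt
  push Not at hlt
  have hkn : k + 2 ≤ n := hn ▸ hX.add_two_le
  set d := n - k with hd
  let P : V → V → V → Prop := fun x y z => Indep2 x y ∧ z ∉ X x y
  -- the symmetries
  have hswap : ∀ x y z, P x y z → P y x z := fun x y z h =>
    ⟨h.1.swap, by rw [← hX.symm x y h.1]; exact h.2⟩
  have hrot : ∀ x y z, P x y z → P x z y := fun x y z h => by
    have hz0 : z ≠ 0 := fun e0 => h.2 (e0 ▸ zero_mem _)
    have hxz : x ≠ z := fun e0 => h.2 (e0 ▸ hX.mem_left x y h.1)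
    exact ⟨⟨h.1.1, hz0, hxz⟩, fun hy => h.2 (hX.plane x z y ⟨h.1.1, hz0, hxz⟩ h.1 hy)⟩
  have hmap : ∀ x y z, P (g x) (g y) (g z) ↔ P x y z := fun x y z => by
    have hi : Indep2 (g x) (g y) ↔ Indep2 x y := by
      simp only [Indep2, ne_eq, LinearEquiv.map_eq_zero_iff, EmbeddingLike.apply_eq_iff_eq]
    constructor
    · rintro ⟨h1, h2⟩
      refine ⟨hi.1 h1, fun h3 => h2 ?_⟩
      rw [← hX.map_eq g hgH x y (hi.1 h1)]
      exact Submodule.mem_map_of_mem h3
    · rintro ⟨h1, h2⟩
      refine ⟨hi.2 h1, fun h3 => h2 ?_⟩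
      rw [← hX.map_eq g hgH x y h1] at h3
      obtain ⟨w, hw, hwz⟩ := h3
      rwa [g.injective hwz] at hw
  let f : K → K → K → K := fun x y z => if P (e x) (e y) (e z) then 1 else 0
  have hfz : ∀ x y, (fun z => f x y z) ∈ LinearMap.range (SingerAlg.mono (K := K) n d) := by
    intro x y
    by_cases hxy : Indep2 (e x) (e y)
    · let W : Submodule (ZMod 2) V := X (e x) (e y)
      have hrank : finrank (ZMod 2) (V ⧸ W) = d := by
        have h1 := W.finrank_quotient_add_finrank
        have h2 : finrank (ZMod 2) W = k := hX.finrank_eq _ _ hxy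
        omega
      let b := Module.finBasisOfFinrankEq (ZMod 2) (V ⧸ W) hrank
      let φ : Fin d → Module.Dual (ZMod 2) K := fun i =>
        (b.coord i).comp (W.mkQ.comp (e : K →ₗ[ZMod 2] V))
      convert SingerAlg.indicator_mem hK φ using 1
      funext z
      have hchar : CharP K 2 :=
        charP_of_injective_algebraMap (algebraMap (ZMod 2) K).injective 2
      by_cases hz : e z ∈ W
      · have h1 : ∀ i, φ i z = 0 := fun i => by
          show b.coord i (W.mkQ (e z)) = 0
          rw [Submodule.mkQ_apply, (Submodule.Quotient.mk_eq_zero W).2 hz, map_zero]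
        have h2 : ¬ P (e x) (e y) (e z) := fun h => h.2 hz
        simp [f, h1, h2, CharTwo.add_self_eq_zero]
      · obtain ⟨i, hi⟩ : ∃ i, φ i z ≠ 0 := by
          by_contra h
          push Not at h
          exact hz ((Submodule.Quotient.mk_eq_zero W).1 (b.forall_coord_eq_zero_iff.1 h))
        have h1 : ∏ j, (1 + φ j z) = 0 := by
          refine Finset.prod_eq_zero (Finset.mem_univ i) ?_
          rw [(zmod_two_cases (φ i z)).resolve_left hi]
          decide
        have h2 : P (e x) (e y) (e z) := ⟨hxy, hz⟩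
        simp [f, h1, h2]
    · have h1 : (fun z => f x y z) = 0 := funext fun z => if_neg fun h => hxy h.1
      rw [h1]
      exact zero_mem _
  have hiff : ∀ {p q : Prop} [Decidable p] [Decidable q], (p ↔ q) →
      (if p then (1 : K) else 0) = if q then 1 else 0 := fun h => if_congr h rfl rfl
  have hfx : ∀ y z, (fun x => f x y z) ∈ LinearMap.range (SingerAlg.mono (K := K) n d) :=
    fun y z => by
      have h1 : (fun x => f x y z) = fun x => f y z x := funext fun x =>
        hiff ⟨fun h => hrot _ _ _ (hswap _ _ _ h), fun h => hswap _ _ _ (hrot _ _ _ h)⟩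
      rw [h1]
      exact hfz y z
  have hfy : ∀ x z, (fun y => f x y z) ∈ LinearMap.range (SingerAlg.mono (K := K) n d) :=
    fun x z => by
      have h1 : (fun y => f x y z) = fun y => f x z y := funext fun y =>
        hiff ⟨hrot _ _ _, hrot _ _ _⟩
      rw [h1]
      exact hfz x z
  have hscale : ∀ i : ℕ, ∀ x y z : K, f (ζ ^ i * x) (ζ ^ i * y) (ζ ^ i * z) = f x y z := by
    intro i
    induction i with
    | zero => simp
    | succ i ih =>
      intro x y z
      refine Eq.trans (hiff ?_) (ih x y z)
      rw [pow_succ', mul_assoc, mul_assoc, mul_assoc, ← hge, ← hge, ← hge, hmap]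
  have hconst : ∀ x y z, f x y z = f 0 0 0 := SingerAlg.eq_const (by omega) hK hlt f hfx hfy hfz
    fun l x y z => by
      obtain ⟨i, hi⟩ := hζ l l.ne_zero
      rw [hi]
      exact hscale i x y z
  -- a triple off the subspace
  have hV : Nontrivial V := Module.nontrivial_of_finrank_pos (R := ZMod 2) (by omega)
  obtain ⟨a, ha⟩ := exists_ne (0 : V)
  obtain ⟨c, hc⟩ := exists_indep (by omega) ha
  have hne : X a c ≠ ⊤ := fun h => by
    have h1 := hX.finrank_eq a c hc
    rw [h, finrank_top] at h1
    omega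
  obtain ⟨w, -, hw⟩ := SetLike.exists_of_lt (lt_top_iff_ne_top.2 hne)
  have h1 := hconst (e.symm a) (e.symm c) (e.symm w)
  have h2 : P (e (e.symm a)) (e (e.symm c)) (e (e.symm w)) := by
    simp only [LinearEquiv.apply_symm_apply]
    exact ⟨hc, hw⟩
  have h3 : ¬ P (e (0 : K)) (e 0) (e 0) := fun h => h.1.2.2 rfl
  simp only [f] at h1
  rw [if_pos h2, if_neg h3] at h1
  exact one_ne_zero h1

end CfsgLib.TransGL
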