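import Cfsg.Agent.Lib.TransGL.Field
import Cfsg.Agent.Lib.Perm.PrimeDegree

/-!
# Transitive linear groups over the field with two elements: the Singer cycle
-/

set_option autoImplicit false
set_option linter.unusedSectionVars false
set_option linter.style.haveILetI false

namespace CfsgLib.TransGL

open Module

variable {V : Type*} [AddCommGroup V] [Module (ZMod 2) V] [Finite V] {n : ℕ}

theorem prime_exp (hp : (2 ^ n - 1).Prime) : n.Prime ∧ 3 ≤ 2 ^ n - 1 := by
  have hn2 : 2 ≤ n := by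
    by_contra h
    interval_cases n <;> norm_num at hp
  refine ⟨(Nat.prime_of_pow_sub_one_prime (by omega) hp).2, ?_⟩
  have := Nat.pow_le_pow_right two_pos hn2
  omega

/-- A power of `g` in the field model. -/
theorem pow_apply_model {K : Type} [Field K] [Algebra (ZMod 2) K] (e : K ≃ₗ[ZMod 2] V) (ζ : K)
    (g : LAut V) (hgz : ∀ x, g (e x) = e (ζ * x)) (i : ℕ) (x : K) : (g ^ i) (e x) = e (ζ ^ i * x) := by
  induction i generalizing x with
  | zero => simp
  | succ i ih => rw [pow_succ, LinearEquiv.mul_apply, hgz, ih, pow_succ, mul_assoc]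

/-- The exponents by which the normalizer acts on a Singer cycle are powers of two; the cycle is
its own centralizer. -/
theorem conj_exponent (hn : finrank (ZMod 2) V = n) (hp : (2 ^ n - 1).Prime) (g : LAut V)
    (hg : orderOf g = 2 ^ n - 1) (h : LAut V) (k : ℕ) (hk : h * g * h⁻¹ = g ^ k) :
    (∃ j : ℕ, g ^ k = g ^ (2 ^ j)) ∧ (g ^ k = g → h ∈ Subgroup.zpowers g) := by
  obtain ⟨K, iK, iF, iA, e, ζ, hcard, hgz, hgen⟩ := exists_field_model hn hp g hg
  have hcomm : h * g = g ^ k * h := by rw [← hk]; group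
  set k' := k + (2 ^ n - 1) with hk'
  have hkk : g ^ k' = g ^ k := by rw [hk', pow_add, ← hg, pow_orderOf_eq_one, mul_one]
  let h' : K → K := fun x => e.symm (h (e x))
  have hstep : ∀ x, h' (ζ * x) = ζ ^ k' * h' x := fun x => by
    show e.symm (h (e (ζ * x))) = ζ ^ k' * e.symm (h (e x))
    have h1 : h (g (e x)) = (g ^ k') (h (e x)) := by
      rw [← LinearEquiv.mul_apply, hcomm, LinearEquiv.mul_apply, hkk]
    rw [← hgz, h1]
    conv_lhs => rw [← e.apply_symm_apply (h (e x))]
    rw [pow_apply_model e ζ g hgz, e.symm_apply_apply]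
  set a := h' 1 with ha
  have hk'0 : k' ≠ 0 := by have := hp.two_le; omega
  have hform : ∀ x, h' x = a * x ^ k' := by
    intro x
    by_cases hx : x = 0
    · subst hx; simp [h', zero_pow hk'0]
    obtain ⟨i, rfl⟩ := hgen x hx
    clear hx
    induction i with
    | zero => simp [ha]
    | succ i ih => rw [pow_succ', hstep, ih, mul_pow]; ring
  have ha0 : a ≠ 0 := by
    intro e0
    have h1 : h (e 1) = h 0 := by
      rw [map_zero]
      have : e.symm (h (e 1)) = 0 := e0
      exact e.symm.map_eq_zero_iff.1 this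
    exact one_ne_zero (e.map_eq_zero_iff.1 (h.injective h1))
  have hadd : ∀ x y : K, (x + y) ^ k' = x ^ k' + y ^ k' := fun x y => by
    refine mul_left_cancel₀ ha0 ?_
    rw [mul_add, ← hform, ← hform, ← hform]
    show e.symm (h (e (x + y))) = e.symm (h (e x)) + e.symm (h (e y))
    rw [map_add, map_add, map_add]
  let σr : K →+* K :=
    { toFun := fun x => x ^ k'
      map_one' := one_pow _
      map_mul' := fun x y => mul_pow x y k'
      map_zero' := zero_pow hk'0
      map_add' := hadd }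
  let σ : K →ₐ[ZMod 2] K :=
    { toRingHom := σr
      commutes' := fun c => RingHom.congr_fun
        (Subsingleton.elim (σr.comp (algebraMap (ZMod 2) K)) (algebraMap (ZMod 2) K)) c }
  haveI : Finite K := Finite.of_fintype K
  obtain ⟨j, hj⟩ := (FiniteField.bijective_frobeniusAlgHom_pow (ZMod 2) K).2 σ
  have hfrob : ∀ (i : ℕ) (x : K), (FiniteField.frobeniusAlgHom (ZMod 2) K ^ i) x = x ^ (2 ^ i) := by
    intro i x
    induction i generalizing x with
    | zero => simp
    | succ i ih =>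
      rw [pow_succ, AlgHom.mul_apply, ih, FiniteField.coe_frobeniusAlgHom, ZMod.card, ← pow_mul,
        ← pow_succ']
  have hζk : ζ ^ k' = ζ ^ (2 ^ (j : ℕ)) := by
    rw [← hfrob]
    exact (DFunLike.congr_fun hj ζ).symm
  refine ⟨⟨j, LinearEquiv.ext fun v => ?_⟩, fun hkg => ?_⟩
  · rw [← hkk, ← e.apply_symm_apply v, pow_apply_model e ζ g hgz, pow_apply_model e ζ g hgz, hζk]
  · have hz1 : ζ ^ k' = ζ := by
      have h1 : (g ^ k') (e 1) = g (e 1) := by rw [hkk, hkg]
      rw [pow_apply_model e ζ g hgz, hgz, mul_one, mul_one] at h1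
      exact e.injective h1
    have hlin : ∀ x, h' x = a * x := fun x => by
      rw [hform]
      by_cases hx : x = 0
      · subst hx; rw [zero_pow hk'0]
      obtain ⟨i, rfl⟩ := hgen x hx
      rw [← pow_mul, mul_comm i, pow_mul, hz1]
    obtain ⟨i, hi⟩ := hgen a ha0
    have : h = g ^ i := LinearEquiv.ext fun v => by
      rw [← e.apply_symm_apply v, pow_apply_model e ζ g hgz]
      have h1 : e.symm (h (e (e.symm v))) = a * e.symm v := hlin _
      rw [hi] at h1
      rw [← h1]; simp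
    rw [this]
    exact pow_mem (Subgroup.mem_zpowers g) i

/-- The normalizer of a Singer cycle of prime order has order dividing `n * p`. -/
theorem card_normalizer (hn : finrank (ZMod 2) V = n) (hp : (2 ^ n - 1).Prime) (g : LAut V)
    (hg : orderOf g = 2 ^ n - 1) (H : Subgroup (LAut V)) (hgH : g ∈ H) :
    ∃ d, d ∣ n ∧ Nat.card ↥(H ⊓ Subgroup.normalizer (Subgroup.zpowers g : Set (LAut V))) =
      (2 ^ n - 1) * d := by
  classical
  obtain ⟨hnp, hp3⟩ := prime_exp hp
  set p := 2 ^ n - 1 with hpdef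
  haveI := Fact.mk hp
  set N := H ⊓ Subgroup.normalizer (Subgroup.zpowers g : Set (LAut V))
  haveI : Finite (LAut V) := Finite.of_injective (fun f => (f : V → V)) DFunLike.coe_injective
  have hex : ∀ x : N, ∃ k : (ZMod p)ˣ, (x : LAut V) * g * (x : LAut V)⁻¹ = g ^ (k : ZMod p).val := by
    intro x
    have h1 := (Subgroup.mem_normalizer_iff.1 (Subgroup.mem_inf.1 x.2).2 g).1 (Subgroup.mem_zpowers g)
    obtain ⟨k, hk⟩ := (Submonoid.mem_powers_iff _ _).1 (mem_powers_iff_mem_zpowers.2 h1)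
    have hk0 : (k : ZMod p) ≠ 0 := fun e0 => by
      rw [ZMod.natCast_eq_zero_iff] at e0
      obtain ⟨c, rfl⟩ := e0
      rw [pow_mul, ← hg, pow_orderOf_eq_one, one_pow, eq_comm, conj_eq_one_iff] at hk
      rw [hk, orderOf_one] at hg
      omega
    refine ⟨Units.mk0 _ hk0, ?_⟩
    rw [Units.val_mk0, ZMod.val_natCast, ← hg, pow_mod_orderOf, hk]
  choose χ hχ using hex
  have huniq : ∀ (k : (ZMod p)ˣ) (m : ℕ), g ^ (k : ZMod p).val = g ^ m → (k : ZMod p) = m := by
    intro k m h
    rw [pow_eq_pow_iff_modEq, hg, ← ZMod.natCast_eq_natCast_iff, ZMod.natCast_zmod_val] at h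
    exact h
  let φ : N →* (ZMod p)ˣ := MonoidHom.mk' χ fun x y => by
    have h1 : ((x * y : N) : LAut V) * g * ((x * y : N) : LAut V)⁻¹ =
        g ^ ((χ x : ZMod p).val * (χ y : ZMod p).val) := by
      rw [Subgroup.coe_mul, mul_inv_rev,
        show (x : LAut V) * y * g * ((y : LAut V)⁻¹ * (x : LAut V)⁻¹) =
          (x : LAut V) * ((y : LAut V) * g * (y : LAut V)⁻¹) * (x : LAut V)⁻¹ by group,
        hχ y, ← conj_pow, hχ x, ← pow_mul]
    rw [hχ] at h1
    refine Units.ext ?_
    rw [huniq _ _ h1, Nat.cast_mul, ZMod.natCast_zmod_val, ZMod.natCast_zmod_val, Units.val_mul]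
  have hker : φ.ker = (Subgroup.zpowers g).subgroupOf N := by
    ext x
    rw [MonoidHom.mem_ker, Subgroup.mem_subgroupOf]
    constructor
    · intro hx
      refine (conj_exponent hn hp g hg x _ (hχ x)).2 ?_
      have h1 : χ x = 1 := hx
      rw [h1, Units.val_one, ZMod.val_one, pow_one]
    · intro hx
      show χ x = 1
      refine Units.ext ?_
      rw [huniq (χ x) 1 ?_, Nat.cast_one, Units.val_one]
      rw [← hχ x, pow_one]
      obtain ⟨i, hi⟩ := Subgroup.mem_zpowers_iff.1 hx
      rw [← hi]; group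
  have hgN : Subgroup.zpowers g ≤ N :=
    le_inf (Subgroup.zpowers_le.2 hgH) Subgroup.le_normalizer
  have h2 : (2 : ZMod p) ≠ 0 := by
    have h' : ((2 : ℕ) : ZMod p) ≠ 0 := by
      rw [Ne, ZMod.natCast_eq_zero_iff]
      intro hd
      have := Nat.le_of_dvd two_pos hd
      omega
    exact_mod_cast h'
  set u := Units.mk0 (2 : ZMod p) h2
  have hu : u ^ n = 1 := by
    refine Units.ext ?_
    have h1 : ((2 ^ n : ℕ) : ZMod p) = ((1 : ℕ) : ZMod p) := by
      rw [show 2 ^ n = p + 1 by have := Nat.two_pow_pos n; omega, Nat.cast_add, ZMod.natCast_self,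
        zero_add]
    simpa [u] using h1
  have hrange : φ.range ≤ Subgroup.zpowers u := by
    rintro _ ⟨x, rfl⟩
    obtain ⟨j, hj⟩ := (conj_exponent hn hp g hg x _ (hχ x)).1
    have h1 := huniq _ _ hj
    have : φ x = u ^ j := Units.ext (by
      show (χ x : ZMod p) = ((u ^ j : (ZMod p)ˣ) : ZMod p)
      rw [h1, Units.val_pow_eq_pow_val, Units.val_mk0, Nat.cast_pow, Nat.cast_ofNat])
    rw [this]
    exact pow_mem (Subgroup.mem_zpowers u) j
  refine ⟨Nat.card φ.range, (Subgroup.card_dvd_of_le hrange).trans ?_, ?_⟩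
  · rw [Nat.card_zpowers]
    exact orderOf_dvd_of_pow_eq_one hu
  · rw [← φ.ker.card_mul_index, hker, Nat.card_congr (Subgroup.subgroupOfEquivOfLe hgN).toEquiv,
      Nat.card_zpowers, hg, ← hker, Subgroup.index_ker]

/-- A group transitive on nonzero vectors contains a Singer cycle of prime order. -/
theorem exists_singer (hn : finrank (ZMod 2) V = n) (hp : (2 ^ n - 1).Prime) (H : Subgroup (LAut V))
    (htr : ∀ v w : V, v ≠ 0 → w ≠ 0 → ∃ h ∈ H, h v = w) :
    ∃ g ∈ H, orderOf g = 2 ^ n - 1 := by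
  classical
  haveI : Module.Finite (ZMod 2) V := Module.Finite.of_finite
  haveI : Finite (LAut V) := Finite.of_injective (fun f => (f : V → V)) DFunLike.coe_injective
  haveI := Fact.mk hp
  haveI := Fintype.ofFinite V
  obtain ⟨-, hp3⟩ := prime_exp hp
  have hV : Nat.card V = 2 ^ n := by
    rw [Module.natCard_eq_pow_finrank (K := ZMod 2), Nat.card_zmod, hn]
  obtain ⟨v, hv⟩ : ∃ v : V, v ≠ 0 := by
    by_contra h
    push Not at h
    haveI : Subsingleton V := ⟨fun a b => by rw [h a, h b]⟩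
    have := Nat.card_of_subsingleton (0 : V)
    omega
  have horb : (MulAction.orbit H v) = {w : V | w ≠ 0} := by
    ext w
    constructor
    · rintro ⟨h, rfl⟩
      exact fun e0 => hv ((h : LAut V).map_eq_zero_iff.1 e0)
    · intro hw
      obtain ⟨h, hh, e0⟩ := htr v w hv hw
      exact ⟨⟨h, hh⟩, e0⟩
  have hcard : (MulAction.stabilizer H v).index = 2 ^ n - 1 := by
    rw [MulAction.index_stabilizer, horb, show {w : V | w ≠ 0} = ({0} : Set V)ᶜ from rfl,
      Set.ncard_compl, Set.ncard_singleton, hV]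
  obtain ⟨g, hg⟩ := exists_prime_orderOf_dvd_card' (G := H) (2 ^ n - 1)
    (hcard ▸ Subgroup.index_dvd_card _)
  exact ⟨g, g.2, by rw [Subgroup.orderOf_coe, hg]⟩

/-- The three possibilities for a group transitive on nonzero vectors. -/
theorem trichotomy (hn : finrank (ZMod 2) V = n) (hp : (2 ^ n - 1).Prime) (H : Subgroup (LAut V))
    (htr : ∀ v w : V, v ≠ 0 → w ≠ 0 → ∃ h ∈ H, h v = w) :
    (IsCyclic ↥H ∧ Nat.card ↥H = 2 ^ n - 1) ∨
    (Nat.card ↥H = n * (2 ^ n - 1) ∧ ∃ C, C ≤ H ∧ (C.subgroupOf H).Normal ∧ IsCyclic ↥C ∧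
      Nat.card ↥C = 2 ^ n - 1) ∨
    (Pair2 H ∧ ∃ g ∈ H, orderOf g = 2 ^ n - 1) := by
  classical
  haveI : Module.Finite (ZMod 2) V := Module.Finite.of_finite
  haveI : Finite (LAut V) := Finite.of_injective (fun f => (f : V → V)) DFunLike.coe_injective
  haveI := Fact.mk hp
  obtain ⟨hnp, hp3⟩ := prime_exp hp
  obtain ⟨g, hgH, hg⟩ := exists_singer hn hp H htr
  by_cases hnorm : ∀ h ∈ H, h * g * h⁻¹ ∈ Subgroup.zpowers g
  · have hle : H ≤ Subgroup.normalizer (Subgroup.zpowers g : Set (LAut V)) := by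
      intro h hh
      have hsub : (Subgroup.zpowers g).map (MulAut.conj h).toMonoidHom ≤ Subgroup.zpowers g := by
        rw [MonoidHom.map_zpowers]
        exact Subgroup.zpowers_le.2 (hnorm h hh)
      have heq := Subgroup.eq_of_le_of_card_ge hsub
        (le_of_eq (Subgroup.card_map_of_injective (MulAut.conj h).injective).symm)
      rw [Subgroup.mem_normalizer_iff]
      intro x
      constructor
      · intro hx
        exact hsub ⟨x, hx, rfl⟩
      · intro hx
        have hx' : h * x * h⁻¹ ∈ (Subgroup.zpowers g).map (MulAut.conj h).toMonoidHom := by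
          rw [heq]; exact hx
        obtain ⟨y, hy, e0⟩ := hx'
        rwa [← (MulAut.conj h).injective e0]
    obtain ⟨d, hd, hcard⟩ := card_normalizer hn hp g hg H hgH
    rw [inf_eq_left.2 hle] at hcard
    rcases hnp.eq_one_or_self_of_dvd d hd with rfl | rfl
    · left
      rw [mul_one] at hcard
      exact ⟨isCyclic_of_prime_card (p := 2 ^ n - 1) hcard, hcard⟩
    · right; left
      refine ⟨by rw [hcard, mul_comm], Subgroup.zpowers g, Subgroup.zpowers_le.2 hgH, ?_,
        inferInstance, by rw [Nat.card_zpowers, hg]⟩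
      exact Subgroup.normal_subgroupOf_iff_le_normalizer (Subgroup.zpowers_le.2 hgH) |>.2 hle
  refine Or.inr (Or.inr ⟨?_, g, hgH, hg⟩)
  let α := {v : V // v ≠ 0}
  haveI : Fintype α := Fintype.ofFinite α
  let ρ : H →* Equiv.Perm α :=
    { toFun := fun h =>
        { toFun := fun v => ⟨(h : LAut V) v.1, fun e0 => v.2 ((h : LAut V).map_eq_zero_iff.1 e0)⟩
          invFun := fun v => ⟨(h : LAut V).symm v.1, fun e0 =>
            v.2 ((h : LAut V).symm.map_eq_zero_iff.1 e0)⟩
          left_inv := fun v => Subtype.ext ((h : LAut V).symm_apply_apply v.1)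
          right_inv := fun v => Subtype.ext ((h : LAut V).apply_symm_apply v.1) }
      map_one' := Equiv.ext fun v => Subtype.ext rfl
      map_mul' := fun x y => Equiv.ext fun v => Subtype.ext rfl }
  have hρ : ∀ (h : H) (v : α), ((ρ h v : α) : V) = (h : LAut V) v.1 := fun h v => rfl
  have hinj : Function.Injective ρ := by
    intro x y hxy
    refine Subtype.ext (LinearEquiv.ext fun v => ?_)
    by_cases hv : v = 0
    · rw [hv, map_zero, map_zero]
    · exact congrArg (fun f : Equiv.Perm α => ((f ⟨v, hv⟩ : α) : V)) hxy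
  have hα : Fintype.card α = 2 ^ n - 1 := by
    haveI := Fintype.ofFinite V
    rw [Fintype.card_subtype_compl, Fintype.card_subtype_eq, ← Nat.card_eq_fintype_card,
      Module.natCard_eq_pow_finrank (K := ZMod 2), Nat.card_zmod, hn]
  haveI : MulAction.IsPretransitive ρ.range α := ⟨fun a b => by
    obtain ⟨h, hh, e0⟩ := htr a.1 b.1 a.2 b.2
    exact ⟨⟨ρ ⟨h, hh⟩, _, rfl⟩, Subtype.ext e0⟩⟩
  set σ : ρ.range := ρ.rangeRestrict ⟨g, hgH⟩ with hσdef
  have hσ : orderOf σ = 2 ^ n - 1 := by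
    rw [hσdef, orderOf_injective ρ.rangeRestrict (fun x y e0 =>
      hinj (congrArg Subtype.val e0)), ← Subgroup.orderOf_coe]
    exact hg
  have hns : ¬ Group.IsSolvable ρ.range := by
    intro hs
    refine hnorm fun h hh => ?_
    obtain ⟨a, ha⟩ : ∃ a : V, a ≠ 0 := by
      by_contra h0
      push Not at h0
      haveI : IsEmpty α := ⟨fun v => v.2 (h0 v.1)⟩
      rw [Fintype.card_eq_zero] at hα
      omega
    obtain ⟨e, he, -⟩ := CfsgLib.Perm.exists_isCoord hα hσ (⟨a, ha⟩ : α)
    obtain ⟨A, B, hAB⟩ := CfsgLib.Perm.affine_of_isSolvable hα hs hσ he (ρ.rangeRestrict ⟨h, hh⟩)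
    set γ := ρ.rangeRestrict ⟨h, hh⟩
    have hconj : γ * σ * γ⁻¹ = σ ^ A.val := by
      refine Subtype.ext (Equiv.ext fun v => ?_)
      obtain ⟨i, rfl⟩ := e.surjective v
      obtain ⟨j, hj⟩ : ∃ j, γ • e j = e i := by
        refine ⟨e.symm (γ⁻¹ • e i), ?_⟩
        rw [Equiv.apply_symm_apply, smul_inv_smul]
      show (γ * σ * γ⁻¹) • e i = (σ ^ A.val) • e i
      conv_lhs => rw [← hj]
      rw [mul_smul, inv_smul_smul, mul_smul, he, hAB, he.pow_smul, ZMod.natCast_val, ZMod.cast_id]
      have hi : i = A * j + B := e.injective (by rw [← hj, hAB])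
      rw [hi]
      congr 1
      ring
    have h1 : ρ (⟨h, hh⟩ * ⟨g, hgH⟩ * (⟨h, hh⟩ : H)⁻¹) = ρ ((⟨g, hgH⟩ : H) ^ A.val) := by
      have h2 := congrArg Subtype.val hconj
      rw [map_mul, map_mul, map_inv, map_pow]
      exact h2
    have h3 := congrArg Subtype.val (hinj h1)
    simp only [Subgroup.coe_mul, InvMemClass.coe_inv, SubmonoidClass.coe_pow] at h3
    rw [h3]
    exact pow_mem (Subgroup.mem_zpowers g) _
  have hm := CfsgLib.Perm.two_transitive hα hns
  intro a b c e hab hce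
  have h2 : ∀ {a b c d : α}, a ≠ b → c ≠ d → ∃ g : ρ.range, g • a = c ∧ g • b = d :=
    MulAction.is_two_pretransitive_iff.1 hm
  obtain ⟨⟨_, h, rfl⟩, e1, e2⟩ := h2
    (a := (⟨a, hab.1⟩ : α)) (b := ⟨b, hab.2.1⟩) (c := ⟨c, hce.1⟩)
    (d := ⟨e, hce.2.1⟩) (fun e0 => hab.2.2 (congrArg Subtype.val e0))
    (fun e0 => hce.2.2 (congrArg Subtype.val e0))
  exact ⟨h, h.2, congrArg Subtype.val e1, congrArg Subtype.val e2⟩

/-- The groups of the statement are transitive. -/
theorem transitive_of_cases (hn : finrank (ZMod 2) V = n) (hp : (2 ^ n - 1).Prime)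
    (H : Subgroup (LAut V))
    (hH : (IsCyclic ↥H ∧ Nat.card ↥H = 2 ^ n - 1) ∨
      (Nat.card ↥H = n * (2 ^ n - 1) ∧ ∃ C, C ≤ H ∧ (C.subgroupOf H).Normal ∧ IsCyclic ↥C ∧
        Nat.card ↥C = 2 ^ n - 1) ∨ H = ⊤) :
    ∀ v w : V, v ≠ 0 → w ≠ 0 → ∃ h ∈ H, h v = w := by
  classical
  haveI : Module.Finite (ZMod 2) V := Module.Finite.of_finite
  haveI : Finite (LAut V) := Finite.of_injective (fun f => (f : V → V)) DFunLike.coe_injective
  haveI := Fact.mk hp
  intro v w hv hw
  by_cases hdvd : 2 ^ n - 1 ∣ Nat.card H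
  · obtain ⟨g, hg⟩ := exists_prime_orderOf_dvd_card' (G := H) (2 ^ n - 1) hdvd
    obtain ⟨K, iK, iF, iA, e, ζ, hcard, hgz, hgen⟩ :=
      exists_field_model hn hp (g : LAut V) (by rw [Subgroup.orderOf_coe, hg])
    obtain ⟨i, hi⟩ := hgen (e.symm w / e.symm v)
      (div_ne_zero (fun e0 => hw (e.symm.map_eq_zero_iff.1 e0))
        (fun e0 => hv (e.symm.map_eq_zero_iff.1 e0)))
    refine ⟨(g : LAut V) ^ i, pow_mem g.2 i, ?_⟩
    conv_lhs => rw [← e.apply_symm_apply v]
    rw [pow_apply_model e ζ _ hgz, ← hi, div_mul_cancel₀ _ (fun e0 => hv (e.symm.map_eq_zero_iff.1 e0)),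
      e.apply_symm_apply]
  · obtain rfl : H = ⊤ := by
      rcases hH with ⟨-, h⟩ | ⟨h, -⟩ | h
      · exact absurd (h ▸ dvd_rfl) hdvd
      · exact absurd (h ▸ dvd_mul_left _ _) hdvd
      · exact h
    by_cases hvw : v = w
    · exact ⟨1, trivial, hvw⟩
    obtain ⟨φ, h1, h2⟩ : ∃ φ : Module.Dual (ZMod 2) V, φ v = 1 ∧ φ w = 1 := by
      have hone : ∀ u : V, u ≠ 0 → ∃ φ : Module.Dual (ZMod 2) V, φ u = 1 := fun u hu => by
        by_contra h0
        push Not at h0
        exact hu ((Module.forall_dual_apply_eq_zero_iff (ZMod 2) u).1 fun φ =>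
          (by decide : ∀ d : ZMod 2, d ≠ 1 → d = 0) _ (h0 φ))
      obtain ⟨φ₁, a1⟩ := hone v hv
      obtain ⟨φ₂, a2⟩ := hone w hw
      have hd : ∀ d : ZMod 2, d = 0 ∨ d = 1 := by decide
      rcases hd (φ₁ w) with b1 | b1
      · rcases hd (φ₂ v) with b2 | b2
        · exact ⟨φ₁ + φ₂, by simp [a1, b2], by simp [a2, b1]⟩
        · exact ⟨φ₂, b2, a2⟩
      · exact ⟨φ₁, a1, b1⟩
    let f : V →ₗ[ZMod 2] V := LinearMap.id + φ.smulRight (v + w)
    have hf : ∀ x, f x = x + φ x • (v + w) := fun x => rfl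
    have hinv : ∀ x, f (f x) = x := fun x => by
      rw [hf, hf, map_add, map_smul, map_add, h1, h2, show (1 : ZMod 2) + 1 = 0 from by decide,
        smul_zero, add_zero, add_assoc, ← add_smul, CharTwo.add_self_eq_zero, zero_smul, add_zero]
    refine ⟨LinearEquiv.ofBijective f (Function.Involutive.bijective hinv), trivial, ?_⟩
    show f v = w
    rw [hf, h1, one_smul, ← add_assoc, show v + v = 0 from by
      rw [← two_smul (ZMod 2) v, show (2 : ZMod 2) = 0 from by decide, zero_smul], zero_add]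

/-- For `n = 5` the stabilizer of two vectors has order divisible by seven. -/
theorem seven_dvd_pstab (hn : finrank (ZMod 2) V = 5) {H : Subgroup (LAut V)} (h2 : Pair2 H)
    (a b : V) (hab : Indep2 a b) : 7 ∣ Nat.card (pstab H a b) := by
  classical
  haveI : Module.Finite (ZMod 2) V := Module.Finite.of_finite
  haveI : Finite (LAut V) := Finite.of_injective (fun f => (f : V → V)) DFunLike.coe_injective
  haveI := Fintype.ofFinite V
  have hp : (2 ^ 5 - 1).Prime := by norm_num
  have hV : Nat.card V = 32 := by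
    rw [Module.natCard_eq_pow_finrank (K := ZMod 2), Nat.card_zmod, hn]; norm_num
  -- the count
  have horb : MulAction.orbit H ((a, b) : V × V) = {q : V × V | Indep2 q.1 q.2} := by
    ext q
    constructor
    · rintro ⟨h, rfl⟩
      exact ⟨fun e0 => hab.1 ((h : LAut V).map_eq_zero_iff.1 e0),
        fun e0 => hab.2.1 ((h : LAut V).map_eq_zero_iff.1 e0),
        fun e0 => hab.2.2 ((h : LAut V).injective e0)⟩
    · intro hq
      obtain ⟨h, hh, e1, e2⟩ := h2 a b q.1 q.2 hab hq
      exact ⟨⟨h, hh⟩, Prod.ext e1 e2⟩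
  have hpairs : ({q : V × V | Indep2 q.1 q.2}).ncard = 930 := by
    rw [Set.ncard_eq_toFinset_card', show ({q : V × V | Indep2 q.1 q.2}).toFinset =
      (Finset.univ.erase (0 : V)).offDiag from by
        ext q
        rw [Set.mem_toFinset, Set.mem_ofPred_eq, Finset.mem_offDiag, Finset.mem_erase, Finset.mem_erase]
        simp [Indep2], Finset.offDiag_card, Finset.card_erase_of_mem (Finset.mem_univ _),
      Finset.card_univ, ← Nat.card_eq_fintype_card, hV]
  set s := Nat.card (pstab H a b) with hs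
  have hstab : Nat.card (MulAction.stabilizer H ((a, b) : V × V)) = s := by
    refine Nat.card_congr
      { toFun := fun x => ⟨((x : H) : LAut V), (x : H).2, congrArg Prod.fst x.2,
          congrArg Prod.snd x.2⟩
        invFun := fun x => ⟨⟨(x : LAut V), x.2.1⟩, Prod.ext x.2.2.1 x.2.2.2⟩
        left_inv := fun x => rfl
        right_inv := fun x => rfl }
  have hH : Nat.card H = 930 * s := by
    rw [← (MulAction.stabilizer H ((a, b) : V × V)).card_mul_index, MulAction.index_stabilizer,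
      horb, hpairs, hstab, mul_comm]
  have hGL : Nat.card (LAut V) = 9999360 := by
    let B := Module.finBasisOfFinrankEq (ZMod 2) V hn
    rw [Nat.card_congr ((LinearMap.GeneralLinearGroup.generalLinearEquiv (ZMod 2) V).symm.trans
      (Units.mapEquiv (LinearMap.toMatrixAlgEquiv B).toMulEquiv)).toEquiv,
      Matrix.card_GL_field]
    simp [Fin.prod_univ_succ, ZMod.card]
  have hs1 : 930 * s ∣ 9999360 := hH ▸ hGL ▸ Subgroup.card_subgroup_dvd_card H
  haveI : Fact (Nat.Prime 31) := ⟨by norm_num⟩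
  obtain ⟨g, hg⟩ := exists_prime_orderOf_dvd_card' (G := H) 31
    (by rw [hH]; exact dvd_mul_of_dvd_left (by norm_num) s)
  have hgo : orderOf (g : LAut V) = 2 ^ 5 - 1 := by rw [Subgroup.orderOf_coe, hg]; norm_num
  obtain ⟨d, hd, hN⟩ := card_normalizer hn hp (g : LAut V) hgo H g.2
  -- Sylow count
  have h31 : (Nat.card H).factorization 31 = 1 := by
    have h1 : 31 ∣ Nat.card H := by rw [hH]; exact dvd_mul_of_dvd_left (by norm_num) s
    have h2 : ¬ 31 ^ 2 ∣ Nat.card H := fun h => by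
      have := h.trans (hH ▸ hs1)
      norm_num at this
    have h3 := (Fact.out : Nat.Prime 31).pow_dvd_iff_le_factorization (Nat.card_pos (α := H)).ne'
      (k := 2)
    have h4 := ((Fact.out : Nat.Prime 31).dvd_iff_one_le_factorization (Nat.card_pos (α := H)).ne').1 h1
    rw [h3] at h2
    omega
  let P : Sylow 31 H := Sylow.ofCard (Subgroup.zpowers g) (by rw [Nat.card_zpowers, hg, h31, pow_one])
  have hPmod := card_sylow_modEq_one 31 H
  rw [P.card_eq_index_normalizer] at hPmod
  set N := Subgroup.normalizer ((P : Subgroup H) : Set H) with hNdef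
  have hNcard : Nat.card N = 31 * d := by
    rw [show (31 : ℕ) = 2 ^ 5 - 1 by norm_num, ← hN, hNdef,
      ← Subgroup.card_map_of_injective H.subtype_injective]
    congr 2
    ext x
    constructor
    · rintro ⟨y, hy, rfl⟩
      refine Subgroup.mem_inf.2 ⟨y.2, Subgroup.mem_normalizer_iff.2 fun z => ?_⟩
      have hz : ∀ w : LAut V, w ∈ Subgroup.zpowers (g : LAut V) ↔
          ∃ u : H, u ∈ Subgroup.zpowers g ∧ (u : LAut V) = w := fun w => by
        constructor
        · rintro ⟨i, rfl⟩; exact ⟨g ^ i, ⟨i, rfl⟩, by simp⟩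
        · rintro ⟨u, ⟨i, rfl⟩, rfl⟩; exact ⟨i, by simp⟩
      constructor
      · intro hzm
        obtain ⟨u, hu, rfl⟩ := (hz _).1 hzm
        exact (hz _).2 ⟨y * u * y⁻¹, (Subgroup.mem_normalizer_iff.1 hy u).1 hu, by simp⟩
      · intro hzm
        obtain ⟨u, hu, e0⟩ := (hz _).1 hzm
        refine (hz _).2 ⟨y⁻¹ * u * y, (Subgroup.mem_normalizer_iff.1 hy _).2 (by
          rw [show y * (y⁻¹ * u * y) * y⁻¹ = u by group]; exact hu), ?_⟩
        simp only [Subgroup.coe_mul, InvMemClass.coe_inv]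
        rw [e0]
        simp [mul_assoc]
    · intro hx
      obtain ⟨hxH, hxn⟩ := Subgroup.mem_inf.1 hx
      refine ⟨⟨x, hxH⟩, Subgroup.mem_normalizer_iff.2 fun u => ?_, rfl⟩
      have hz : ∀ w : H, w ∈ Subgroup.zpowers g ↔ (w : LAut V) ∈ Subgroup.zpowers (g : LAut V) := fun w => by
        constructor
        · rintro ⟨i, rfl⟩; exact ⟨i, by simp⟩
        · rintro ⟨i, hi⟩; exact ⟨i, Subtype.ext (by simpa using hi)⟩
      show u ∈ Subgroup.zpowers g ↔ _ ∈ Subgroup.zpowers g
      rw [hz, hz]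
      simpa using Subgroup.mem_normalizer_iff.1 hxn (u : LAut V)
  have hidx := N.card_mul_index
  rw [hNcard, hH] at hidx
  rcases (Nat.prime_five.eq_one_or_self_of_dvd d hd) with rfl | rfl
  all_goals
    have hm : N.index % 31 = 1 := hPmod
    by_contra h7
    have hs2 : s ∣ 1536 := by
      have h3 : s ∣ 10752 := Nat.dvd_of_mul_dvd_mul_left (by norm_num : 0 < 930) (by simpa using hs1)
      exact (((Nat.prime_seven.coprime_iff_not_dvd).2 h7).symm).dvd_of_dvd_mul_right
        (show s ∣ 1536 * 7 from h3)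
    have hsle := Nat.le_of_dvd (by norm_num) hs2
  · have hs30 : s % 31 = 30 := by omega
    exact (by decide : ∀ k < 50, ¬ (30 + 31 * k) ∣ 1536) (s / 31) (by omega)
      (by rwa [show 30 + 31 * (s / 31) = s by omega])
  · have hs26 : s % 31 = 26 := by omega
    exact (by decide : ∀ k < 50, ¬ (26 + 31 * k) ∣ 1536) (s / 31) (by omega)
      (by rwa [show 26 + 31 * (s / 31) = s by omega])

end CfsgLib.TransGL
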