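import Cfsg.Agent.Lib.TransGL.XLemmas
import Cfsg.Agent.Lib.TransGL.Reduce

/-!
# The exceptional codimension six (S4179)

Dimension thirteen is impossible; in dimension seventeen the classes are lines.
-/

set_option autoImplicit false
set_option linter.unusedSectionVars false

namespace CfsgLib.TransGL

open Module

variable {V : Type*} [AddCommGroup V] [Module (ZMod 2) V] [Finite V] {H : Subgroup (LAut V)}
  {X : V → V → Submodule (ZMod 2) V} {k : ℕ}

theorem two_pow_six_seven : (2 : ZMod 7) ^ 6 = 1 := by decide

theorem orderOf_two_seven : orderOf (2 : ZMod 7) = 3 :=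
  haveI : Fact (Nat.Prime 3) := ⟨Nat.prime_three⟩
  orderOf_eq_prime (by decide) (by decide)

/-- A point with prime period, all of whose iterates lie in a small set, is fixed. -/
theorem eq_of_iterate_mem {α : Type*} (T : α → α) {x : α} {p : ℕ} (hp : p.Prime) (h : T^[p] x = x)
    (s : Finset α) (hs : ∀ i, T^[i] x ∈ s) (hcard : s.card < p) : T x = x := by
  classical
  have hdvd := Function.IsPeriodicPt.minimalPeriod_dvd (f := T) (x := x) h
  rcases (Nat.dvd_prime hp).1 hdvd with e | e
  · exact Function.minimalPeriod_eq_one_iff_isFixedPt.1 e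
  · exfalso
    have h1 : ((Finset.range p).image fun i => T^[i] x).card = p := by
      rw [Finset.card_image_of_injOn, Finset.card_range]
      intro i hi j hj hij
      refine Function.iterate_injOn_Iio_minimalPeriod ?_ ?_ hij
      · rw [Set.mem_Iio, e]; exact Finset.mem_range.1 hi
      · rw [Set.mem_Iio, e]; exact Finset.mem_range.1 hj
    have h2 := Finset.card_le_card
      (show (Finset.range p).image (fun i => T^[i] x) ⊆ s by
        intro y hy
        obtain ⟨i, -, rfl⟩ := Finset.mem_image.1 hy
        exact hs i)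
    omega

theorem card_indep_pairs (S : Submodule (ZMod 2) V) :
    Nat.card {p : V × V // p.1 ∈ S ∧ p.2 ∈ S ∧ Indep2 p.1 p.2} =
      (2 ^ finrank (ZMod 2) S - 1) * (2 ^ finrank (ZMod 2) S - 2) := by
  classical
  have := Fintype.ofFinite V
  let e : {p : V × V // p.1 ∈ S ∧ p.2 ∈ S ∧ Indep2 p.1 p.2} ≃
      Σ c : {c : V // c ∈ S ∧ c ≠ 0}, {x : V // x ∈ S ∧ Indep2 c.1 x} :=
    { toFun := fun p => ⟨⟨p.1.1, p.2.1, p.2.2.2.1⟩, ⟨p.1.2, p.2.2.1, p.2.2.2⟩⟩
      invFun := fun q => ⟨(q.1.1, q.2.1), q.1.2.1, q.2.2.1, q.2.2.2⟩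
      left_inv := fun p => rfl
      right_inv := fun q => rfl }
  rw [Nat.card_congr e, Nat.card_sigma,
    Finset.sum_congr rfl fun c _ => card_indep_right c.2.1 c.2.2, Finset.sum_const, smul_eq_mul,
    Finset.card_univ]
  congr 1
  rw [Fintype.card_subtype, show (Finset.univ.filter fun c => c ∈ S ∧ c ≠ 0) =
    (Finset.univ.filter fun c => c ∈ S).erase 0 by ext c; simp [and_comm],
    Finset.card_erase_of_mem (by simp), ← Fintype.card_subtype, ← Nat.card_eq_fintype_card,
    ← card_submodule]

/-- Two subspaces attached to pairs in a common one coincide if they do so from each point. -/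
theorem XData.eq_of_mem_of_forall (hX : XData H X k)
    (hall : ∀ a b c : V, Indep2 a b → Indep2 a c → c ∈ X a b → X a c = X a b)
    {a b c e : V} (hab : Indep2 a b) (hce : Indep2 c e) (hc : c ∈ X a b) (he : e ∈ X a b) :
    X c e = X a b := by
  by_cases hac : a = c
  · subst hac
    exact hall a b e hab hce he
  · have hi : Indep2 a c := ⟨hab.1, hce.1, hac⟩
    have h1 : X c a = X a b := by rw [hX.symm c a hi.swap, hall a b c hab hi hc]
    rw [hall c a e hi.swap hce (h1 ▸ he), h1]

/-- Dimension thirteen with codimension six is impossible. -/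
theorem not_xdata_thirteen (hn : finrank (ZMod 2) V = 13) (hX : XData H X 7) : False := by
  classical
  have := Fintype.ofFinite V
  have hall : ∀ a b c : V, Indep2 a b → Indep2 a c → c ∈ X a b → X a c = X a b := by
    intro v w u₀ hvw hvu₀ hu₀
    by_contra hne
    set S := X v w with hS
    let U : Finset V := Finset.univ.filter fun u => u ∈ S ∧ Indep2 v u ∧ X v u ≠ S
    let N : V → Finset V := fun x => U.filter fun u => x ∈ X v u
    have hSc : (Finset.univ.filter fun x => x ∈ S).card = 128 := by
      rw [← Fintype.card_subtype, ← Nat.card_eq_fintype_card, card_submodule, hS,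
        hX.finrank_eq v w hvw]
      norm_num
    -- the count does not depend on the point outside
    have hconst : ∀ x y, x ∉ S → y ∉ S → (N x).card ≤ (N y).card := by
      intro x y hx hy
      obtain ⟨h, hh, hv, hw, hxy⟩ := hX.transOff v w x y hvw hx hy
      have hmap : X (h v) (h w) = S := by
        rcases hw with e | e <;> rw [hv, e]
        exact hX.add_right v w hvw
      refine Finset.card_le_card_of_injOn h ?_ h.injective.injOn
      intro u hu
      simp only [N, U, Finset.coe_filter, Finset.mem_filter, Finset.mem_univ, true_and,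
        Set.mem_ofPred_eq] at hu ⊢
      obtain ⟨⟨huS, hvu, hXu⟩, hxu⟩ := hu
      have hi : Indep2 v (h u) := by
        have := hvu.map h
        rwa [hv] at this
      refine ⟨⟨?_, hi, fun e => hXu ?_⟩, ?_⟩
      · rw [← hmap]
        exact (hX.map_mem_iff hh hvw).2 huS
      · refine Submodule.map_injective_of_injective (f := (h : V →ₗ[ZMod 2] V)) h.injective ?_
        rw [hX.map_eq h hh v u hvu, hv, e, hS, hX.map_eq h hh v w hvw, hmap]
      · rw [← hxy]
        have := (hX.map_mem_iff hh hvu).2 hxu
        rwa [hv] at this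
    -- no point outside is covered
    have hcov : ∀ x, x ∉ S → N x = ∅ := by
      intro x hx
      by_contra hne'
      obtain ⟨u, hu⟩ := Finset.nonempty_of_ne_empty hne'
      have h2 : 2 ≤ (N x).card := by
        have hu' : v + u ∈ N x := by
          simp only [N, U, Finset.mem_filter, Finset.mem_univ, true_and] at hu ⊢
          obtain ⟨⟨huS, hvu, hXu⟩, hxu⟩ := hu
          rw [hX.add_right v u hvu]
          exact ⟨⟨add_mem (hX.mem_left v w hvw) huS, hvu.add_right, hXu⟩, hxu⟩
        have hne2 : u ≠ v + u := fun e => hvw.1 (right_eq_add.1 e)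
        exact Finset.one_lt_card.2 ⟨u, hu, v + u, hu', hne2⟩
      have hlow : (Finset.univ.filter fun y => y ∉ S).card * 2 ≤
          ∑ y ∈ Finset.univ.filter (fun y => y ∉ S), (N y).card := by
        rw [← smul_eq_mul, ← Finset.sum_const]
        exact Finset.sum_le_sum fun y hy =>
          h2.trans (hconst x y hx (Finset.mem_filter.1 hy).2)
      have hout : (Finset.univ.filter fun y => y ∉ S).card = 8064 := by
        have h1 := Finset.card_filter_add_card_filter_not (s := (Finset.univ : Finset V))
          (fun y => y ∈ S)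
        have h3 : (Finset.univ : Finset V).card = 8192 := by
          rw [Finset.card_univ, ← Nat.card_eq_fintype_card, card_space, hn]
          norm_num
        omega
      have hswap : ∑ y ∈ Finset.univ.filter (fun y => y ∉ S), (N y).card =
          ∑ u ∈ U, ((Finset.univ.filter fun y => y ∉ S).filter fun y => y ∈ X v u).card := by
        simp only [N, Finset.card_filter]
        exact Finset.sum_comm
      have hup : ∑ u ∈ U, ((Finset.univ.filter fun y => y ∉ S).filter fun y => y ∈ X v u).card ≤
          126 * 126 := by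
        have hU : U.card ≤ 126 := by
          calc U.card ≤ (((Finset.univ.filter fun x => x ∈ S).erase 0).erase v).card := by
                refine Finset.card_le_card fun z hz => ?_
                simp only [U, Finset.mem_filter, Finset.mem_univ, true_and] at hz
                simp only [Finset.mem_erase, Finset.mem_filter, Finset.mem_univ, true_and]
                exact ⟨Ne.symm hz.2.1.2.2, hz.2.1.2.1, hz.1⟩
            _ = 126 := by
                rw [Finset.card_erase_of_mem (by simp [hvw.1, hS, hX.mem_left v w hvw]),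
                  Finset.card_erase_of_mem (by simp), hSc]
        refine (Finset.sum_le_card_nsmul _ _ 126 fun z hz => ?_).trans
          (by rw [smul_eq_mul]; exact Nat.mul_le_mul_right _ hU)
        simp only [U, Finset.mem_filter, Finset.mem_univ, true_and] at hz
        have hXc : (Finset.univ.filter fun y => y ∈ X v z).card = 128 := by
          rw [← Fintype.card_subtype, ← Nat.card_eq_fintype_card, card_submodule,
            hX.finrank_eq v z hz.2.1]
          norm_num
        calc _ ≤ (((Finset.univ.filter fun y => y ∈ X v z).erase 0).erase v).card := by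
              refine Finset.card_le_card fun y hy => ?_
              simp only [Finset.mem_filter, Finset.mem_univ, true_and] at hy
              simp only [Finset.mem_erase, Finset.mem_filter, Finset.mem_univ, true_and]
              exact ⟨fun e => hy.1 (e ▸ hX.mem_left v w hvw), fun e => hy.1 (e ▸ zero_mem _), hy.2⟩
          _ = 126 := by
              rw [Finset.card_erase_of_mem (by simp [hvw.1, hX.mem_left v z hz.2.1]),
                Finset.card_erase_of_mem (by simp), hXc]
      omega
    -- so every subspace through `v` in `S` equals it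
    have hle : X v u₀ ≤ S := by
      intro x hx
      by_contra hxS
      have h1 : u₀ ∈ N x := by
        simp only [N, U, Finset.mem_filter, Finset.mem_univ, true_and]
        exact ⟨⟨hu₀, hvu₀, hne⟩, hx⟩
      rw [hcov x hxS] at h1
      exact Finset.notMem_empty _ h1
    exact hne (Submodule.eq_of_le_of_finrank_le hle
      (by rw [hS, hX.finrank_eq v w hvw, hX.finrank_eq v u₀ hvu₀]))
  -- each pair lies in exactly one subspace
  have hdvd : (16002 : ℕ) ∣ 67084290 := by
    have h1 := card_dvd_of_fibres (m := 16002)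
      (fun p : {p : V × V // p.1 ∈ (⊤ : Submodule (ZMod 2) V) ∧ p.2 ∈ (⊤ : Submodule (ZMod 2) V) ∧
        Indep2 p.1 p.2} => X p.1.1 p.1.2) (fun ⟨⟨a, b⟩, _, _, hab⟩ => by
      have h2 := card_indep_pairs (X a b)
      rw [hX.finrank_eq a b hab] at h2
      norm_num at h2
      rw [← h2, ← Nat.card_eq_fintype_card]
      refine Nat.card_congr ?_
      exact
        { toFun := fun q => ⟨q.1.1, by
            have e : X q.1.1.1 q.1.1.2 = X a b := q.2
            exact ⟨e.le (hX.mem_left _ _ q.1.2.2.2), e.le (hX.mem_right q.1.2.2.2), q.1.2.2.2⟩⟩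
          invFun := fun q => ⟨⟨q.1, trivial, trivial, q.2.2.2⟩,
            hX.eq_of_mem_of_forall hall hab q.2.2.2 q.2.1 q.2.2.1⟩
          left_inv := fun q => rfl
          right_inv := fun q => rfl })
    rw [card_indep_pairs, finrank_top, hn] at h1
    exact h1
  norm_num at hdvd

/-- In dimension seventeen with codimension six the classes are lines. -/
theorem cls_finrank_seventeen (hn : finrank (ZMod 2) V = 17) (hX : XData H X 11) (a b : V)
    (hab : Indep2 a b) : finrank (ZMod 2) (cls X a b) = 2 := by
  classical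
  have := Fintype.ofFinite V
  set γ := finrank (ZMod 2) (cls X a b) with hγdef
  have hγ : ∀ c e, Indep2 c e → finrank (ZMod 2) (cls X c e) = γ := fun c e h =>
    hX.cls_finrank hab h
  have hle11 : γ ≤ 11 := (Submodule.finrank_mono (hX.cls_le hab)).trans (hX.finrank_eq a b hab).le
  have hlo := hX.two_le_finrank_cls hab
  have htop := hX.cls_dvd (S := ⊤) trivial hab.1 (hγ a) fun _ _ _ => le_top
  have hmid := hX.cls_dvd (S := X a b) (hX.mem_left a b hab) hab.1 (hγ a) fun z hz haz w hw => by
    rcases (hX.mem_cls haz).1 hw with rfl | rfl | ⟨haw, e⟩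
    · exact zero_mem _
    · exact hX.mem_left _ b hab
    · have hb : b ∈ X a w := e ▸ hX.plane a b z hab haz hz
      exact hX.plane a w b haw hab hb
  rw [finrank_top, hn] at htop
  rw [hX.finrank_eq a b hab] at hmid
  obtain h23 | h23 : γ = 2 ∨ γ = 3 := by
    rw [← hγdef] at hlo
    interval_cases γ <;> omega
  · exact h23
  exfalso
  have : Fact (Nat.Prime 7) := ⟨by norm_num⟩
  obtain ⟨v, u, R, hvu, hvF, huF, hRle, hR, -, hFX, hwitt⟩ :=
    hX.exists_witt (r := 7) (by norm_num) (by rw [hn]; exact two_pow_six_seven)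
  set F := fixSub R with hF
  obtain ⟨U, hFU, hUinv, hUfix, hsplit⟩ := exists_compl (r := 7) (by norm_num) hR
  have hord := orderOf_two_seven
  have hself : ∀ g ∈ R, ∀ x, g * x * g⁻¹ ∈ R ↔ x ∈ R := fun g hg x => by
    rw [Subgroup.mul_mem_cancel_right _ (inv_mem hg), Subgroup.mul_mem_cancel_left _ hg]
  have hU3 : 3 ∣ finrank (ZMod 2) U := dvd_finrank hord hR U
    (fun g hg => hUinv g (hself g hg)) fun x hx => hUfix x hx
  have hsum := Submodule.finrank_add_eq_of_isCompl hFU
  rw [← hF, hn] at hsum
  have hf11 : finrank (ZMod 2) F ≤ 11 :=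
    (Submodule.finrank_mono (hFX v u hvF huF hvu)).trans (hX.finrank_eq v u hvu).le
  have hclsF : ∀ z ∈ F, Indep2 v z → cls X v z ≤ F := by
    intro z hz hvz
    have hinv : ∀ g ∈ R, ∀ x ∈ cls X v z, g x ∈ cls X v z := fun g hg x hx => by
      have hgH : g ∈ H := (hRle hg).1
      have h1 := hX.cls_map hgH hvz
      rw [hvF g hg, hz g hg] at h1
      rw [← h1]
      exact ⟨x, hx, rfl⟩
    have h1 := hsplit (cls X v z) hinv
    rw [hγ v z hvz, h23] at h1
    have h2 : 3 ∣ finrank (ZMod 2) ↥(cls X v z ⊓ U) := dvd_finrank hord hR _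
      (fun g hg x hx => ⟨hinv g hg x hx.1, hUinv g (hself g hg) x hx.2⟩) fun x hx => hUfix x hx.2
    have h3 : 2 ≤ finrank (ZMod 2) ↥(cls X v z ⊓ fixSub R) := by
      have hlt : Submodule.span (ZMod 2) {v} < cls X v z ⊓ fixSub R := by
        refine lt_of_le_of_ne ((Submodule.span_singleton_le_iff_mem _ _).2
          ⟨hX.left_mem_cls hvz, hvF⟩) fun e => ?_
        have h4 : z ∈ cls X v z ⊓ fixSub R := ⟨hX.self_mem_cls hvz, hz⟩
        rw [← e, mem_span_one] at h4
        rcases h4 with e' | e'
        exacts [hvz.2.1 e', hvz.2.2 e'.symm]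
      have := Submodule.finrank_lt_finrank_of_lt hlt
      rw [finrank_span_singleton hvz.1] at this
      omega
    have h4 : cls X v z ⊓ fixSub R = cls X v z :=
      Submodule.eq_of_le_of_finrank_le inf_le_left (by rw [hγ v z hvz, h23]; omega)
    rw [← h4]
    exact inf_le_right
  have hFd := hX.cls_dvd (S := F) hvF hvu.1 (hγ v) hclsF
  rw [h23] at hFd
  have hf2 : 2 ≤ finrank (ZMod 2) F := by
    have h1 := Submodule.finrank_mono (hclsF u huF hvu)
    rw [hγ v u hvu, h23] at h1
    omega
  obtain hf | hf : finrank (ZMod 2) F = 5 ∨ finrank (ZMod 2) F = 11 := by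
    obtain ⟨f, hfe⟩ : ∃ f, finrank (ZMod 2) F = f := ⟨_, rfl⟩
    rw [hfe] at hFd hsum hf11 hf2 ⊢
    interval_cases f <;> omega
  swap
  · have hFe : ∀ z ∈ F, Indep2 v z → X v z = F := fun z hz hvz =>
      (Submodule.eq_of_le_of_finrank_le (hFX v z hvF hz hvz) (by rw [hX.finrank_eq v z hvz, hf])).symm
    have h1 : F ≤ cls X v u := fun z hz => by
      by_cases hvz : Indep2 v z
      · exact (hX.mem_cls_iff hvu hvz).2 ((hFe z hz hvz).trans (hFe u huF hvu).symm)
      · by_cases h0 : z = 0
        · rw [h0]; exact zero_mem _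
        · have : v = z := by
            by_contra hne
            exact hvz ⟨hvu.1, h0, hne⟩
          rw [← this]; exact hX.left_mem_cls hvu
    have h2 := Submodule.finrank_mono h1
    rw [hγ v u hvu, hf, h23] at h2
    omega
  -- a fixed space of dimension five
  set J := (restr H F).range with hJ
  have hJ2 : Pair2 J := by
    intro c e c' e' hce hce'
    have hi : ∀ {x y : F}, Indep2 x y → Indep2 (x : V) (y : V) := fun h =>
      ⟨fun h0 => h.1 (Subtype.ext h0), fun h0 => h.2.1 (Subtype.ext h0),
        fun h0 => h.2.2 (Subtype.ext h0)⟩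
    obtain ⟨g, hg, h1, h2⟩ := hwitt c e c' e' c.2 e.2 c'.2 e'.2 (hi hce) (hi hce')
    have hgF : g ∈ setStab H F := ⟨hg.1, fun x => ⟨fun hx => by
        have := normIn_apply_mem (inv_mem hg) hx
        rwa [inv_apply', LinearEquiv.symm_apply_apply] at this,
      fun hx => normIn_apply_mem hg hx⟩⟩
    exact ⟨restr H F ⟨g, hgF⟩, ⟨⟨g, hgF⟩, rfl⟩, Subtype.ext h1, Subtype.ext h2⟩
  set v' : F := ⟨v, hvF⟩
  set u' : F := ⟨u, huF⟩
  have hvu' : Indep2 v' u' := ⟨fun h => hvu.1 (congrArg Subtype.val h),
    fun h => hvu.2.1 (congrArg Subtype.val h), fun h => hvu.2.2 (congrArg Subtype.val h)⟩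
  obtain ⟨G₀, hgo⟩ :=
    exists_prime_orderOf_dvd_card' (G := pstab J v' u') 7 (seven_dvd_pstab hf hJ2 v' u' hvu')
  rw [← Subgroup.orderOf_coe] at hgo
  obtain ⟨g', hg'⟩ := G₀
  obtain ⟨hgJ, hgv, -⟩ := mem_pstab.1 hg'
  obtain ⟨g, hge⟩ := MonoidHom.mem_range.1 hgJ
  change orderOf g' = 7 at hgo
  have hgH : (g : LAut V) ∈ H := g.2.1
  have hgapp : ∀ x : F, ((g' x : F) : V) = (g : LAut V) x := fun x => by rw [← hge]; rfl
  have hgvV : (g : LAut V) v = v := by
    have := hgapp v'
    rw [hgv] at this
    exact this.symm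
  have hiter : ∀ (i : ℕ) (x : F), (⇑g')^[i] x = (g' ^ i) x := fun i => by
    induction i with
    | zero => intro x; rfl
    | succ i ih => intro x; rw [Function.iterate_succ_apply, ih, pow_succ, LinearEquiv.mul_apply]
  let P : Finset F := Finset.univ.filter fun x => Indep2 v (x : V)
  let val : F → Submodule (ZMod 2) V := fun x => X v x
  have hPval : ∀ x ∈ P, g' x ∈ P ∧
      val (g' x) = (val x).map ((g : LAut V) : V →ₗ[ZMod 2] V) := by
    intro x hx
    simp only [P, Finset.mem_filter, Finset.mem_univ, true_and] at hx ⊢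
    have h1 := hx.map (g : LAut V)
    rw [hgvV, ← hgapp] at h1
    refine ⟨h1, ?_⟩
    show X v (g' x : V) = _
    rw [hX.map_eq _ hgH v x hx, hgvV, hgapp]
  have hfib : ∀ x ∈ P, (P.filter fun y => val y = val x).card = 6 := by
    intro x hx
    simp only [P, Finset.mem_filter, Finset.mem_univ, true_and] at hx
    have h1 := card_indep_right (hX.left_mem_cls hx) hvu.1
    rw [hγ v x hx, h23] at h1
    norm_num at h1
    rw [← h1, ← Fintype.card_coe, ← Nat.card_eq_fintype_card, ← Nat.card_eq_fintype_card]
    refine Nat.card_congr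
      { toFun := fun y => ⟨(y.1 : V), ?_⟩
        invFun := fun y => ⟨⟨y.1, hclsF x x.2 hx y.2.1⟩, ?_⟩
        left_inv := fun y => rfl
        right_inv := fun y => rfl }
    · have hy := Finset.mem_filter.1 y.2
      have hy1 : Indep2 v (y.1 : V) := (Finset.mem_filter.1 hy.1).2
      exact ⟨(hX.mem_cls_iff hx hy1).2 hy.2, hy1⟩
    · simp only [P, Finset.mem_filter, Finset.mem_univ, true_and]
      exact ⟨y.2.2, (hX.mem_cls_iff hx y.2.2).1 y.2.1⟩
  have hPcard : P.card = 30 := by
    have h1 := card_indep_right hvF hvu.1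
    rw [hf] at h1
    norm_num at h1
    rw [← h1, ← Fintype.card_coe, ← Nat.card_eq_fintype_card, ← Nat.card_eq_fintype_card]
    exact Nat.card_congr
      { toFun := fun y => ⟨(y.1 : V), y.1.2, (Finset.mem_filter.1 y.2).2⟩
        invFun := fun y => ⟨⟨y.1, y.2.1⟩, Finset.mem_filter.2 ⟨Finset.mem_univ _, y.2.2⟩⟩
        left_inv := fun y => rfl
        right_inv := fun y => rfl }
  have hQcard : (P.image val).card = 5 := by
    have h1 := Finset.card_eq_sum_card_image val P
    rw [Finset.sum_congr rfl (g := fun _ => 6) (fun q hq => by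
      obtain ⟨x, hx, rfl⟩ := Finset.mem_image.1 hq
      exact hfib x hx), Finset.sum_const, smul_eq_mul, hPcard] at h1
    omega
  have hfix : ∀ x ∈ P, g' x = x := by
    intro x hx
    let T : Submodule (ZMod 2) V → Submodule (ZMod 2) V := fun q =>
      q.map ((g : LAut V) : V →ₗ[ZMod 2] V)
    have hTi : ∀ i, (⇑g')^[i] x ∈ P ∧ T^[i] (val x) = val ((⇑g')^[i] x) := by
      intro i
      induction i with
      | zero => exact ⟨hx, rfl⟩
      | succ i ih =>
        rw [Function.iterate_succ_apply', Function.iterate_succ_apply']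
        obtain ⟨h1, h2⟩ := hPval _ ih.1
        exact ⟨h1, by rw [ih.2, h2]⟩
    have h7 : (⇑g')^[7] x = x := by
      rw [hiter, ← hgo, pow_orderOf_eq_one]; rfl
    have hval : T (val x) = val x := eq_of_iterate_mem T (p := 7) (by norm_num)
      (by rw [(hTi 7).2, h7]) (P.image val)
      (fun i => by rw [(hTi i).2]; exact Finset.mem_image_of_mem val (hTi i).1) (by omega)
    refine eq_of_iterate_mem g' (p := 7) (by norm_num) h7 (P.filter fun y => val y = val x)
      (fun i => Finset.mem_filter.2 ⟨(hTi i).1, ?_⟩) (by rw [hfib x hx]; norm_num)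
    rw [← (hTi i).2]
    exact Function.iterate_fixed hval i
  have hone : g' = 1 := LinearEquiv.ext fun x => by
    show g' x = x
    by_cases hx : x ∈ P
    · exact hfix x hx
    simp only [P, Finset.mem_filter, Finset.mem_univ, true_and] at hx
    by_cases h0 : x = 0
    · rw [h0, map_zero]
    · have hxv : v' = x := by
        by_contra hne
        exact hx ⟨hvu.1, fun h => h0 (Subtype.ext h), fun h => hne (Subtype.ext h)⟩
      rw [← hxv, hgv]
  rw [hone, orderOf_one] at hgo
  norm_num at hgo

end CfsgLib.TransGL
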