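import Cfsg.Agent.Lib.TransGL.XLemmas

/-!
# Dimension seventeen with line classes is impossible (S4179)

With classes of size two the intersections of two subspaces through a point have dimension five,
or at least ten; the latter is an equivalence with classes of 254 points, which cannot partition
131070 points.
-/

set_option autoImplicit false
set_option linter.unusedSectionVars false

namespace CfsgLib.TransGL

open Module

variable {V : Type*} [AddCommGroup V] [Module (ZMod 2) V] [Finite V] {H : Subgroup (LAut V)}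
  {X : V → V → Submodule (ZMod 2) V} {k : ℕ}

/-- With line classes the subspace determines the line. -/
theorem XData.eq_or_eq_of_eq (hX : XData H X k)
    (hcls : ∀ a b, Indep2 a b → finrank (ZMod 2) (cls X a b) = 2) {a b z : V} (hab : Indep2 a b)
    (haz : Indep2 a z) (h : X a z = X a b) : z = b ∨ z = a + b := by
  classical
  have := Fintype.ofFinite V
  have h1 := card_indep_right (hX.left_mem_cls hab) hab.1
  rw [hcls a b hab, Nat.card_eq_fintype_card, Fintype.card_subtype] at h1
  have hmem : z ∈ Finset.univ.filter (fun x => x ∈ cls X a b ∧ Indep2 a x) :=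
    Finset.mem_filter.2 ⟨Finset.mem_univ _, (hX.mem_cls_iff hab haz).2 h, haz⟩
  have hne : b ≠ a + b := fun e => hab.1 (right_eq_add.1 e)
  have hsub : ({b, a + b} : Finset V) ⊆ Finset.univ.filter (fun x => x ∈ cls X a b ∧ Indep2 a x) := by
    intro x hx
    rcases Finset.mem_insert.1 hx with rfl | hx
    · exact Finset.mem_filter.2 ⟨Finset.mem_univ _, hX.self_mem_cls hab, hab⟩
    · rw [Finset.mem_singleton.1 hx]
      exact Finset.mem_filter.2 ⟨Finset.mem_univ _,
        add_mem (hX.left_mem_cls hab) (hX.self_mem_cls hab), hab.add_right⟩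
  rw [← Finset.eq_of_subset_of_card_le hsub (by rw [h1, Finset.card_pair hne]; norm_num)] at hmem
  simpa using hmem

/-- The numbers of points and of incidences of each intersection dimension. -/
theorem profile_arith {a b c e f g n10 n9 n8 n7 n6 n5 : ℕ} (ha : 2 ∣ a) (hb : 2 ∣ b) (hc : 2 ∣ c)
    (he : 2 ∣ e) (hf : 2 ∣ f) (hg : 2 ∣ g) (h10 : n10 * (2048 - 1024) = a * 129024)
    (h9 : n9 * (2048 - 512) = b * 129024) (h8 : n8 * (2048 - 256) = c * 129024)
    (h7 : n7 * (2048 - 128) = e * 129024) (h6 : n6 * (2048 - 64) = f * 129024)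
    (h5 : n5 * (2048 - 32) = g * 129024) (hn : n5 + n6 + n7 + n8 + n9 + n10 = 2044) {j : ℕ}
    (hj : 5 ≤ j) (hsum : g + f + e + c + b + a = 2 ^ j - 2) :
    j = 5 ∧ n10 = 252 ∧ n9 = 0 ∧ n8 = 0 ∧ n7 = 0 ∧ n6 = 0 := by
  norm_num at h10 h9 h8 h7 h6 h5
  have e10 : n10 = 126 * a := by linarith
  have e9 : n9 = 84 * b := by linarith
  have e8 : n8 = 72 * c := by linarith
  have e7 : 5 * n7 = 336 * e := by linarith
  have e6 : 31 * n6 = 2016 * f := by linarith
  have e5 : n5 = 64 * g := by linarith
  clear h10 h9 h8 h7 h6 h5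
  have hlt : g + f + e + c + b + a ≤ 31 := by
    have : 64 * (g + f + e + c + b + a) ≤ 2044 := by linarith
    omega
  have hj5 : j = 5 := by
    by_contra hne
    have : 2 ^ 6 ≤ 2 ^ j := Nat.pow_le_pow_right two_pos (by omega)
    omega
  have h30 := hsum
  rw [hj5] at h30
  norm_num at h30
  clear hsum hlt hj
  obtain ⟨f', rfl⟩ : 31 ∣ f :=
    (show Nat.Coprime 31 2016 by norm_num).dvd_of_dvd_mul_left (e6 ▸ dvd_mul_right 31 n6)
  obtain rfl : f' = 0 := by linarith
  obtain rfl : n6 = 0 := by linarith
  obtain ⟨e', rfl⟩ : 5 ∣ e :=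
    (show Nat.Coprime 5 336 by norm_num).dvd_of_dvd_mul_left (e7 ▸ dvd_mul_right 5 n7)
  obtain ⟨E, rfl⟩ : 2 ∣ e' := (show Nat.Coprime 2 5 by norm_num).dvd_of_dvd_mul_left he
  obtain rfl : n7 = 672 * E := by linarith
  subst e10 e9 e8 e5
  obtain ⟨A, rfl⟩ := ha
  obtain ⟨B, rfl⟩ := hb
  obtain ⟨C, rfl⟩ := hc
  obtain ⟨G, rfl⟩ := hg
  have key : 31 * A + 10 * B + 4 * C + 8 * E = 31 := by linarith
  clear he hf e6 e7 hn h30
  obtain rfl : A = 1 := by omega
  obtain ⟨rfl, rfl, rfl⟩ : B = 0 ∧ C = 0 ∧ E = 0 := by omega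
  exact ⟨hj5, rfl, rfl, rfl, rfl, rfl⟩

variable (hn : finrank (ZMod 2) V = 17) (hX : XData H X 11)
  (hcls : ∀ a b, Indep2 a b → finrank (ZMod 2) (cls X a b) = 2)

include hn hX hcls

/-- The intersections with a fixed subspace through a point. -/
theorem profile_seventeen {v w : V} (hvw : Indep2 v w) :
    (∀ z, Indep2 v z → finrank (ZMod 2) ↥(X v z ⊓ X v w) = 5 ∨
        10 ≤ finrank (ZMod 2) ↥(X v z ⊓ X v w)) ∧
      Nat.card {z // Indep2 v z ∧ 10 ≤ finrank (ZMod 2) ↥(X v z ⊓ X v w)} = 254 := by
  classical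
  have := Fintype.ofFinite V
  set S := X v w with hS
  let dm : V → ℕ := fun u => finrank (ZMod 2) ↥(X v u ⊓ S)
  let U : Finset V := Finset.univ.filter fun u => u ∈ S ∧ Indep2 v u ∧ u ≠ w ∧ u ≠ v + w
  let T : ℕ → V → Finset V := fun i x => U.filter fun u => x ∈ X v u ∧ dm u = i
  let O : Finset V := Finset.univ.filter fun x => x ∉ S
  have hcard : ∀ W : Submodule (ZMod 2) V, (Finset.univ.filter fun x => x ∈ W).card =
      2 ^ finrank (ZMod 2) W := fun W => by
    rw [← Fintype.card_subtype, ← Nat.card_eq_fintype_card, card_submodule]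
  have hSr : finrank (ZMod 2) S = 11 := hX.finrank_eq v w hvw
  -- dimensions of intersections
  have hdm : ∀ z, Indep2 v z → X v z ≠ S → 5 ≤ dm z ∧ dm z ≤ 10 := by
    intro z hz hne
    have h1 := Submodule.finrank_sup_add_finrank_inf_eq (X v z) S
    have h2 := Submodule.finrank_le (X v z ⊔ S)
    rw [hX.finrank_eq v z hz, hSr] at h1
    rw [hn] at h2
    have h3 : dm z < 11 := by
      by_contra hlt
      push Not at hlt
      have e1 : X v z ⊓ S = X v z :=
        Submodule.eq_of_le_of_finrank_le inf_le_left (by rw [hX.finrank_eq v z hz]; exact hlt)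
      have e2 : X v z ⊓ S = S :=
        Submodule.eq_of_le_of_finrank_le inf_le_right (by rw [hSr]; exact hlt)
      exact hne (e1.symm.trans e2)
    simp only [dm] at h3 ⊢
    omega
  have hUdm : ∀ u ∈ U, 5 ≤ dm u ∧ dm u ≤ 10 := by
    intro u hu
    obtain ⟨-, -, hvu, hw, hvw'⟩ := Finset.mem_filter.1 hu
    refine hdm u hvu fun e => ?_
    rcases hX.eq_or_eq_of_eq hcls hvw hvu e with h | h
    exacts [hw h, hvw' h]
  -- constancy
  have hconst : ∀ i x y, x ∈ O → y ∈ O → (T i x).card = (T i y).card := by
    have hle : ∀ i x y, x ∈ O → y ∈ O → (T i x).card ≤ (T i y).card := by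
      intro i x y hx hy
      simp only [O, Finset.mem_filter, Finset.mem_univ, true_and] at hx hy
      obtain ⟨h, hh, hv, hw, hxy⟩ := hX.transOff v w x y hvw hx hy
      have hmap : X (h v) (h w) = S := by
        rcases hw with e | e <;> rw [hv, e]
        exact hX.add_right v w hvw
      have hback : h w = w ∨ h (v + w) = w := by
        rcases hw with e | e
        · exact Or.inl e
        · refine Or.inr ?_
          rw [map_add, hv, e, ← add_assoc, add_self_v, zero_add]
      refine Finset.card_le_card_of_injOn h ?_ h.injective.injOn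
      intro u hu
      simp only [T, U, Finset.coe_filter, Finset.mem_filter, Finset.mem_univ, true_and,
        Set.mem_ofPred_eq] at hu ⊢
      obtain ⟨⟨huS, hvu, huw, huvw⟩, hxu, hdu⟩ := hu
      have hi : Indep2 v (h u) := by
        have := hvu.map h
        rwa [hv] at this
      have hXu : (X v u).map (h : V →ₗ[ZMod 2] V) = X v (h u) := by
        rw [hX.map_eq h hh v u hvu, hv]
      refine ⟨⟨?_, hi, ?_, ?_⟩, ?_, ?_⟩
      · rw [← hmap]
        exact (hX.map_mem_iff hh hvw).2 huS
      · intro e
        rcases hback with e' | e' <;> rw [← e'] at e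
        exacts [huw (h.injective e), huvw (h.injective e)]
      · intro e
        rcases hw with e' | e'
        · refine huvw (h.injective ?_)
          rw [e, map_add, hv, e']
        · refine huw (h.injective ?_)
          rw [e, e']
      · rw [← hxy, ← hXu]
        exact ⟨x, hxu, rfl⟩
      · have hSm : S.map (h : V →ₗ[ZMod 2] V) = S := by
          conv_lhs => rw [hS, hX.map_eq h hh v w hvw, hmap]
        rw [← hdu]
        simp only [dm]
        rw [← hXu]
        conv_lhs => rw [← hSm, ← Submodule.map_inf _ (h.injective)]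
        exact LinearEquiv.finrank_map_eq h _
    exact fun i x y hx hy => le_antisymm (hle i x y hx hy) (hle i y x hy hx)
  -- parity
  have heven : ∀ i x, 2 ∣ (T i x).card := by
    intro i x
    rw [Finset.card_eq_sum_card_image (fun u => X v u) (T i x)]
    refine Finset.dvd_sum fun q hq => ?_
    obtain ⟨u, hu, rfl⟩ := Finset.mem_image.1 hq
    have hu' := hu
    simp only [T, U, Finset.mem_filter, Finset.mem_univ, true_and] at hu'
    obtain ⟨⟨huS, hvu, huw, huvw⟩, hxu, hdu⟩ := hu'
    have hne : u ≠ v + u := fun e => hvu.1 (right_eq_add.1 e)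
    have heq : (T i x).filter (fun z => X v z = X v u) = {u, v + u} := by
      refine Finset.Subset.antisymm (fun z hz => ?_) (fun z hz => ?_)
      · obtain ⟨hz1, hz2⟩ := Finset.mem_filter.1 hz
        simp only [T, U, Finset.mem_filter, Finset.mem_univ, true_and] at hz1
        simpa using hX.eq_or_eq_of_eq hcls hvu hz1.1.2.1 hz2
      · rcases Finset.mem_insert.1 hz with rfl | hz
        · exact Finset.mem_filter.2 ⟨hu, rfl⟩
        · rw [Finset.mem_singleton.1 hz]
          have hXa := hX.add_right v u hvu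
          simp only [T, U, dm, Finset.mem_filter, Finset.mem_univ, true_and, hXa, and_true]
          simp only [dm] at hdu
          refine ⟨⟨add_mem (hX.mem_left v w hvw) huS, hvu.add_right, fun e => huvw ?_,
            fun e => huw (add_left_cancel e)⟩, hxu, by rw [hXa]; exact hdu⟩
          rw [← e, ← add_assoc, add_self_v, zero_add]
    rw [heq, Finset.card_pair hne]
  -- double counting
  have hO : O.card = 129024 := by
    have h1 := Finset.card_filter_add_card_filter_not (s := (Finset.univ : Finset V))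
      (fun y => y ∈ S)
    rw [hcard S, hSr, Finset.card_univ, ← Nat.card_eq_fintype_card, card_space, hn] at h1
    simp only [O]
    omega
  have hcount : ∀ i x, x ∈ O →
      (U.filter fun u => dm u = i).card * (2048 - 2 ^ i) = (T i x).card * 129024 := by
    intro i x hx
    have h1 : ∑ y ∈ O, (T i y).card =
        ∑ u ∈ U.filter (fun u => dm u = i), (O.filter fun y => y ∈ X v u).card := by
      have e : ∀ y, T i y = (U.filter fun u => dm u = i).filter fun u => y ∈ X v u := fun y => by
        ext u
        simp only [T, Finset.mem_filter]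
        tauto
      simp only [e, Finset.card_filter]
      exact Finset.sum_comm
    rw [Finset.sum_congr rfl fun y hy => hconst i y x hy hx, Finset.sum_const, smul_eq_mul, hO,
      Finset.sum_congr rfl (g := fun _ => 2048 - 2 ^ i) (fun u hu => by
        obtain ⟨hu1, hu2⟩ := Finset.mem_filter.1 hu
        obtain ⟨-, -, hvu, -, -⟩ := Finset.mem_filter.1 hu1
        have e1 : O.filter (fun y => y ∈ X v u) = (Finset.univ.filter fun y => y ∈ X v u) \
            (Finset.univ.filter fun y => y ∈ X v u ⊓ S) := by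
          ext y
          simp only [O, Finset.mem_filter, Finset.mem_univ, true_and, Finset.mem_sdiff,
            Submodule.mem_inf]
          tauto
        rw [e1, Finset.card_sdiff_of_subset (by
            intro y hy
            simp only [Finset.mem_filter, Finset.mem_univ, true_and, Submodule.mem_inf] at hy ⊢
            exact hy.1), hcard, hcard, hX.finrank_eq v u hvu,
          show finrank (ZMod 2) ↥(X v u ⊓ S) = i from hu2]
        norm_num),
      Finset.sum_const, smul_eq_mul] at h1
    rw [← h1, mul_comm]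
  have hUcard : U.card = 2044 := by
    have hne : w ≠ v + w := fun e => hvw.1 (right_eq_add.1 e)
    have h1 : U = ((((Finset.univ.filter fun x => x ∈ S).erase 0).erase v).erase w).erase (v + w) := by
      ext z
      simp only [U, Finset.mem_filter, Finset.mem_univ, true_and, Finset.mem_erase]
      simp only [Indep2, ne_eq]
      constructor
      · rintro ⟨hz, ⟨-, h0, hvz⟩, h3, h4⟩
        exact ⟨h4, h3, Ne.symm hvz, h0, hz⟩
      · rintro ⟨h4, h3, hvz, h0, hz⟩
        exact ⟨hz, ⟨hvw.1, h0, Ne.symm hvz⟩, h3, h4⟩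
    have hvS : v ∈ S := hX.mem_left v w hvw
    have hwS : w ∈ S := hX.mem_right hvw
    have hvw0 := hvw.add_right
    rw [h1, Finset.card_erase_of_mem (by
        simp [hne.symm, hvw0.2.2.symm, hvw0.2.1, add_mem hvS hwS]),
      Finset.card_erase_of_mem (by simp [hvw.2.2.symm, hvw.2.1, hwS]),
      Finset.card_erase_of_mem (by simp [hvw.1, hvS]),
      Finset.card_erase_of_mem (by simp), hcard, hSr]
    norm_num
  have hmaps : ∀ u ∈ U, dm u ∈ Finset.Icc 5 10 := fun u hu => Finset.mem_Icc.2 (hUdm u hu)
  have hsplitU := Finset.card_eq_sum_card_fiberwise hmaps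
  rw [hUcard] at hsplitU
  -- the data at a point outside
  have houtside : ∀ x ∈ O, dm x = 5 ∧ (U.filter fun u => dm u = 10).card = 252 ∧
      (U.filter fun u => dm u = 9).card = 0 ∧ (U.filter fun u => dm u = 8).card = 0 ∧
      (U.filter fun u => dm u = 7).card = 0 ∧ (U.filter fun u => dm u = 6).card = 0 := by
    intro x hx
    have hxS : x ∉ S := (Finset.mem_filter.1 hx).2
    have hvx := hX.indep_of_not_mem hvw hxS
    have hxne : X v x ≠ S := fun e => hxS (e ▸ hX.mem_right hvx)
    have hmaps' : ∀ u ∈ U.filter (fun u => x ∈ X v u), dm u ∈ Finset.Icc 5 10 :=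
      fun u hu => hmaps u (Finset.mem_filter.1 hu).1
    have hsplit := Finset.card_eq_sum_card_fiberwise hmaps'
    have hTx : (U.filter fun u => x ∈ X v u).card = 2 ^ dm x - 2 := by
      simp only [dm]
      rw [← card_indep_right (show v ∈ X v x ⊓ S from ⟨hX.mem_left v x hvx, hX.mem_left v w hvw⟩)
        hvw.1, Nat.card_eq_fintype_card, Fintype.card_subtype]
      congr 1
      ext u
      simp only [U, Finset.mem_filter, Finset.mem_univ, true_and, Submodule.mem_inf]
      constructor
      · rintro ⟨⟨huS, hvu, -, -⟩, hxu⟩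
        exact ⟨⟨hX.plane v u x hvu hvx hxu, huS⟩, hvu⟩
      · rintro ⟨⟨hux, huS⟩, hvu⟩
        refine ⟨⟨huS, hvu, fun e => hxS ?_, fun e => hxS ?_⟩, hX.plane v x u hvx hvu hux⟩
        · exact hX.plane v x w hvx hvw (e ▸ hux)
        · refine hX.plane v x w hvx hvw ?_
          have := add_mem (hX.mem_left v x hvx) (e ▸ hux)
          rwa [← add_assoc, add_self_v, zero_add] at this
    have e : ∀ i, (U.filter fun u => x ∈ X v u).filter (fun u => dm u = i) = T i x := fun i => by
      simp only [T, Finset.filter_filter]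
    simp only [e] at hsplit
    rw [hTx] at hsplit
    have hI : Finset.Icc 5 10 = ({5, 6, 7, 8, 9, 10} : Finset ℕ) := by decide
    rw [hI] at hsplit hsplitU
    simp only [Finset.sum_insert, Finset.mem_insert, Finset.mem_singleton, Finset.sum_singleton,
      Nat.reduceEqDiff, or_self, not_false_eq_true] at hsplit hsplitU
    exact profile_arith (heven 10 x) (heven 9 x) (heven 8 x) (heven 7 x) (heven 6 x) (heven 5 x)
      (hcount 10 x hx) (hcount 9 x hx) (hcount 8 x hx) (hcount 7 x hx) (hcount 6 x hx)
      (hcount 5 x hx) (by omega) (hdm x hvx hxne).1 (by omega)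
  obtain ⟨x₀, hx₀⟩ : O.Nonempty := Finset.card_pos.1 (by omega)
  obtain ⟨-, h10, h9, h8, h7, h6⟩ := houtside x₀ hx₀
  have hzero : ∀ i, (U.filter fun u => dm u = i).card = 0 → ∀ u ∈ U, dm u ≠ i := fun i hi u hu e =>
    Finset.notMem_empty u (Finset.card_eq_zero.1 hi ▸ Finset.mem_filter.2 ⟨hu, e⟩)
  have hclsdm : ∀ z, z = w ∨ z = v + w → dm z = 11 := by
    intro z hz
    have : X v z = S := by
      rcases hz with rfl | rfl
      · rfl
      · exact hX.add_right v w hvw
    simp only [dm]
    rw [this, inf_idem, hSr]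
  have hall : ∀ z, Indep2 v z → dm z = 5 ∨ 10 ≤ dm z := by
    intro z hz
    by_cases hzS : z ∈ S
    swap
    · exact Or.inl (houtside z (Finset.mem_filter.2 ⟨Finset.mem_univ _, hzS⟩)).1
    by_cases hzw : z = w ∨ z = v + w
    · exact Or.inr (by rw [hclsdm z hzw]; norm_num)
    rw [not_or] at hzw
    have hu : z ∈ U := Finset.mem_filter.2 ⟨Finset.mem_univ _, hzS, hz, hzw.1, hzw.2⟩
    have := hUdm z hu
    have := hzero 9 h9 z hu
    have := hzero 8 h8 z hu
    have := hzero 7 h7 z hu
    have := hzero 6 h6 z hu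
    omega
  refine ⟨hall, ?_⟩
  have hset : (Finset.univ.filter fun z => Indep2 v z ∧ 10 ≤ dm z) =
      (U.filter fun u => dm u = 10) ∪ {w, v + w} := by
    ext z
    simp only [Finset.mem_filter, Finset.mem_univ, true_and, Finset.mem_union, Finset.mem_insert,
      Finset.mem_singleton]
    constructor
    · rintro ⟨hz, hd⟩
      by_cases hzw : z = w ∨ z = v + w
      · exact Or.inr hzw
      have hzS : z ∈ S := by
        by_contra hzS
        have := (houtside z (Finset.mem_filter.2 ⟨Finset.mem_univ _, hzS⟩)).1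
        omega
      rw [not_or] at hzw
      have hu : z ∈ U := Finset.mem_filter.2 ⟨Finset.mem_univ _, hzS, hz, hzw.1, hzw.2⟩
      have := hUdm z hu
      exact Or.inl ⟨hu, by omega⟩
    · rintro (⟨hu, hd⟩ | h)
      · exact ⟨(Finset.mem_filter.1 hu).2.2.1, by omega⟩
      · refine ⟨?_, by rw [hclsdm z h]; norm_num⟩
        rcases h with rfl | rfl
        exacts [hvw, hvw.add_right]
  rw [Nat.card_eq_fintype_card, Fintype.card_subtype]
  show (Finset.univ.filter fun z => Indep2 v z ∧ 10 ≤ dm z).card = 254
  rw [hset, Finset.card_union_of_disjoint, h10,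
    Finset.card_pair fun e => hvw.1 (right_eq_add.1 e)]
  rw [Finset.disjoint_left]
  intro z hz hz'
  obtain ⟨hu, -⟩ := Finset.mem_filter.1 hz
  obtain ⟨-, -, -, h1, h2⟩ := Finset.mem_filter.1 hu
  rcases Finset.mem_insert.1 hz' with e | e
  exacts [h1 e, h2 (Finset.mem_singleton.1 e)]

/-- Dimension seventeen with codimension six and line classes is impossible. -/
theorem not_xdata_seventeen_of_cls : False := by
  classical
  have := Fintype.ofFinite V
  have : Nontrivial V := Module.nontrivial_of_finrank_pos (R := ZMod 2) (by omega)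
  obtain ⟨v, hv⟩ := exists_ne (0 : V)
  let Rel : V → V → Prop := fun y z => 10 ≤ finrank (ZMod 2) ↥(X v z ⊓ X v y)
  have hsymm : ∀ {y z}, Rel y z → Rel z y := fun {y z} h => by
    simp only [Rel] at h ⊢
    rwa [inf_comm]
  have htrans : ∀ {a b c}, Indep2 v a → Indep2 v b → Indep2 v c → Rel a b → Rel b c → Rel a c := by
    intro a b c ha hb hc h1 h2
    rcases (profile_seventeen hn hX hcls ha).1 c hc with h5 | h10
    · exfalso
      have h3 := Submodule.finrank_sup_add_finrank_inf_eq (X v b ⊓ X v a) (X v c ⊓ X v b)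
      have h4 := Submodule.finrank_mono (show (X v b ⊓ X v a) ⊔ (X v c ⊓ X v b) ≤ X v b from
        sup_le inf_le_left inf_le_right)
      have h6 := Submodule.finrank_mono (show (X v b ⊓ X v a) ⊓ (X v c ⊓ X v b) ≤ X v c ⊓ X v a from
        fun z hz => ⟨hz.2.1, hz.1.2⟩)
      rw [hX.finrank_eq v b hb] at h4
      simp only [Rel] at h1 h2
      omega
    · exact h10
  have hrefl : ∀ {z}, Indep2 v z → Rel z z := fun {z} hz => by
    simp only [Rel]
    rw [inf_idem, hX.finrank_eq v z hz]
    norm_num
  let f : {z : V // z ∈ (⊤ : Submodule (ZMod 2) V) ∧ Indep2 v z} → Set V :=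
    fun y => {z | Indep2 v z ∧ Rel y.1 z}
  have h254 : 254 ∣ Nat.card {z : V // z ∈ (⊤ : Submodule (ZMod 2) V) ∧ Indep2 v z} := by
    refine card_dvd_of_fibres f fun y => ?_
    refine (Nat.card_congr (?_ : _ ≃ {z // Indep2 v z ∧ 10 ≤ finrank (ZMod 2) ↥(X v z ⊓ X v y.1)})).trans
      (profile_seventeen hn hX hcls y.2.2).2
    exact
      { toFun := fun z => ⟨z.1.1, by
          have h : z.1.1 ∈ f z.1 := ⟨z.1.2.2, hrefl z.1.2.2⟩
          rw [z.2] at h
          exact h⟩
        invFun := fun z => ⟨⟨z.1, trivial, z.2.1⟩, Set.ext fun u =>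
          ⟨fun h => ⟨h.1, htrans y.2.2 z.2.1 h.1 z.2.2 h.2⟩,
            fun h => ⟨h.1, htrans z.2.1 y.2.2 h.1 (hsymm z.2.2) h.2⟩⟩⟩
        left_inv := fun z => rfl
        right_inv := fun z => rfl }
  rw [card_indep_right Submodule.mem_top hv, finrank_top, hn] at h254
  norm_num at h254

end CfsgLib.TransGL
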