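import Cfsg.Agent.Lib.TransGL.Reduce
import Cfsg.Agent.Lib.TransGL.Fpf

/-!
# Small dimensions (S4179)
-/

set_option autoImplicit false
set_option linter.style.haveILetI false
set_option linter.unusedSectionVars false

namespace CfsgLib.TransGL

open Module MulAction

variable {V : Type*} [AddCommGroup V] [Module (ZMod 2) V] [Finite V] {H : Subgroup (LAut V)}

/-- In dimension two a pair transitive group is everything. -/
theorem eq_top_of_two (hn : finrank (ZMod 2) V = 2) (h2 : Pair2 H) : H = ⊤ := by
  refine eq_top_iff.2 fun g _ => ?_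
  haveI : Nontrivial V := Module.nontrivial_of_finrank_pos (R := ZMod 2) (by omega)
  obtain ⟨a, ha⟩ := exists_ne (0 : V)
  obtain ⟨b, hab⟩ := exists_indep hn.ge ha
  obtain ⟨h, hh, h1, h1'⟩ := h2 a b (g a) (g b) hab (hab.map g)
  have htop : Submodule.span (ZMod 2) {a} ⊔ Submodule.span (ZMod 2) {b} = ⊤ := by
    refine Submodule.eq_top_of_finrank_eq ?_
    have hlt : Submodule.span (ZMod 2) {a} < Submodule.span (ZMod 2) {a} ⊔ Submodule.span (ZMod 2) {b} :=
      lt_of_le_of_ne le_sup_left fun e => by
        have : b ∈ Submodule.span (ZMod 2) {a} := by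
          rw [e]; exact Submodule.mem_sup_right (Submodule.mem_span_singleton_self b)
        rw [mem_span_one] at this
        rcases this with e' | e'
        exacts [hab.2.1 e', hab.2.2 e'.symm]
    have h3 := Submodule.finrank_lt_finrank_of_lt hlt
    rw [finrank_span_singleton ha] at h3
    have h4 := Submodule.finrank_le (Submodule.span (ZMod 2) {a} ⊔ Submodule.span (ZMod 2) {b})
    omega
  have : g = h := LinearEquiv.ext fun x => by
    have hx : x ∈ Submodule.span (ZMod 2) {a} ⊔ Submodule.span (ZMod 2) {b} := by rw [htop]; trivial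
    obtain ⟨p, hp, q, hq, rfl⟩ := Submodule.mem_sup.1 hx
    rcases mem_span_one.1 hp with rfl | rfl <;> rcases mem_span_one.1 hq with rfl | rfl <;>
      simp [map_add, h1, h1']
  exact this ▸ hh

/-- In dimension three every involution is a transvection. -/
theorem exists_isTv_of_dim_three (hn : finrank (ZMod 2) V = 3) (h2 : Pair2 H) : ∃ t ∈ H, IsTv t := by
  haveI : Nontrivial V := Module.nontrivial_of_finrank_pos (R := ZMod 2) (by omega)
  obtain ⟨a, ha⟩ := exists_ne (0 : V)
  obtain ⟨b, hab⟩ := exists_indep (by omega) ha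
  obtain ⟨g, hg, hga, hgb⟩ := h2 a b b a hab hab.swap
  have heven : 2 ∣ orderOf g := by
    by_contra h
    obtain ⟨m, hm⟩ := Nat.odd_iff.2 (by omega : orderOf g % 2 = 1)
    have h1 : g ^ (2 * m + 1) = 1 := hm ▸ pow_orderOf_eq_one g
    have hsw : ∀ i, (g ^ (2 * i)) a = a := by
      intro i
      induction i with
      | zero => rfl
      | succ i ih =>
        rw [show 2 * (i + 1) = 2 * i + 1 + 1 by ring, pow_succ, pow_succ]
        simp only [symm_apply_mul, hga, hgb, ih]
    rw [pow_succ'] at h1
    have h2' := LinearEquiv.congr_fun h1 a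
    rw [symm_apply_mul, hsw m, hga] at h2'
    exact hab.2.2 h2'.symm
  obtain ⟨m, hm⟩ := heven
  have hm0 : 0 < m := by have := orderOf_pos g; omega
  have ht1 : g ^ m ≠ 1 := fun e => by
    have := Nat.le_of_dvd hm0 (orderOf_dvd_of_pow_eq_one e)
    omega
  have ht2 : ∀ x, (g ^ m) ((g ^ m) x) = x := fun x => by
    rw [← symm_apply_mul, ← pow_add, ← two_mul, ← hm, pow_orderOf_eq_one]
    rfl
  refine ⟨g ^ m, pow_mem hg m, ht1, ?_⟩
  set α : V →ₗ[ZMod 2] V := ((g ^ m : LAut V) : V →ₗ[ZMod 2] V) + LinearMap.id with hα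
  have hle : LinearMap.range α ≤ LinearMap.ker α := by
    rintro _ ⟨x, rfl⟩
    simp only [hα, LinearMap.mem_ker, LinearMap.add_apply, LinearEquiv.coe_coe, LinearMap.id_apply, map_add, ht2]
    rw [add_comm x, add_self_v]
  have h1 := LinearMap.finrank_range_add_finrank_ker α
  have h3 := Submodule.finrank_mono hle
  obtain ⟨x₀, hx₀⟩ : ∃ x, α x ≠ 0 := by
    by_contra h
    push Not at h
    refine ht1 (LinearEquiv.ext fun x => ?_)
    exact add_eq_zero_v (h x)
  have he : Submodule.span (ZMod 2) {α x₀} = LinearMap.range α :=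
    Submodule.eq_of_le_of_finrank_le ((Submodule.span_singleton_le_iff_mem _ _).2 ⟨x₀, rfl⟩)
      (by rw [finrank_span_singleton hx₀]; omega)
  refine ⟨α x₀, fun x => ?_⟩
  have hx : α x ∈ Submodule.span (ZMod 2) {α x₀} := by rw [he]; exact ⟨x, rfl⟩
  rcases mem_span_one.1 hx with e | e
  · exact Or.inl (add_eq_zero_v e)
  · refine Or.inr ?_
    rw [← e]
    simp only [hα, LinearMap.add_apply, LinearEquiv.coe_coe, LinearMap.id_apply]
    rw [add_comm, add_assoc, add_self_v, add_zero]

theorem HyperForm.swap {B : V → V → V → ZMod 2} {ε : ZMod 2} (hB : HyperForm H B ε) (x y z : V) :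
    B x y z = B x z y := by
  have h := hB.alt x (y + z)
  rw [hB.add_mid, hB.add_last, hB.add_last, hB.alt, hB.alt, zero_add, add_zero] at h
  rcases zmod_two_cases (B x y z) with e | e <;> rcases zmod_two_cases (B x z y) with e' | e' <;>
    rw [e, e'] at h ⊢ <;> revert h <;> decide

theorem orderOf_two_mod_seven : orderOf (2 : ZMod 7) = 3 := by
  haveI : Fact (Nat.Prime 3) := ⟨Nat.prime_three⟩
  exact orderOf_eq_prime (by decide) (by decide)

/-- In dimension five there is no trilinear form. -/
theorem not_hyperForm_five {B : V → V → V → ZMod 2} {ε : ZMod 2} (hn : finrank (ZMod 2) V = 5)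
    (h2 : Pair2 H) (hB : HyperForm H B ε) : False := by
  obtain ⟨a, b, c, habc⟩ := hB.nondeg
  have hab : Indep2 a b := by
    refine ⟨fun e => habc (by rw [e]; exact hB.zero_first b c), fun e => habc ?_,
      fun e => habc (by rw [e]; exact hB.diag_left b c)⟩
    have h := hB.add_mid a 0 0 c
    rw [add_zero] at h
    rw [e]
    rcases zmod_two_cases (B a 0 c) with e' | e' <;> rw [e'] at h ⊢
    exact absurd h (by decide)
  have h7 := seven_dvd_pstab hn h2 a b hab
  haveI : Fact (Nat.Prime 7) := ⟨by norm_num⟩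
  obtain ⟨g, hg⟩ := exists_prime_orderOf_dvd_card' 7 h7
  rw [← Subgroup.orderOf_coe] at hg
  set h : LAut V := (g : LAut V)
  obtain ⟨hH, hha, hhb⟩ := g.2
  let K : Submodule (ZMod 2) V :=
    { carrier := {z | B a b z = 0}
      zero_mem' := by
        show B a b 0 = 0
        have h := hB.add_last a b 0 0
        rw [add_zero] at h
        rcases zmod_two_cases (B a b 0) with e | e <;> rw [e] at h ⊢
        exact absurd h (by decide)
      add_mem' := fun {x y} hx hy => by
        show B a b (x + y) = 0
        rw [hB.add_last, hx, hy, add_zero]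
      smul_mem' := fun t x hx => by
        rcases zmod_two_cases t with rfl | rfl
        · show B a b ((0 : ZMod 2) • x) = 0
          have h := hB.add_last a b 0 0
          rw [add_zero] at h
          rw [zero_smul]
          rcases zmod_two_cases (B a b 0) with e | e <;> rw [e] at h ⊢
          exact absurd h (by decide)
        · show B a b ((1 : ZMod 2) • x) = 0
          rw [one_smul]; exact hx }
  have haK : a ∈ K := by
    show B a b a = 0
    rw [hB.swap, hB.diag_left]
  have hbK : b ∈ K := hB.alt a b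
  have hcK : c ∉ K := habc
  have hKinv : ∀ z, h z ∈ K ↔ z ∈ K := fun z => by
    have := hB.equiv h hH a b z
    rw [hha, hhb] at this
    show B a b (h z) = 0 ↔ B a b z = 0
    rw [this]
  -- a group of order seven fixes the whole space
  set R := Subgroup.zpowers h
  have hR : IsPGroup 7 R := IsPGroup.of_card (n := 1) (by rw [Nat.card_zpowers, hg, pow_one])
  obtain ⟨U, hc, hinv, hfpf, hsplit⟩ := exists_compl (by norm_num) hR
  have hfix : ∀ x, h x = x → x ∈ fixSub R := fun x hx g' hg' => by
    obtain ⟨i, rfl⟩ := (isOfFinOrder_of_finite h).mem_powers_iff_mem_zpowers.2 hg'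
    induction i with
    | zero => rfl
    | succ i ih =>
      show (h ^ (i + 1)) x = x
      rw [pow_succ, symm_apply_mul, hx]
      exact ih ((isOfFinOrder_of_finite h).mem_powers_iff_mem_zpowers.1 ⟨i, rfl⟩)
  have hord : orderOf (2 : ZMod 7) = 3 := orderOf_two_mod_seven
  have hKR : ∀ g' ∈ R, ∀ x ∈ K, g' x ∈ K := fun g' hg' => by
    obtain ⟨i, rfl⟩ := (isOfFinOrder_of_finite h).mem_powers_iff_mem_zpowers.2 hg'
    induction i with
    | zero => exact fun x hx => hx
    | succ i ih =>
      intro x hx
      show (h ^ (i + 1)) x ∈ K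
      rw [pow_succ, symm_apply_mul]
      exact ih ((isOfFinOrder_of_finite h).mem_powers_iff_mem_zpowers.1 ⟨i, rfl⟩) _ ((hKinv x).2 hx)
  have hnU : ∀ x ∈ U, ∀ g' ∈ R, g' x ∈ U := fun x hx g' hg' => hinv g' (fun y => ⟨fun hy => by
      have := mul_mem (mul_mem (inv_mem hg') hy) hg'
      rwa [show g'⁻¹ * (g' * y * g'⁻¹) * g' = y by group] at this,
      fun hy => mul_mem (mul_mem hg' hy) (inv_mem hg')⟩) x hx
  -- the fixed part has dimension at least two, the rest is a multiple of three
  have h3 := dvd_finrank hord hR U (fun g' hg' x hx => hnU x hx g' hg') hfpf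
  have h3K := dvd_finrank hord hR (K ⊓ U) (fun g' hg' x hx => ⟨hKR g' hg' x hx.1, hnU x hx.2 g' hg'⟩)
    fun x hx hfx => hfpf x hx.2 hfx
  have hsK := hsplit K hKR
  have hsum := Submodule.finrank_add_eq_of_isCompl hc
  have hne1 : finrank (ZMod 2) U ≠ 0 := fun e => by
    have hbot := Submodule.finrank_eq_zero.1 e
    have h1 : h = 1 := LinearEquiv.ext fun x => by
      obtain ⟨p, hp, q, hq, rfl⟩ :=
        Submodule.mem_sup.1 (hc.sup_eq_top.symm ▸ Submodule.mem_top : x ∈ fixSub R ⊔ U)
      rw [hbot, Submodule.mem_bot] at hq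
      rw [hq, add_zero]
      exact hp h (Subgroup.mem_zpowers h)
    rw [h1, orderOf_one] at hg
    omega
  have h2F : 2 ≤ finrank (ZMod 2) ↥(K ⊓ fixSub R) := by
    have hlt : Submodule.span (ZMod 2) {a} < K ⊓ fixSub R := by
      refine lt_of_le_of_ne ((Submodule.span_singleton_le_iff_mem _ _).2 ⟨haK, hfix a hha⟩) fun e => ?_
      have : b ∈ Submodule.span (ZMod 2) {a} := by rw [e]; exact ⟨hbK, hfix b hhb⟩
      rw [mem_span_one] at this
      rcases this with e' | e'
      exacts [hab.2.1 e', hab.2.2 e'.symm]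
    have := Submodule.finrank_lt_finrank_of_lt hlt
    rw [finrank_span_singleton hab.1] at this
    omega
  have h4 := Submodule.finrank_mono (inf_le_right : K ⊓ fixSub R ≤ fixSub R)
  have h5 := Submodule.finrank_mono (inf_le_right : K ⊓ U ≤ U)
  have hKlt : finrank (ZMod 2) K < 5 := by
    have h6 := Submodule.finrank_lt (show K ≠ ⊤ from fun e => hcK (e ▸ Submodule.mem_top))
    omega
  have hK4 : 4 ≤ finrank (ZMod 2) K := by
    have h1 : (K ⊔ Submodule.span (ZMod 2) {c}) = ⊤ := by
      refine eq_top_iff.2 fun z _ => ?_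
      rcases zmod_two_cases (B a b z) with e | e
      · exact Submodule.mem_sup_left e
      · have hzc : z + c ∈ K := by
          show B a b (z + c) = 0
          rw [hB.add_last, e, (zmod_two_cases (B a b c)).resolve_left habc]
          decide
        rw [show z = (z + c) + c by rw [add_assoc, add_self_v, add_zero]]
        exact Submodule.add_mem_sup hzc (Submodule.mem_span_singleton_self c)
    have h6 := Submodule.finrank_add_le_finrank_add_finrank K (Submodule.span (ZMod 2) {c})
    rw [h1, finrank_top, hn] at h6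
    have h7 : finrank (ZMod 2) (Submodule.span (ZMod 2) {c}) ≤ 1 := by
      simpa using finrank_span_le_card (R := ZMod 2) ({c} : Set V)
    omega
  omega

end CfsgLib.TransGL
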