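import Cfsg.Agent.Lib.TransGL.Descent
import Cfsg.Agent.Lib.TransGL.Small
import Cfsg.Agent.Lib.TransGL.Singer
import Cfsg.Agent.Lib.TransGL.Six
import Cfsg.Agent.Lib.TransGL.SixCount
import Cfsg.Agent.Lib.Recog.ZsigmondyPrime

/-!
# Pair transitive groups in Mersenne prime dimension (S4179)
-/

set_option autoImplicit false
set_option linter.style.haveILetI false

namespace CfsgLib.TransGL

open Module

variable {V : Type*} [AddCommGroup V] [Module (ZMod 2) V] [Finite V] {H : Subgroup (LAut V)}

theorem eq_top_of_pair2 {n : ℕ} (hn : finrank (ZMod 2) V = n) (hp : (2 ^ n - 1).Prime) (h2 : Pair2 H)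
    (g : LAut V) (hgH : g ∈ H) (hg : orderOf g = 2 ^ n - 1) : H = ⊤ := by
  obtain ⟨hnp, -⟩ := prime_exp hp
  rcases Nat.lt_or_ge n 3 with hlt | h3
  · exact eq_top_of_two (by have := hnp.two_le; omega) h2
  have hodd : Odd n := hnp.odd_of_ne_two (by omega)
  suffices ∃ t ∈ H, IsTv t by
    obtain ⟨t, ht, htv⟩ := this
    exact eq_top_of_isTv h2 (by omega) ht htv
  rcases exists_structure h2 (by omega) with ⟨X, k, hX⟩ | ⟨B, ε, hB⟩
  · have h3d := le_three_mul_codim hX hn hp g hgH hg
    have hk2 := hX.add_two_le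
    have hk := hX.two_le
    rw [hn] at hk2
    by_cases h6 : n - k = 6
    · exfalso
      have h18 : n ≤ 18 := by omega
      have h8 : 8 ≤ n := by omega
      have hcase : n = 13 ∨ n = 17 := by
        rcases (show n = 8 ∨ n = 9 ∨ n = 10 ∨ n = 11 ∨ n = 12 ∨ n = 13 ∨ n = 14 ∨ n = 15 ∨ n = 16 ∨
          n = 17 ∨ n = 18 by omega) with h | h | h | h | h | h | h | h | h | h | h <;> subst h <;>
          first
          | exact Or.inl rfl
          | exact Or.inr rfl
          | exact absurd hnp (by decide)
          | (norm_num at hp)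
      rcases hcase with rfl | rfl
      · obtain rfl : k = 7 := by omega
        exact not_xdata_thirteen hn hX
      · obtain rfl : k = 11 := by omega
        exact not_xdata_seventeen_of_cls hn hX fun a b hab => cls_finrank_seventeen hn hX a b hab
    obtain ⟨r, hr, hord⟩ : ∃ r : ℕ, r.Prime ∧ orderOf (2 : ZMod r) = n - k := by
      rcases Nat.lt_or_ge (n - k) 3 with hd | hd
      · refine ⟨3, Nat.prime_three, ?_⟩
        haveI : Fact (Nat.Prime 2) := ⟨Nat.prime_two⟩
        rw [show n - k = 2 by omega]
        exact orderOf_eq_prime (by rfl) (by decide)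
      · obtain ⟨r, hr, hord⟩ := CfsgLib.Recog.ZsigmondyPrime.exists_primitive_prime le_rfl hd
          (fun h => h6 h.2)
        exact ⟨r, hr, by simpa using hord⟩
    haveI := Fact.mk hr
    exact exists_isTv_of_xdata hX (by rw [hn, hord]) (by rw [hn]; exact h3d) (by rwa [hn])
  · rcases Nat.lt_or_ge n 7 with hlt | h7
    · have : n = 3 ∨ n = 5 := by
        obtain ⟨i, hi⟩ := hodd
        omega
      rcases this with rfl | rfl
      · exact exists_isTv_of_dim_three hn h2
      · exact (not_hyperForm_five hn h2 hB).elim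
    · exact (not_hyperForm hB hn h7 hp g hgH hg).elim

end CfsgLib.TransGL
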