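import Cfsg.Agent.Lib.TransGL.Fpf

/-!
# Consequences of the line data (S4179)

The classes `cls X a b` of points `z` with `X a z = X a b`, their arithmetic, and the descent to the
fixed vectors of a Sylow subgroup of the stabilizer of two vectors.
-/

set_option autoImplicit false
set_option linter.style.haveILetI false
set_option linter.unusedSectionVars false

namespace CfsgLib.TransGL

open Module MulAction

variable {V : Type*} [AddCommGroup V] [Module (ZMod 2) V] [Finite V]
  {H : Subgroup (LAut V)} {X : V → V → Submodule (ZMod 2) V} {k : ℕ}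

theorem XData.mem_right (hX : XData H X k) {a b : V} (hab : Indep2 a b) : b ∈ X a b := by
  rw [hX.symm a b hab]
  exact hX.mem_left b a hab.swap

theorem XData.indep_of_not_mem (hX : XData H X k) {a b c : V} (hab : Indep2 a b) (hc : c ∉ X a b) :
    Indep2 a c :=
  ⟨hab.1, fun e => hc (e ▸ zero_mem _), fun e => hc (e ▸ hX.mem_left a b hab)⟩

theorem XData.map_mem_iff (hX : XData H X k) {h : LAut V} (hh : h ∈ H) {a b z : V} (hab : Indep2 a b) :
    h z ∈ X (h a) (h b) ↔ z ∈ X a b := by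
  rw [← hX.map_eq h hh a b hab]
  exact ⟨fun ⟨w, hw, e⟩ => h.injective e ▸ hw, fun hz => ⟨z, hz, rfl⟩⟩

theorem XData.mem_add (hX : XData H X k) {a b c z : V} (hab : Indep2 a b) (hac : Indep2 a c)
    (hbc : Indep2 a (b + c)) (h1 : z ∈ X a b) (h2 : z ∈ X a c) : z ∈ X a (b + c) := by
  by_cases hz0 : z = 0
  · rw [hz0]; exact zero_mem _
  by_cases hza : a = z
  · rw [← hza]; exact hX.mem_left a _ hbc
  have haz : Indep2 a z := ⟨hab.1, hz0, hza⟩
  exact hX.plane a z (b + c) haz hbc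
    (add_mem (hX.plane a b z hab haz h1) (hX.plane a c z hac haz h2))

theorem XData.eq_add (hX : XData H X k) {a b c : V} (hab : Indep2 a b) (hac : Indep2 a c)
    (hbc : Indep2 a (b + c)) (h : X a b = X a c) : X a (b + c) = X a b :=
  (Submodule.eq_of_le_of_finrank_le (fun _ hz => hX.mem_add hab hac hbc hz (h ▸ hz))
    (by rw [hX.finrank_eq a b hab, hX.finrank_eq a _ hbc])).symm

/-- The span of the points of the same kind as `b` seen from `a`. -/
def cls (X : V → V → Submodule (ZMod 2) V) (a b : V) : Submodule (ZMod 2) V :=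
  Submodule.span (ZMod 2) {z | z = a ∨ (Indep2 a z ∧ X a z = X a b)}

theorem XData.mem_cls (hX : XData H X k) {a b z : V} (hab : Indep2 a b) :
    z ∈ cls X a b ↔ z = 0 ∨ z = a ∨ (Indep2 a z ∧ X a z = X a b) := by
  refine ⟨fun hz => ?_, fun hz => ?_⟩
  swap
  · rcases hz with rfl | h
    · exact zero_mem _
    · exact Submodule.subset_span h
  have hshift : ∀ w, Indep2 a w → X a w = X a b → Indep2 a (a + w) ∧ X a (a + w) = X a b :=
    fun w hw e => ⟨hw.add_right, (hX.add_right a w hw).trans e⟩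
  refine Submodule.span_induction (p := fun z _ => z = 0 ∨ z = a ∨ (Indep2 a z ∧ X a z = X a b))
    ?_ ?_ ?_ ?_ hz
  · exact fun w hw => Or.inr hw
  · exact Or.inl rfl
  · rintro w w' - - (rfl | rfl | ⟨hw, e⟩) h'
    · simpa using h'
    · rcases h' with rfl | rfl | ⟨hw', e'⟩
      · exact Or.inr (Or.inl (add_zero _))
      · exact Or.inl (add_self_v _)
      · exact Or.inr (Or.inr (hshift w' hw' e'))
    · rcases h' with rfl | rfl | ⟨hw', e'⟩
      · exact Or.inr (Or.inr ⟨by rwa [add_zero], by rwa [add_zero]⟩)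
      · rw [add_comm]
        exact Or.inr (Or.inr (hshift w hw e))
      · by_cases h0 : w + w' = 0
        · exact Or.inl h0
        by_cases ha : w + w' = a
        · exact Or.inr (Or.inl ha)
        have hi : Indep2 a (w + w') := ⟨hab.1, h0, Ne.symm ha⟩
        exact Or.inr (Or.inr ⟨hi, (hX.eq_add hw hw' hi (e.trans e'.symm)).trans e⟩)
  · intro c w _ h
    rcases zmod_two_cases c with rfl | rfl
    · exact Or.inl (zero_smul _ _)
    · rwa [one_smul]

theorem XData.mem_cls_iff (hX : XData H X k) {a b z : V} (hab : Indep2 a b) (haz : Indep2 a z) :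
    z ∈ cls X a b ↔ X a z = X a b := by
  rw [hX.mem_cls hab]
  exact ⟨fun h => by
    rcases h with e | e | h
    · exact absurd e haz.2.1
    · exact absurd e.symm haz.2.2
    · exact h.2, fun h => Or.inr (Or.inr ⟨haz, h⟩)⟩

theorem XData.left_mem_cls (hX : XData H X k) {a b : V} (hab : Indep2 a b) : a ∈ cls X a b :=
  (hX.mem_cls hab).2 (Or.inr (Or.inl rfl))

theorem XData.self_mem_cls (hX : XData H X k) {a b : V} (hab : Indep2 a b) : b ∈ cls X a b :=
  (hX.mem_cls hab).2 (Or.inr (Or.inr ⟨hab, rfl⟩))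

theorem XData.cls_le (hX : XData H X k) {a b : V} (hab : Indep2 a b) : cls X a b ≤ X a b := by
  intro z hz
  rcases (hX.mem_cls hab).1 hz with rfl | rfl | ⟨hz', e⟩
  · exact zero_mem _
  · exact hX.mem_left _ b hab
  · exact e ▸ hX.mem_right hz'

theorem XData.cls_eq_of_eq (hX : XData H X k) {a b c : V} (hab : Indep2 a b) (hac : Indep2 a c)
    (h : X a c = X a b) : cls X a c = cls X a b := by
  ext z
  rw [hX.mem_cls hab, hX.mem_cls hac, h]

theorem XData.cls_eq_of_mem (hX : XData H X k) {a b c : V} (hab : Indep2 a b) (hac : Indep2 a c)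
    (h : c ∈ cls X a b) : cls X a c = cls X a b :=
  hX.cls_eq_of_eq hab hac ((hX.mem_cls_iff hab hac).1 h)

theorem XData.cls_map (hX : XData H X k) {h : LAut V} (hh : h ∈ H) {a b : V} (hab : Indep2 a b) :
    (cls X a b).map (h : V →ₗ[ZMod 2] V) = cls X (h a) (h b) := by
  ext z
  rw [hX.mem_cls (hab.map h), Submodule.mem_map]
  constructor
  · rintro ⟨w, hw, rfl⟩
    rcases (hX.mem_cls hab).1 hw with rfl | rfl | ⟨hw', e⟩
    · exact Or.inl (map_zero h)
    · exact Or.inr (Or.inl rfl)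
    · refine Or.inr (Or.inr ⟨hw'.map h, ?_⟩)
      show X (h a) (h w) = _
      rw [← hX.map_eq h hh a w hw', ← hX.map_eq h hh a b hab, e]
  · intro hz
    refine ⟨h.symm z, (hX.mem_cls hab).2 ?_, LinearEquiv.apply_symm_apply _ _⟩
    rcases hz with rfl | rfl | ⟨hz', e⟩
    · exact Or.inl (map_zero h.symm)
    · exact Or.inr (Or.inl (LinearEquiv.symm_apply_apply _ _))
    · have hi : Indep2 a (h.symm z) := by simpa using hz'.map h.symm
      refine Or.inr (Or.inr ⟨hi, Submodule.map_injective_of_injective (f := (h : V →ₗ[ZMod 2] V)) h.injective ?_⟩)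
      rw [hX.map_eq h hh a b hab, hX.map_eq h hh a _ hi, LinearEquiv.apply_symm_apply, e]

theorem XData.cls_finrank (hX : XData H X k) {a b c e : V} (hab : Indep2 a b) (hce : Indep2 c e) :
    finrank (ZMod 2) (cls X c e) = finrank (ZMod 2) (cls X a b) := by
  obtain ⟨h, hh, rfl, rfl⟩ := hX.pair2 a b c e hab hce
  rw [← hX.cls_map hh hab, LinearEquiv.finrank_map_eq]

theorem XData.two_le_finrank_cls (hX : XData H X k) {a b : V} (hab : Indep2 a b) :
    2 ≤ finrank (ZMod 2) (cls X a b) := by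
  have hlt : Submodule.span (ZMod 2) {a} < cls X a b := by
    refine lt_of_le_of_ne ((Submodule.span_singleton_le_iff_mem _ _).2 (hX.left_mem_cls hab)) fun e => ?_
    have := hX.self_mem_cls hab
    rw [← e, mem_span_one] at this
    rcases this with e' | e'
    exacts [hab.2.1 e', hab.2.2 e'.symm]
  have := Submodule.finrank_lt_finrank_of_lt hlt
  rw [finrank_span_singleton hab.1] at this
  omega

theorem finrank_add_le_of_inf {a : V} (ha : a ≠ 0) {A B S : Submodule (ZMod 2) V} (hA : A ≤ S) (hB : B ≤ S)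
    (h : ∀ z ∈ A, z ∈ B → z = 0 ∨ z = a) :
    finrank (ZMod 2) A + finrank (ZMod 2) B ≤ finrank (ZMod 2) S + 1 := by
  have h1 := Submodule.finrank_sup_add_finrank_inf_eq A B
  have h2 := Submodule.finrank_mono (show A ⊔ B ≤ S from sup_le hA hB)
  have h3 := Submodule.finrank_mono (show A ⊓ B ≤ Submodule.span (ZMod 2) {a} from
    fun z hz => mem_span_one.2 (h z hz.1 hz.2))
  rw [finrank_span_singleton ha] at h3
  omega

theorem XData.cls_inf (hX : XData H X k) {a b c : V} (hab : Indep2 a b) (hac : Indep2 a c)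
    (hne : X a c ≠ X a b) : ∀ z ∈ cls X a b, z ∈ cls X a c → z = 0 ∨ z = a := by
  intro z hz hz'
  rcases (hX.mem_cls hab).1 hz with e | e | ⟨hz1, e⟩
  · exact Or.inl e
  · exact Or.inr e
  · exact absurd (((hX.mem_cls_iff hac hz1).1 hz').symm.trans e) hne

/-! ### Counting -/

theorem card_indep_right {S : Submodule (ZMod 2) V} {a : V} (ha : a ∈ S) (ha0 : a ≠ 0) :
    Nat.card {x : V // x ∈ S ∧ Indep2 a x} = 2 ^ finrank (ZMod 2) S - 2 := by
  classical
  haveI := Fintype.ofFinite V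
  rw [Nat.card_eq_fintype_card, Fintype.card_subtype,
    show (Finset.univ.filter fun x => x ∈ S ∧ Indep2 a x) =
      ((Finset.univ.filter fun x => x ∈ S).erase 0).erase a by
      ext x
      simp [Indep2, ha0, and_comm, and_assoc, eq_comm]]
  have hc : (Finset.univ.filter fun x => x ∈ S).card = 2 ^ finrank (ZMod 2) S := by
    rw [← Fintype.card_subtype, ← Nat.card_eq_fintype_card, ← card_submodule]
  rw [Finset.card_erase_of_mem (Finset.mem_erase.2 ⟨ha0, Finset.mem_filter.2 ⟨Finset.mem_univ _, ha⟩⟩),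
    Finset.card_erase_of_mem (Finset.mem_filter.2 ⟨Finset.mem_univ _, zero_mem S⟩), hc]
  omega

theorem card_dvd_of_fibres {α β : Type*} [Finite α] (f : α → β) {m : ℕ}
    (h : ∀ x, Nat.card {y // f y = f x} = m) : m ∣ Nat.card α := by
  classical
  haveI := Fintype.ofFinite α
  rw [Nat.card_eq_fintype_card, ← Finset.card_univ,
    Finset.card_eq_sum_card_fiberwise (f := f) (t := Finset.univ.image f)
      (fun x _ => Finset.mem_image_of_mem f (Finset.mem_univ x))]
  refine Finset.dvd_sum fun b hb => ?_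
  obtain ⟨x, -, rfl⟩ := Finset.mem_image.1 hb
  rw [← Fintype.card_subtype, ← Nat.card_eq_fintype_card, h x]

theorem XData.cls_dvd (hX : XData H X k) {a : V} {S : Submodule (ZMod 2) V} (ha : a ∈ S) (ha0 : a ≠ 0)
    {γ : ℕ} (hγ : ∀ z, Indep2 a z → finrank (ZMod 2) (cls X a z) = γ)
    (hle : ∀ z ∈ S, Indep2 a z → cls X a z ≤ S) : 2 ^ γ - 2 ∣ 2 ^ finrank (ZMod 2) S - 2 := by
  rw [← card_indep_right ha ha0]
  refine card_dvd_of_fibres (fun x : {x : V // x ∈ S ∧ Indep2 a x} => X a x.1) fun ⟨x, hxS, hx⟩ => ?_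
  rw [← hγ x hx, ← card_indep_right (hX.left_mem_cls hx) ha0]
  exact Nat.card_congr
    { toFun := fun y => ⟨y.1.1, (hX.mem_cls_iff hx y.1.2.2).2 y.2, y.1.2.2⟩
      invFun := fun y => ⟨⟨y.1, hle x hxS hx y.2.1, y.2.2⟩, (hX.mem_cls_iff hx y.2.2).1 y.2.1⟩
      left_inv := fun y => rfl
      right_inv := fun y => rfl }

/-! ### The Sylow subgroup of the stabilizer of two vectors -/

theorem card_conj (g : LAut V) {P : Subgroup (LAut V)} {Q : Subgroup (LAut V)}
    (h : ∀ x, g * x * g⁻¹ ∈ Q ↔ x ∈ P) : Nat.card Q = Nat.card P :=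
  Nat.card_congr
    { toFun := fun y => ⟨g⁻¹ * y * g, (h _).1 (by
        rw [show g * (g⁻¹ * (y : LAut V) * g) * g⁻¹ = y by group]; exact y.2)⟩
      invFun := fun y => ⟨g * y * g⁻¹, (h _).2 y.2⟩
      left_inv := fun y => Subtype.ext (show g * (g⁻¹ * (y : LAut V) * g) * g⁻¹ = y by group)
      right_inv := fun y => Subtype.ext (show g⁻¹ * (g * (y : LAut V) * g⁻¹) * g = y by group) }

theorem pstab_conj {g : LAut V} (hg : g ∈ H) (a b : V) (x : LAut V) :
    g * x * g⁻¹ ∈ pstab H (g a) (g b) ↔ x ∈ pstab H a b := by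
  simp only [mem_pstab, symm_apply_mul, inv_apply', LinearEquiv.symm_apply_apply]
  refine and_congr ⟨fun h => ?_, fun h => mul_mem (mul_mem hg h) (inv_mem hg)⟩
    (and_congr g.injective.eq_iff g.injective.eq_iff)
  have := mul_mem (mul_mem (inv_mem hg) h) hg
  rwa [show g⁻¹ * (g * x * g⁻¹) * g = x by group] at this

theorem card_pstab_eq (h2 : Pair2 H) {a b c e : V} (hab : Indep2 a b) (hce : Indep2 c e) :
    Nat.card (pstab H c e) = Nat.card (pstab H a b) := by
  obtain ⟨g, hg, rfl, rfl⟩ := h2 a b c e hab hce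
  exact card_conj g (pstab_conj hg a b)

variable {r : ℕ} [Fact r.Prime]

/-- A maximal `r`-subgroup of the stabilizer of two vectors fixes nothing outside their subspace. -/
theorem XData.fixSub_le (hX : XData H X k) (hr2 : r ≠ 2)
    (hr : (2 : ZMod r) ^ (finrank (ZMod 2) V - k) = 1) {a b : V} (hab : Indep2 a b)
    {R : Subgroup (LAut V)} (hRle : R ≤ pstab H a b) (hR : IsPGroup r R)
    (hmax : ¬ r * Nat.card R ∣ Nat.card (pstab H a b)) : fixSub R ≤ X a b := by
  intro x hx
  by_contra hxX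
  set Γ := lineStab H a b with hΓ
  have hRΓ : R ≤ Γ := fun g hg => ⟨(hRle hg).1, (hRle hg).2.1, Or.inl (hRle hg).2.2⟩
  have horb : orbit Γ x = {y : V | y ∉ X a b} := by
    ext y
    refine ⟨?_, fun hy => ?_⟩
    · rintro ⟨⟨g, hg, hga, hgb⟩, rfl⟩ hy
      have h1 : X (g a) (g b) = X a b := by
        rcases hgb with e | e <;> rw [hga, e]
        exact hX.add_right a b hab
      refine hxX ((hX.map_mem_iff hg hab).1 ?_)
      rw [h1]
      exact hy
    · obtain ⟨g, hg, hga, hgb, e⟩ := hX.transOff a b x y hab hxX hy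
      exact ⟨⟨g, hg, hga, hgb⟩, e⟩
  have hk : k ≤ finrank (ZMod 2) V := by have := hX.add_two_le; omega
  have hdvd : r ∣ Nat.card (orbit Γ x) := by
    have hcx : Nat.card {y : V // y ∈ X a b} = 2 ^ k := by
      rw [← hX.finrank_eq a b hab, ← card_submodule]
    rw [horb, Nat.card_coe_set_eq, show {y : V | y ∉ X a b} = (X a b : Set V)ᶜ from rfl,
      Set.ncard_compl, card_space, ← Nat.card_coe_set_eq]
    erw [hcx]
    rw [← ZMod.natCast_eq_zero_iff, Nat.cast_sub (Nat.pow_le_pow_right two_pos hk), sub_eq_zero]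
    push_cast
    rw [← Nat.sub_add_cancel hk, pow_add, hr, one_mul]
  have hst : Nat.card R ∣ Nat.card (stabilizer Γ x) :=
    Subgroup.card_dvd_of_injective ((Subgroup.inclusion hRΓ).codRestrict (stabilizer Γ x)
        fun g => hx g g.2)
      fun g h e => Subgroup.inclusion_injective hRΓ (congrArg Subtype.val e)
  have h1 : r * Nat.card R ∣ Nat.card Γ := by
    rw [← Nat.card_congr (orbitProdStabilizerEquivGroup Γ x), Nat.card_prod]
    exact mul_dvd_mul hdvd hst
  have hb : Nat.card (stabilizer Γ b) = Nat.card (pstab H a b) :=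
    Nat.card_congr
      { toFun := fun g => ⟨g.1.1, g.1.2.1, g.1.2.2.1, g.2⟩
        invFun := fun g => ⟨⟨g.1, g.2.1, g.2.2.1, Or.inl g.2.2.2⟩, g.2.2.2⟩
        left_inv := fun g => rfl
        right_inv := fun g => rfl }
  have horbb : (orbit Γ b).ncard ≤ 2 := by
    refine le_trans (Set.ncard_le_ncard (t := {b, a + b}) ?_ (Set.toFinite _)) ?_
    · rintro _ ⟨⟨g, -, -, hgb⟩, rfl⟩
      rcases hgb with e | e
      exacts [Or.inl e, Or.inr e]
    · exact (Set.ncard_insert_le _ _).trans (by rw [Set.ncard_singleton])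
  rw [← Nat.card_congr (orbitProdStabilizerEquivGroup Γ b), Nat.card_prod, Nat.card_coe_set_eq, hb] at h1
  have hpos : 0 < (orbit Γ b).ncard := (Set.ncard_pos (Set.toFinite _)).2 (nonempty_orbit _)
  rcases (show (orbit Γ b).ncard = 1 ∨ (orbit Γ b).ncard = 2 by omega) with e | e <;> rw [e] at h1
  · rw [one_mul] at h1
    exact hmax h1
  · refine hmax (Nat.Coprime.dvd_of_dvd_mul_left ?_ h1)
    rw [Nat.coprime_two_right]
    exact ((Fact.out : r.Prime).odd_of_ne_two hr2).mul (odd_card hr2 hR)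

theorem exists_conj {K R R' : Subgroup (LAut V)} (hR : R ≤ K) (hR' : R' ≤ K) (hRp : IsPGroup r R)
    (hc : Nat.card R' = Nat.card R) (hmax : ¬ r * Nat.card R ∣ Nat.card K) :
    ∃ h ∈ K, ∀ x, h * x * h⁻¹ ∈ R' ↔ x ∈ R := by
  have hfac : Nat.card R = r ^ (Nat.card K).factorization r := by
    obtain ⟨m, hm⟩ := IsPGroup.iff_card.1 hRp
    rw [hm]
    congr 1
    have hd : r ^ m ∣ Nat.card K := hm ▸ Subgroup.card_dvd_of_le hR
    refine le_antisymm (((Fact.out : r.Prime).pow_dvd_iff_le_factorization Nat.card_pos.ne').1 hd) ?_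
    by_contra h
    refine hmax ?_
    rw [hm, ← pow_succ']
    exact ((Fact.out : r.Prime).pow_dvd_iff_le_factorization Nat.card_pos.ne').2 (by omega)
  let P₁ : Sylow r K := Sylow.ofCard (R.subgroupOf K)
    (by rw [Nat.card_congr (Subgroup.subgroupOfEquivOfLe hR).toEquiv, hfac])
  let P₂ : Sylow r K := Sylow.ofCard (R'.subgroupOf K)
    (by rw [Nat.card_congr (Subgroup.subgroupOfEquivOfLe hR').toEquiv, hc, hfac])
  obtain ⟨h, hh⟩ := exists_smul_eq K P₁ P₂
  refine ⟨h, h.2, fun x => ?_⟩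
  have hmem : ∀ y : K, h * y * h⁻¹ ∈ (P₂ : Subgroup K) ↔ y ∈ (P₁ : Subgroup K) := fun y => by
    rw [← hh, Sylow.coe_subgroup_smul, show h * y * h⁻¹ = MulAut.conj h y from rfl]
    exact Subgroup.smul_mem_pointwise_smul_iff
  refine ⟨fun hx => ?_, fun hx => ?_⟩
  · have hxK : x ∈ K := by
      have := mul_mem (mul_mem (inv_mem h.2) (hR' hx)) h.2
      rwa [show (h : LAut V)⁻¹ * (h * x * (h : LAut V)⁻¹) * h = x by group] at this
    have := (hmem ⟨x, hxK⟩).1 (Subgroup.mem_subgroupOf.2 hx)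
    exact Subgroup.mem_subgroupOf.1 this
  · exact Subgroup.mem_subgroupOf.1 ((hmem ⟨x, hR hx⟩).2 (Subgroup.mem_subgroupOf.2 hx))

/-- Witt descent: the normalizer of the Sylow subgroup is transitive on pairs of fixed vectors. -/
theorem XData.exists_witt (hX : XData H X k) (hr2 : r ≠ 2)
    (hr : (2 : ZMod r) ^ (finrank (ZMod 2) V - k) = 1) :
    ∃ (v u : V) (R : Subgroup (LAut V)), Indep2 v u ∧ v ∈ fixSub R ∧ u ∈ fixSub R ∧
      R ≤ pstab H v u ∧ IsPGroup r R ∧ ¬ r * Nat.card R ∣ Nat.card (pstab H v u) ∧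
      (∀ a b : V, a ∈ fixSub R → b ∈ fixSub R → Indep2 a b → fixSub R ≤ X a b) ∧
      ∀ a b c e : V, a ∈ fixSub R → b ∈ fixSub R → c ∈ fixSub R → e ∈ fixSub R → Indep2 a b →
        Indep2 c e → ∃ g ∈ normIn H R, g a = c ∧ g b = e := by
  haveI : Nontrivial V := Module.nontrivial_of_finrank_pos (R := ZMod 2) (by
    have := hX.add_two_le; omega)
  obtain ⟨v, hv⟩ := exists_ne (0 : V)
  obtain ⟨u, hvu⟩ := exists_indep (by have := hX.add_two_le; omega) hv
  obtain ⟨P⟩ : Nonempty (Sylow r (pstab H v u)) := Sylow.nonempty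
  set R := (P : Subgroup (pstab H v u)).map (pstab H v u).subtype with hRdef
  have hRle : R ≤ pstab H v u := Subgroup.map_subtype_le _
  have hRp : IsPGroup r R := P.2.map _
  have hmax : ¬ r * Nat.card R ∣ Nat.card (pstab H v u) := by
    rw [hRdef, Subgroup.card_map_of_injective Subtype.val_injective, P.card_eq_multiplicity, ← pow_succ']
    intro h
    have := ((Fact.out : r.Prime).pow_dvd_iff_le_factorization Nat.card_pos.ne').1 h
    omega
  have hsub : ∀ a b : V, a ∈ fixSub R → b ∈ fixSub R → R ≤ pstab H a b := fun a b ha hb g hg =>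
    ⟨(hRle hg).1, ha g hg, hb g hg⟩
  have hmax' : ∀ a b : V, Indep2 a b → ¬ r * Nat.card R ∣ Nat.card (pstab H a b) := fun a b hab => by
    rwa [card_pstab_eq hX.pair2 hvu hab]
  refine ⟨v, u, R, hvu, fun g hg => (hRle hg).2.1, fun g hg => (hRle hg).2.2, hRle, hRp, hmax,
    fun a b ha hb hab => hX.fixSub_le hr2 hr hab (hsub a b ha hb) hRp (hmax' a b hab),
    fun a b c e ha hb hc he hab hce => ?_⟩
  obtain ⟨g, hg, hga, hgb⟩ := hX.pair2 a b c e hab hce
  subst hga hgb
  let R' := R.map (MulAut.conj g).toMonoidHom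
  have hmem : ∀ x, g * x * g⁻¹ ∈ R' ↔ x ∈ R := fun x => by
    refine ⟨?_, fun hx => ⟨x, hx, rfl⟩⟩
    rintro ⟨y, hy, e'⟩
    exact (MulAut.conj g).injective e' ▸ hy
  have hR'le : R' ≤ pstab H (g a) (g b) := by
    rintro _ ⟨y, hy, rfl⟩
    exact (pstab_conj hg a b y).2 (hsub a b ha hb hy)
  obtain ⟨h, hh, hconj⟩ := exists_conj (hsub _ _ hc he) hR'le hRp (card_conj g hmem) (hmax' _ _ hce)
  refine ⟨h⁻¹ * g, ⟨mul_mem (inv_mem hh.1) hg, fun x => ?_⟩, ?_, ?_⟩
  · rw [show h⁻¹ * g * x * (h⁻¹ * g)⁻¹ = h⁻¹ * (g * x * g⁻¹) * h by group, ← hconj,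
      show h * (h⁻¹ * (g * x * g⁻¹) * h) * h⁻¹ = g * x * g⁻¹ by group, hmem]
  · rw [symm_apply_mul, inv_apply']
    exact (LinearEquiv.symm_apply_eq _).2 hh.2.1.symm
  · rw [symm_apply_mul, inv_apply']
    exact (LinearEquiv.symm_apply_eq _).2 hh.2.2.symm

end CfsgLib.TransGL
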